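import Cfsg.Agent.Fusion.Meet.CompLayer

/-!
Every component of a saturated system is normal in a common normal subsystem.
-/

set_option autoImplicit false
set_option linter.style.haveILetI false
set_option linter.unusedSectionVars false

open Cfsg Cfsg.FusionSystem CfsgLib.Fusion CfsgLib.FocCent CfsgLib.NormCent CfsgLib.NormExt
open CfsgLib.SolvIndex

namespace CfsgLib.Meet

universe u

variable {Ω : Type u} [Group Ω]

theorem subnormal_trans {T U S : Subgroup Ω} {C : FusionSystem T} {D : FusionSystem U}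
    {F : FusionSystem S} {p : ℕ} (h₁ : C.IsSubnormalIn D p) (h₂ : D.IsSubnormalIn F p) :
    C.IsSubnormalIn F p := by
  induction h₂ with
  | refl => exact h₁
  | step _ hn ih => exact IsSubnormalIn.step (ih h₁) hn

theorem component_trans {T U S : Subgroup Ω} {C : FusionSystem T} {D : FusionSystem U}
    {F : FusionSystem S} {p : ℕ} (hC : C.IsComponentIn D p) (hD : D.IsNormalIn F p) :
    C.IsComponentIn F p :=
  ⟨subnormal_trans hC.1 (IsSubnormalIn.step (IsSubnormalIn.refl _ _) hD), hC.2⟩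

theorem same_or_proper {T S : Subgroup Ω} {C : FusionSystem T} {F : FusionSystem S} {p : ℕ}
    (h : C.IsSubnormalIn F p) :
    SameMaps C F ∨ ∃ (V : Subgroup Ω) (D : FusionSystem V),
      D.IsNormalIn F p ∧ ¬ SameMaps D F ∧ C.IsSubnormalIn D p := by
  induction h with
  | refl => exact Or.inl ⟨rfl, fun _ => rfl⟩
  | @step U S' C' D F' q hCD hDF ih =>
    by_cases hs : SameMaps D F'
    · obtain ⟨rfl, hh⟩ := hs
      obtain rfl := ext_hom hh
      exact ih
    · exact Or.inr ⟨_, D, hDF, hs, hCD⟩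

section local_

variable {S T R V : Subgroup Ω} {F : FusionSystem S} {C : FusionSystem T} {p : ℕ} [Fact p.Prime]
  [Finite S] (hS : IsPGroup p S)

include hS in
/-- A weakly normal quasisimple subsystem is normal. -/
theorem normal_of_quasisimple (hq : C.Quasisimple p) (hC : C.IsWeaklyNormalIn F p) :
    C.IsNormalIn F p := by
  have hTS : T ≤ S := hC.2.2.2.1.1
  haveI : Finite T := finite_of_le hTS
  have hTp := isPGroup_of_le hS hTS
  obtain ⟨E, hE⟩ := exists_pPrimeResidual p hTp hC.1
  have h := pPrimeResidual_normal hS hC hE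
  obtain rfl := isPPrimeResidual_self hTp hq hE
  exact h

include hS in
/-- Normality of a quasisimple subsystem passes to smaller systems containing it. -/
theorem normal_between (hq : C.Quasisimple p) (hC : C.IsNormalIn F p) {H : FusionSystem V}
    (hH : H.IsSaturated p) (hHF : H.IsSubsystemOf F) (hCH : C.IsSubsystemOf H) :
    C.IsNormalIn H p := by
  have hVS : V ≤ S := le_of_subsystem hHF
  haveI : Finite V := finite_of_le hVS
  exact normal_of_quasisimple (isPGroup_of_le hS hVS) hq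
    (weaklyNormal_of_between (isPGroup_of_le hS hVS) hH hHF hCH hC.1)

include hS in
theorem component_finite (hC : C.IsComponentIn F p) : Finite T ∧ IsPGroup p T ∧ T ≤ S :=
  ⟨finite_of_le (subnormal_le hC.1).1, isPGroup_of_le hS (subnormal_le hC.1).1,
    (subnormal_le hC.1).1⟩

include hS in
/-- A component is not abelian. -/
theorem component_nonabelian (hC : C.IsComponentIn F p) : ¬ IsMulCommutative T := by
  obtain ⟨hf, hp, -⟩ := component_finite hS hC
  exact not_abelian_of_quasisimple p hp hC.2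

include hS in
/-- A component outside a weakly normal support centralizes it. -/
theorem le_centralizer_of_not_le (hC : C.IsComponentIn F p) {K : FusionSystem R}
    (hK : K.IsWeaklyNormalIn F p) (h : ¬ T ≤ R) : T ≤ Subgroup.centralizer (R : Set Ω) :=
  fun x hx => (((component_dichotomy hS hC hK).resolve_left h T (subtype_mem le_rfl)).2.1 hx).2

include hS in
/-- A component centralizing each of two subgroups is not in their product. -/
theorem not_le_sup {A B : Subgroup Ω} (hC : C.IsComponentIn F p)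
    (hA : T ≤ Subgroup.centralizer (A : Set Ω)) (hB : T ≤ Subgroup.centralizer (B : Set Ω)) :
    ¬ T ≤ A ⊔ B := fun h => component_nonabelian hS hC
  (commute_of_le_sup (A := fun b : Bool => bif b then A else B) (h.trans (sup_le
    (le_iSup (fun b : Bool => bif b then A else B) true)
    (le_iSup (fun b : Bool => bif b then A else B) false)))
    fun b => by cases b <;> assumption)

include hS in
/-- In a quasisimple system every component is the whole system, hence normal. -/
theorem component_of_quasisimple (hF : F.Quasisimple p) (hC : C.IsComponentIn F p) :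
    T ≤ S ∧ C.IsNormalIn F p := by
  obtain ⟨hfin, hTp, hTS⟩ := component_finite hS hC
  refine ⟨hTS, ?_⟩
  rcases same_or_proper hC.1 with ⟨rfl, hh⟩ | ⟨V, D, hD, hne, hCD⟩
  · obtain rfl := ext_hom hh
    exact isNormalIn_self hF.1
  · exfalso
    have hTV : T ≤ V := (subnormal_le hCD).1
    rcases center_or_top hS hF hD.1 with h | h
    · exact component_nonabelian hS hC ⟨⟨fun a b => Subtype.ext
        ((F.center_le_centralizer (h (hTV b.2))) a (hTS a.2))⟩⟩
    · subst h
      exact hne ⟨rfl, fun P => Set.Subset.antisymm (hD.1.2.2.1 P)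
        (quasisimple_le_weaklyNormal hS hF hD.1 P)⟩

include hS in
/-- Any finite family of components normal in the system lies in a normal subsystem over the
subgroup they generate. -/
theorem exists_product (hF : F.IsSaturated p) {s : Finset (Subgroup Ω)} (hs : s.Nonempty)
    (h : ∀ X ∈ s, ∃ D : FusionSystem X, D.IsComponentIn F p ∧ D.IsNormalIn F p) :
    ∃ (W : Subgroup Ω) (K : FusionSystem W), K.IsNormalIn F p ∧ W ≤ s.sup id ∧
      ∀ X ∈ s, X ≤ W := by
  induction hs using Finset.Nonempty.cons_induction with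
  | singleton a =>
    obtain ⟨D, -, hD⟩ := h a (Finset.mem_singleton_self a)
    exact ⟨a, D, hD, le_of_eq (by simp), fun X hX => by rw [Finset.mem_singleton.1 hX]⟩
  | cons a s ha hs ih =>
    obtain ⟨W, K, hK, hW, hsW⟩ := ih fun X hX => h X (Finset.mem_cons_of_mem hX)
    obtain ⟨D, hDc, hD⟩ := h a (Finset.mem_cons_self a s)
    rw [Finset.sup_cons]
    by_cases hle : a ≤ W
    · exact ⟨W, K, hK, hW.trans le_sup_right, fun X hX =>
        (Finset.mem_cons.1 hX).elim (fun e => e ▸ hle) (hsW X)⟩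
    · have hc := le_centralizer_of_not_le hS hDc hK.1 hle
      obtain ⟨-, -, K', -, -, -, -, -, hK'⟩ :=
        exists_normal_product hS hD hK fun x hx y hy => (hc hx y hy).symm
      exact ⟨a ⊔ W, K', hK', sup_le_sup_left hW _, fun X hX => (Finset.mem_cons.1 hX).elim
        (fun e => e ▸ le_sup_left) fun hX' => (hsW X hX').trans le_sup_right⟩

include hS in
theorem finite_supports (Q : Subgroup Ω → Prop) :
    {X : Subgroup Ω | (∃ D : FusionSystem X, D.IsComponentIn F p) ∧ Q X}.Finite :=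
  Set.Finite.of_finite_image (f := fun X : Subgroup Ω => (X : Set Ω))
    ((Set.toFinite (S : Set Ω)).finite_subsets.subset fun _ ⟨_, ⟨⟨D, hD⟩, _⟩, e⟩ =>
      e ▸ (subnormal_le hD.1).1)
    SetLike.coe_injective.injOn

include hS in
/-- A proper normal subsystem in whose normal subsystem the components are normal gives a normal
subsystem containing them in which they are normal. -/
theorem exists_block {M : FusionSystem V} (hM : M.IsNormalIn F p) {W : Subgroup Ω}
    {K₀ : FusionSystem W} (hK₀ : K₀.IsNormalIn M p)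
    (hgood : ∀ (X : Subgroup Ω) (D : FusionSystem X), D.IsComponentIn M p →
      X ≤ W ∧ D.IsNormalIn K₀ p) (hC : C.IsComponentIn M p) :
    ∃ (R₁ : Subgroup Ω) (G : FusionSystem R₁), G.IsNormalIn F p ∧ T ≤ R₁ ∧
      ∀ (X : Subgroup Ω) (D : FusionSystem X), D.IsComponentIn F p → X ≤ R₁ →
        D.IsComponentIn G p ∧ D.IsNormalIn G p := by
  have hVS : V ≤ S := hM.1.2.2.2.1.1
  haveI : Finite V := finite_of_le hVS
  have hVp := isPGroup_of_le hS hVS
  have hWV : W ≤ V := hK₀.1.2.2.2.1.1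
  haveI : Finite W := finite_of_le hWV
  obtain ⟨R₁, G, hG, hR₁, hmin⟩ := exists_char hS hM.1 (fun _ => True) fun _ _ _ _ _ => trivial
  have hGK : G.IsSubsystemOf K₀ := hmin W K₀ hK₀.1 fun X D hD _ => (hgood X D hD).1
  refine ⟨R₁, G, hG, hR₁ T C hC trivial, fun X D hD hX => ?_⟩
  have hDG := component_of_le hS hD hG.1 hX
  have hDM := component_of_le hS hD hM.1 (hX.trans ((le_of_subsystem hGK).trans hWV))
  exact ⟨hDG, normal_between (isPGroup_of_le hVp hWV) hD.2 (hgood X D hDM).2 hG.1.1 hGK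
    (component_le hD hS hG.1 hX)⟩

include hS in
/-- The components of a block outside a strongly closed subgroup generate a normal subsystem
commuting with it. -/
theorem exists_commuting_block {R₁ : Subgroup Ω} {G : FusionSystem R₁} (hG : G.IsNormalIn F p)
    (hgood : ∀ (X : Subgroup Ω) (D : FusionSystem X), D.IsComponentIn F p → X ≤ R₁ →
      D.IsComponentIn G p ∧ D.IsNormalIn G p) (hC : C.IsComponentIn F p) (hT : T ≤ R₁)
    {K : FusionSystem R} (hK : K.IsNormalIn F p) (hTR : ¬ T ≤ R) :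
    ∃ (R' : Subgroup Ω) (E : FusionSystem R'), E.IsNormalIn F p ∧ T ≤ R' ∧
      (∀ x ∈ R', ∀ y ∈ R, x * y = y * x) ∧
      ∀ (X : Subgroup Ω) (D : FusionSystem X), D.IsComponentIn F p → X ≤ R' →
        D.IsNormalIn E p := by
  classical
  have hR₁S : R₁ ≤ S := hG.1.2.2.2.1.1
  haveI : Finite R₁ := finite_of_le hR₁S
  have hR₁p := isPGroup_of_le hS hR₁S
  have hRc := hK.1.2.2.2.1
  have hGcomp : ∀ (X : Subgroup Ω) (D : FusionSystem X), D.IsComponentIn G p →
      D.IsComponentIn F p ∧ X ≤ R₁ := fun X D hD =>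
    ⟨component_trans hD hG, (subnormal_le hD.1).1⟩
  obtain ⟨R', E, hE, hR', hmin⟩ := exists_char hS hG.1 (fun X => ¬ X ≤ R) (by
    intro α hα X hXU hX hle
    refine hX fun x hx => ?_
    have h1 : ((α ⟨x, hXU hx⟩ : R₁) : Ω) ∈ R :=
      hle (apply_mem_img (ι := R₁.subtype.comp α.toMonoidHom) (x := ⟨x, hXU hx⟩) hx)
    have h2 := map_mem_of_stronglyClosed hRc ((autGroup_carrier hR₁S).1 (inv_mem hα))
      (x := α ⟨x, hXU hx⟩) h1
    refine Set.mem_of_eq_of_mem ?_ h2
    show x = ((α⁻¹ (α ⟨x, hXU hx⟩) : R₁) : Ω)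
    rw [MulAut.inv_apply_self])
  have hs := finite_supports (F := G) (p := p) hR₁p (fun X => ¬ X ≤ R)
  obtain ⟨W, KW, hKW, hW, hsW⟩ := exists_product hR₁p hG.1.1 (s := hs.toFinset)
    ⟨T, hs.mem_toFinset.2 ⟨⟨C, (hgood T C hC hT).1⟩, hTR⟩⟩ fun X hX => by
      obtain ⟨⟨D, hD⟩, -⟩ := hs.mem_toFinset.1 hX
      exact ⟨D, hD, (hgood X D (hGcomp X D hD).1 (hGcomp X D hD).2).2⟩
  have hEW : E.IsSubsystemOf KW := hmin W KW hKW.1 fun X D hD hX =>
    hsW X (hs.mem_toFinset.2 ⟨⟨D, hD⟩, hX⟩)
  have hcent : hs.toFinset.sup id ≤ Subgroup.centralizer (R : Set Ω) := Finset.sup_le fun X hX => by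
    obtain ⟨⟨D, hD⟩, hX'⟩ := hs.mem_toFinset.1 hX
    exact le_centralizer_of_not_le hS (hGcomp X D hD).1 hK.1 hX'
  refine ⟨R', E, hE, hR' T C (hgood T C hC hT).1 hTR,
    fun x hx y hy => (hcent (hW (le_of_subsystem hEW hx)) y hy).symm, fun X D hD hX => ?_⟩
  have hXR₁ : X ≤ R₁ := hX.trans ((le_of_subsystem hEW).trans hKW.1.2.2.2.1.1)
  exact normal_between hR₁p hD.2 (hgood X D hD hXR₁).2 hE.1.1
    (fun P φ hφ => hKW.1.2.2.1 P (hEW P hφ)) (component_le hD hS hE.1 hX)

include hS in
/-- Adding a commuting normal subsystem. -/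
theorem exists_glue {R' : Subgroup Ω} {K : FusionSystem R} {E : FusionSystem R'}
    (hK : K.IsNormalIn F p) (hE : E.IsNormalIn F p) (hcomm : ∀ x ∈ R, ∀ y ∈ R', x * y = y * x)
    (hgK : ∀ (X : Subgroup Ω) (D : FusionSystem X), D.IsComponentIn F p → X ≤ R →
      D.IsNormalIn K p)
    (hgE : ∀ (X : Subgroup Ω) (D : FusionSystem X), D.IsComponentIn F p → X ≤ R' →
      D.IsNormalIn E p) :
    ∃ K' : FusionSystem (R ⊔ R'), K'.IsNormalIn F p ∧
      ∀ (X : Subgroup Ω) (D : FusionSystem X), D.IsComponentIn F p → X ≤ R ⊔ R' →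
        D.IsNormalIn K' p := by
  obtain ⟨K₁, K₂, K', hK₁, hK₂, hKK, hKE, hcp, hK'⟩ := exists_normal_product hS hK hE hcomm
  haveI : Finite ↥(R ⊔ R') := finite_of_le hK'.1.2.2.2.1.1
  haveI : Finite R := finite_of_le hK.1.2.2.2.1.1
  haveI : Finite R' := finite_of_le hE.1.2.2.2.1.1
  refine ⟨K', hK', fun X D hD hX => ?_⟩
  by_cases h₁ : X ≤ R
  · exact hcp.normal_of_factor hK'.1.1 (normal_between (isPGroup_of_le hS hK.1.2.2.2.1.1)
      hD.2 (hgK X D hD h₁) hK₁.1.1 hKK (component_le hD hS hK₁.1 h₁))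
  by_cases h₂ : X ≤ R'
  · exact hcp.symm.normal_of_factor hK'.1.1 (normal_between (isPGroup_of_le hS hE.1.2.2.2.1.1)
      hD.2 (hgE X D hD h₂) hK₂.1.1 hKE (component_le hD hS hK₂.1 h₂))
  exact absurd hX (not_le_sup hS hD (le_centralizer_of_not_le hS hD hK.1 h₁)
    (le_centralizer_of_not_le hS hD hE.1 h₂))

end local_

/-- **Every component is normal in a common normal subsystem.** -/
theorem exists_all_normal {S : Subgroup Ω} [Finite S] {p : ℕ} [Fact p.Prime] (hS : IsPGroup p S)
    {F : FusionSystem S} (hF : F.IsSaturated p) :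
    ∃ (R : Subgroup Ω) (K : FusionSystem R), K.IsNormalIn F p ∧
      ∀ (X : Subgroup Ω) (D : FusionSystem X), D.IsComponentIn F p →
        X ≤ R ∧ D.IsNormalIn K p := by
  classical
  induction hn : SolvIndex.homCount F using Nat.strong_induction_on generalizing S with
  | _ n IH =>
  subst hn
  by_cases hq : ∃ (T : Subgroup Ω) (C : FusionSystem T), C.IsComponentIn F p ∧ SameMaps C F
  · obtain ⟨T, C, hC, rfl, hh⟩ := hq
    obtain rfl := ext_hom hh
    exact ⟨T, C, isNormalIn_self hF, fun X D hD => component_of_quasisimple hS hC.2 hD⟩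
  have hblock : ∀ (T : Subgroup Ω) (C : FusionSystem T), C.IsComponentIn F p →
      ∃ (R₁ : Subgroup Ω) (G : FusionSystem R₁), G.IsNormalIn F p ∧ T ≤ R₁ ∧
        ∀ (X : Subgroup Ω) (D : FusionSystem X), D.IsComponentIn F p → X ≤ R₁ →
          D.IsComponentIn G p ∧ D.IsNormalIn G p := by
    intro T C hC
    rcases same_or_proper hC.1 with hs | ⟨V, M, hM, hne, hCM⟩
    · exact absurd ⟨T, C, hC, hs⟩ hq
    have hVS : V ≤ S := hM.1.2.2.2.1.1
    haveI : Finite V := finite_of_le hVS
    obtain ⟨W, K₀, hK₀, hgood⟩ :=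
      IH _ (SolvIndex.homCount_lt hM.1.2.2.1 hne) (isPGroup_of_le hS hVS) hM.1.1 rfl
    exact exists_block hS hM hK₀ hgood ⟨hCM, hC.2⟩
  have hs := finite_supports (F := F) (p := p) hS (fun _ => True)
  rcases hs.toFinset.eq_empty_or_nonempty with h0 | hne
  · exact ⟨S, F, isNormalIn_self hF, fun X D hD => absurd
      (hs.mem_toFinset.2 ⟨⟨D, hD⟩, trivial⟩) (by rw [h0]; exact Finset.notMem_empty X)⟩
  suffices h : ∀ s : Finset (Subgroup Ω), s.Nonempty →
      (∀ X ∈ s, ∃ D : FusionSystem X, D.IsComponentIn F p) →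
      ∃ (R : Subgroup Ω) (K : FusionSystem R), K.IsNormalIn F p ∧ (∀ X ∈ s, X ≤ R) ∧
        ∀ (X : Subgroup Ω) (D : FusionSystem X), D.IsComponentIn F p → X ≤ R →
          D.IsNormalIn K p by
    obtain ⟨R, K, hK, hsR, hgood⟩ := h hs.toFinset hne fun X hX => (hs.mem_toFinset.1 hX).1
    exact ⟨R, K, hK, fun X D hD =>
      ⟨hsR X (hs.mem_toFinset.2 ⟨⟨D, hD⟩, trivial⟩),
        hgood X D hD (hsR X (hs.mem_toFinset.2 ⟨⟨D, hD⟩, trivial⟩))⟩⟩
  intro s hs' hcomp
  induction hs' using Finset.Nonempty.cons_induction with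
  | singleton a =>
    obtain ⟨C, hC⟩ := hcomp a (Finset.mem_singleton_self a)
    obtain ⟨R₁, G, hG, hT, hgood⟩ := hblock a C hC
    exact ⟨R₁, G, hG, fun X hX => by rw [Finset.mem_singleton.1 hX]; exact hT,
      fun X D hD hX => (hgood X D hD hX).2⟩
  | cons a s ha hs' ih =>
    obtain ⟨R, K, hK, hsR, hgood⟩ := ih fun X hX => hcomp X (Finset.mem_cons_of_mem hX)
    by_cases hle : a ≤ R
    · exact ⟨R, K, hK, fun X hX => (Finset.mem_cons.1 hX).elim (fun e => e ▸ hle) (hsR X), hgood⟩
    obtain ⟨C, hC⟩ := hcomp a (Finset.mem_cons_self a s)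
    obtain ⟨R₁, G, hG, hT, hgG⟩ := hblock a C hC
    obtain ⟨R', E, hE, hTR', hcomm, hgE⟩ := exists_commuting_block hS hG hgG hC hT hK hle
    obtain ⟨K', hK', hg'⟩ := exists_glue hS hK hE (fun x hx y hy => (hcomm y hy x hx).symm)
      hgood hgE
    exact ⟨R ⊔ R', K', hK', fun X hX => (Finset.mem_cons.1 hX).elim
      (fun e => e ▸ hTR'.trans le_sup_right) fun h => (hsR X h).trans le_sup_left, hg'⟩

end CfsgLib.Meet
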