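import Cfsg.Agent.Fusion.Meet.GenSystem
import Cfsg.Agent.Fusion.HGen.Main

/-!
The system generated by an invariant family is saturated and weakly normal, and its automorphism
groups on the members are those of the family.
-/

set_option autoImplicit false
set_option linter.style.haveILetI false
set_option linter.unusedSectionVars false
set_option maxHeartbeats 1000000

open Cfsg Cfsg.FusionSystem CfsgLib.Fusion CfsgLib.FocCent CfsgLib.NormCent CfsgLib.NormExt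

namespace CfsgLib.Meet

variable {Ω : Type*} [Group Ω] {S R : Subgroup Ω} {F : FusionSystem S} {p : ℕ}
  {A : ∀ P : Subgroup Ω, Subgroup (MulAut P)}

/-- The automorphisms of the generated system on `P` belong to the family. -/
def AutOK (F : FusionSystem S) (A : ∀ P : Subgroup Ω, Subgroup (MulAut P)) {R : Subgroup Ω}
    (hR : F.StronglyClosed R) (P : Subgroup Ω) : Prop :=
  ∀ (f : Ω → Ω) (a : MulAut P), Mor (genSystem F A hR) P f →
    (∀ x : P, ((a x : P) : Ω) = f x) → a ∈ A P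

/-- Maps of the generated system on `P` extend as far as they can inside the normalizer. -/
def ExtOK (F : FusionSystem S) (A : ∀ P : Subgroup Ω, Subgroup (MulAut P)) {R : Subgroup Ω}
    (hR : F.StronglyClosed R) (P : Subgroup Ω) : Prop :=
  ∀ (P' W : Subgroup Ω) (f : Ω → Ω), Mor (genSystem F A hR) P f → Im f P P' → P ≤ W →
    W ≤ normalizerIn R P → (∀ w ∈ W, ∃ r ∈ R, ∀ x ∈ P, f (w * x * w⁻¹) = r * f x * r⁻¹) →
    ∃ g, Mor (genSystem F A hR) W g ∧ ∀ x ∈ P, g x = f x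

/-- What is known above the order `n`. -/
structure Above (F : FusionSystem S) (A : ∀ P : Subgroup Ω, Subgroup (MulAut P)) {R : Subgroup Ω}
    (hR : F.StronglyClosed R) (n : ℕ) : Prop where
  frat : ∀ W : Subgroup Ω, W ≤ R → n < Nat.card W → ∀ f, Mor F W f → Spl F A hR W f
  aut : ∀ W : Subgroup Ω, SelfCentralizingIn F R W → n < Nat.card W → AutOK F A hR W
  ext : ∀ W : Subgroup Ω, SelfCentralizingIn F R W → n < Nat.card W → ExtOK F A hR W

/-- The normal form of a map between members of one order. -/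
def NF (F : FusionSystem S) (p : ℕ) (A : ∀ P : Subgroup Ω, Subgroup (MulAut P)) {R : Subgroup Ω}
    (hR : F.StronglyClosed R) (P : Subgroup Ω) (f : Ω → Ω) : Prop :=
  ∀ (P' Q Q' : Subgroup Ω) (d d' : Ω → Ω), Im f P P' → Good F p R A Q → Good F p R A Q' →
    Mor (genSystem F A hR) (normalizerIn R P) d → Im d P Q →
    Mor (genSystem F A hR) (normalizerIn R P') d' → Im d' P' Q' →
    ∃ a ∈ A Q', ∃ fa g : Ω → Ω, (∀ y : Q', fa y = ((a y : Q') : Ω)) ∧
      Mor (genSystem F A hR) (normalizerIn R Q) g ∧ Im g Q Q' ∧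
      ∀ x ∈ P, d' (f x) = fa (g (d x))

theorem NF.congr {hR : F.StronglyClosed R} {P : Subgroup Ω} {f f' : Ω → Ω}
    (hf : NF F p A hR P f) (e : ∀ x ∈ P, f' x = f x) : NF F p A hR P f' := by
  intro P' Q Q' d d' hi hQ hQ' hd hdi hd' hd'i
  obtain ⟨a, ha, fa, g, hfa, hg, hgi, he⟩ :=
    hf P' Q Q' d d' (hi.congr fun x hx => (e x hx).symm) hQ hQ' hd hdi hd' hd'i
  exact ⟨a, ha, fa, g, hfa, hg, hgi, fun x hx => by rw [e x hx, he x hx]⟩

variable [Finite S] [Fact p.Prime] (hS : IsPGroup p S) (hF : F.IsSaturated p)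
  (h : IsInvMap F p R A)

include hS in
theorem lt_normalizerIn_R (hR : F.StronglyClosed R) {P : Subgroup Ω} (hP : P < R) :
    P < normalizerIn R P ∧ Nat.card P < Nat.card (normalizerIn R P) := by
  have h1 := lt_normalizerIn p hS hR.1 hP
  exact ⟨h1, card_lt_of_lt ((normalizerIn_le_S P).trans hR.1) h1⟩

theorem lt_R_of_card {P Q : Subgroup Ω} (hR : F.StronglyClosed R) (hP : P < R) (hQ : Q ≤ R)
    (hc : Nat.card Q = Nat.card P) : Q < R :=
  lt_of_le_of_ne hQ fun e => (card_lt_of_lt hR.1 hP).ne (hc.symm.trans (by rw [e]))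

include hS hF h in
theorem exists_good {n : ℕ} (ab : Above F A h.closed n) {P : Subgroup Ω}
    (hP : SelfCentralizingIn F R P) (hPn : Nat.card P = n) (hlt : P < R) :
    ∃ (Q : Subgroup Ω) (d : Ω → Ω), Good F p R A Q ∧
      Mor (genSystem F A h.closed) (normalizerIn R P) d ∧ Im d P Q := by
  have hR := h.closed
  have hPS : P ≤ S := hP.1.trans hR.1
  obtain ⟨Q₀, hPQ₀, hn⟩ := exists_fullyNormalized F hPS
  obtain ⟨h₁, h₂⟩ := good_of_fullyNormalized p hS hF hn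
  obtain ⟨η, hη, -, hmap⟩ := exists_map_normalizer p hS h₁ h₂ hPQ₀
  obtain ⟨f, hf, hfe⟩ := Mor.of_mem hη
  have hNS : normalizerIn R P ≤ normalizerIn S P := inf_le_inf_right _ hR.1
  have hfi : Im f P Q₀ := fun y => by
    rw [← hmap, mem_map_subgroupOf]
    constructor
    · rintro ⟨x, hx, hxP, e⟩
      exact ⟨x, hxP, (hfe ⟨x, hx⟩).trans e⟩
    · rintro ⟨x, hx, e⟩
      exact ⟨x, le_normalizerIn hPS hx, hx, (hfe ⟨x, le_normalizerIn hPS hx⟩).symm.trans e⟩
  obtain ⟨α, hα, d, hd, he⟩ := ab.frat _ (normalizerIn_le_S P)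
    (hPn ▸ (lt_normalizerIn_R hS hR hlt).2) f (hf.mono hNS)
  have hPN : P ≤ normalizerIn R P := le_normalizerIn hP.1
  obtain ⟨Q, hQ⟩ := hd.exists_im hPN
  have hgood : Good F p R A Q₀ := h.good (hP.of_isConj hR hPQ₀) hn
  have hαi : Im (extAut α⁻¹) Q₀ Q := fun y => by
    constructor
    · intro hy
      obtain ⟨x, hx, rfl⟩ := hQ.surj hy
      exact ⟨f x, hfi.mem hx, by rw [he x (hPN hx), extAut_inv_apply]⟩
    · rintro ⟨z, hz, rfl⟩
      obtain ⟨x, hx, rfl⟩ := hfi.surj hz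
      rw [he x (hPN hx), extAut_inv_apply]
      exact hQ.mem hx
  exact ⟨Q, d, hgood.transport h.toIsInvBase
    ((mor_extAut (F := F) hR.1 (inv_mem hα)).mono (normalizerIn_le_S Q₀)) hαi, hd, hQ⟩

include hS hF h in
/-- Every map of `F` inside `R` is a map of the generated system followed by an automorphism. -/
theorem frat_step {P : Subgroup Ω} (hPR : P ≤ R) (ab : Above F A h.closed (Nat.card P))
    {f : Ω → Ω} (hf : Mor F P f) : Spl F A h.closed P f := by
  have hR := h.closed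
  have hb := h.toIsInvBase
  have hPS : P ≤ S := hPR.trans hR.1
  obtain ⟨P', hP'⟩ := hf.exists_im (le_refl P)
  have hP'R : P' ≤ R := fun y hy => by
    obtain ⟨x, hx, rfl⟩ := hP'.surj hy
    exact mor_mem_R hR hf hx (hPR hx)
  rcases hPR.eq_or_lt with heq | hlt
  · subst heq
    obtain ⟨α, hα, hαe⟩ := exists_aut_of_self hf le_rfl fun x hx => mor_mem_R hR hf hx hx
    exact ⟨α, hα, id, Mor.id_mor le_rfl,
      fun x hx => (hαe ⟨x, hx⟩).symm.trans (extAut_of_mem α hx).symm⟩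
  obtain ⟨Q, hPQ, hn⟩ := exists_fullyNormalized F hPS
  obtain ⟨h₁, h₂⟩ := good_of_fullyNormalized p hS hF hn
  have hto : ∀ P₁ : Subgroup Ω, P₁ ≤ R → Nat.card P₁ = Nat.card P → F.IsConj P₁ Q →
      ∃ u, Mor F P₁ u ∧ Im u P₁ Q ∧ Spl F A hR P₁ u := by
    intro P₁ hP₁ hc hconj
    obtain ⟨η, hη, -, hmap⟩ := exists_map_normalizer p hS h₁ h₂ hconj
    obtain ⟨u, hu, hue⟩ := Mor.of_mem hη
    have hP₁N : P₁ ≤ normalizerIn S P₁ := le_normalizerIn (hP₁.trans hR.1)
    refine ⟨u, hu.mono hP₁N, fun y => ?_, ?_⟩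
    · rw [← hmap, mem_map_subgroupOf]
      constructor
      · rintro ⟨x, hx, hxP, e⟩
        exact ⟨x, hxP, (hue ⟨x, hx⟩).trans e⟩
      · rintro ⟨x, hx, e⟩
        exact ⟨x, hP₁N hx, hx, (hue ⟨x, hP₁N hx⟩).symm.trans e⟩
    · exact (ab.frat _ (normalizerIn_le_S P₁)
        (hc ▸ (lt_normalizerIn_R hS hR (lt_R_of_card hR hlt hP₁ hc)).2) u
        (hu.mono (inf_le_inf_right _ hR.1))).mono (le_normalizerIn hP₁)
  obtain ⟨u, hu, hui, hus⟩ := hto P hPR rfl hPQ
  have hP'c : Nat.card P' = Nat.card P := hf.card_im le_rfl hP'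
  obtain ⟨u', hu', hu'i, hu's⟩ :=
    hto P' hP'R hP'c (isConj_trans (isConj_symm (hf.isConj le_rfl hP')) hPQ)
  obtain ⟨ui, hui', huii, hu1, -⟩ := hu.exists_inv hui
  obtain ⟨u'i, -, hu'ii, hu'1, -⟩ := hu'.exists_inv hu'i
  let θ : Ω → Ω := u' ∘ f ∘ ui
  have hθ : Mor F Q θ := (hui'.comp hf fun x hx => huii.mem hx).comp hu' fun x hx =>
    hP'.mem (huii.mem hx)
  have hθi : Im θ Q Q := (huii.comp hP').comp hu'i
  have hQR : Q ≤ R := fun y hy => by
    obtain ⟨x, hx, rfl⟩ := hui.surj hy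
    exact mor_mem_R hR hu hx (hPR hx)
  have hQc : Nat.card Q = Nat.card P := hu.card_im le_rfl hui
  have hQlt : Q < R := lt_R_of_card hR hlt hQR hQc
  have hfc := fullyCentralized_of_fullyNormalized p hS hF hn
  have key : Spl F A hR Q θ := by
    by_cases hC : centralizerIn R Q ≤ Q
    · have hsc := sc_of_fullyCentralized hS hF hR hQR hfc hC
      obtain ⟨a, ha, hae⟩ := exists_isoIn hθ le_rfl hθi
      have haF : a ∈ F.autGroup Q := mem_aut_of_isoIn ha
      have hB : ∀ b ∈ (autInducedBy R Q).map (MulAut.congr a).toMonoidHom, b ∈ A Q := by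
        rintro _ ⟨β, hβ, rfl⟩
        exact h.equiv hsc ha (h.inn hsc hβ)
      obtain ⟨g, hg, hgB⟩ := (h.good hsc hn).exists_conj_le hS hb
        ((isPGroup_autInducedBy (isPGroup_of_le hS hR.1) Q).map _) hB
      obtain ⟨fg, hfg, hfgi, hfge⟩ := mor_gen hb hsc hg
      obtain ⟨gi, hgi, -, hgi1, -⟩ := hfg.exists_inv hfgi
      obtain ⟨ν, hν, hνe⟩ := receptive_mor (N := normalizerIn R Q)
        (receptive_of_fullyCentralized p hS hF hfc)
        (hθ.comp (mor_genF hR hfg) fun x hx => hθi.mem hx) (hθi.comp hfgi) fun r hr => by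
          obtain ⟨s, hs, hse⟩ := mem_autInducedBy.1 (hgB _
            ⟨conjAut R Q ⟨r, hr⟩, mem_autInducedBy.2 ⟨r, hr.1, fun _ => rfl⟩, rfl⟩)
          refine ⟨hR.1 hr.1, hr.2, s, hR.1 hs, fun x hx => ?_⟩
          have h1 := hse (g (a ⟨x, hx⟩))
          show fg (θ (r * x * r⁻¹)) = s * fg (θ x) * s⁻¹
          have hx' : r * x * r⁻¹ ∈ Q := (Subgroup.mem_normalizer_iff.1 hr.2 x).1 hx
          rw [← hae ⟨x, hx⟩, hfge, ← hae ⟨_, hx'⟩, hfge, ← h1, MulAut.mul_apply,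
            MulAut.mul_apply, MulAut.inv_apply_self, MulEquiv.coe_toMonoidHom, congr_eq_conj, MulAut.mul_apply,
            MulAut.mul_apply, MulAut.inv_apply_self]
          rfl
      have hνs : Spl F A hR Q (fg ∘ θ) :=
        ((ab.frat _ (normalizerIn_le_S Q) (hQc ▸ (lt_normalizerIn_R hS hR hQlt).2) ν
          (hν.mono le_sup_left)).mono (le_normalizerIn hQR)).congr fun x hx => (hνe x hx).symm
      refine (Spl.comp hb hνs (Spl.of_gen hR hgi) fun x hx => hfgi.mem (hθi.mem hx)).congr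
        fun x hx => ?_
      exact (hgi1 _ (hθi.mem hx)).symm
    · have hlt2 : Q < Q ⊔ centralizerIn R Q :=
        lt_of_le_of_ne le_sup_left fun e => hC (le_sup_right.trans e.ge)
      obtain ⟨ν, hν, hνe⟩ := receptive_mor (N := centralizerIn R Q)
        (receptive_of_fullyCentralized p hS hF hfc) hθ hθi fun r hr =>
          ⟨hR.1 hr.1, centralizer_le_normalizer' Q hr.2, 1, one_mem _, fun x hx => by
            rw [conj_eq_of_mem_centralizerIn hr hx, one_mul, inv_one, mul_one]⟩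
      refine ((ab.frat (centralizerIn R Q ⊔ Q) (sup_le (centralizerIn_le_S Q) hQR) ?_ ν hν).mono
        le_sup_right).congr fun x hx => (hνe x hx).symm
      rw [sup_comm, ← hQc]
      exact card_lt_of_lt ((sup_le hQR (centralizerIn_le_S Q)).trans hR.1) hlt2
  refine ((Spl.comp hb hus key fun x hx => hui.mem hx).comp hb
    (hu's.inverse hb hu'i hu'1) fun x hx => hθi.mem (hui.mem hx)).congr fun x hx => ?_
  show f x = u'i (u' (f (ui (u x))))
  rw [hu1 x hx, hu'1 _ (hP'.mem hx)]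

include hS h in
/-- A map of the generated system on a subgroup properly between `P` and its normalizer has the
normal form. -/
theorem nf_edge {n : ℕ} (ab : Above F A h.closed n) {P : Subgroup Ω}
    (hP : SelfCentralizingIn F R P) (hPn : Nat.card P = n) {W : Subgroup Ω} (hPW : P < W)
    (hW : W ≤ normalizerIn R P) {f : Ω → Ω} (hf : Mor (genSystem F A h.closed) W f) :
    NF F p A h.closed P f := by
  intro P' Q Q' d d' hi hQ hQ' hd hdi hd' hd'i
  have hR := h.closed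
  have hb := h.toIsInvBase
  haveI : Finite R := finite_of_le hR.1
  let D := genSystem F A hR
  have hWR : W ≤ R := hW.trans (normalizerIn_le_S P)
  have hQS : Q ≤ S := hQ.1.1.trans hR.1
  have hPN : P ≤ normalizerIn R P := le_normalizerIn hP.1
  have hfW : ∀ w ∈ W, f w ∈ normalizerIn R P' := fun w hw =>
    mor_normalizerIn hR (mor_genF hR hf) hPW.le hi hw (hW hw)
  obtain ⟨di, hdi', hdii, hd1, -⟩ := (hd.mono hPN).exists_inv hdi
  obtain ⟨W₁, hW₁⟩ := hd.exists_im hW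
  obtain ⟨dW, hdW, hdWi, hdW1, hdW2⟩ := (hd.mono hW).exists_inv hW₁
  let e : Ω → Ω := d' ∘ f ∘ dW
  have he : Mor D W₁ e := (hdW.comp hf fun x hx => hdWi.mem hx).comp hd' fun x hx =>
    hfW _ (hdWi.mem hx)
  have hQW₁ : Q ≤ W₁ := fun y hy => by
    obtain ⟨x, hx, rfl⟩ := hdi.surj hy
    exact hW₁.mem (hPW.le hx)
  have hW₁N : W₁ ≤ normalizerIn R Q := fun y hy => by
    obtain ⟨x, hx, rfl⟩ := hW₁.surj hy
    exact mor_normalizerIn hR (mor_genF hR hd) hPN hdi (hW hx) (hW hx)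
  have hei : Im e Q Q' := fun y => by
    constructor
    · intro hy
      obtain ⟨v, hv, rfl⟩ := hd'i.surj hy
      obtain ⟨x, hx, rfl⟩ := hi.surj hv
      refine ⟨d x, hdi.mem hx, ?_⟩
      show d' (f (dW (d x))) = _
      rw [hdW1 x (hPW.le hx)]
    · rintro ⟨z, hz, rfl⟩
      obtain ⟨x, hx, rfl⟩ := hdi.surj hz
      show d' (f (dW (d x))) ∈ Q'
      rw [hdW1 x (hPW.le hx)]
      exact hd'i.mem (hi.mem hx)
  obtain ⟨eE, hE', hEe⟩ := exists_isoIn (mor_genF hR he) hQW₁ hei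
  have hB : ∀ b ∈ (autInducedBy R Q).map (MulAut.congr eE).toMonoidHom, b ∈ A Q' := by
    rintro _ ⟨β, hβ, rfl⟩
    exact h.equiv hQ.1 hE' (h.inn hQ.1 hβ)
  obtain ⟨c, hc, hcB⟩ := hQ'.exists_conj_le hS hb
    ((isPGroup_autInducedBy (isPGroup_of_le hS hR.1) Q).map _) hB
  obtain ⟨W₁', hW₁'⟩ := he.exists_im (le_refl W₁)
  have hW₁'N : W₁' ≤ normalizerIn R Q' := fun y hy => by
    obtain ⟨x, hx, rfl⟩ := hW₁'.surj hy
    exact mor_normalizerIn hR (mor_genF hR he) hQW₁ hei hx (hW₁N hx)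
  obtain ⟨k, hk, hke⟩ := exists_gen_ext hS h hQ' hc (W := W₁') (fun y hy => by
      obtain ⟨x, hx, rfl⟩ := hei.surj hy
      exact hW₁'.mem (hQW₁ hx)) hW₁'N fun β hβ => by
    obtain ⟨w', hw', hwb⟩ := mem_autInducedBy.1 hβ
    obtain ⟨w, hw, rfl⟩ := hW₁'.surj hw'
    refine hcB β ⟨conjAut R Q ⟨w, hW₁N hw⟩, mem_autInducedBy.2 ⟨w, (hW₁N hw).1, fun _ => rfl⟩, ?_⟩
    refine MulEquiv.ext fun y => Subtype.ext ?_
    rw [hwb]
    exact congr_conj_apply (mor_genF hR he) hQW₁ hEe hw (fun _ => rfl) y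
  let h₀ : Ω → Ω := k ∘ e
  have hh₀ : Mor D W₁ h₀ := he.comp hk fun x hx => hW₁'.mem hx
  have hh₀q : ∀ q : Q, h₀ q = ((c (eE q) : Q') : Ω) := fun q => by
    show k (e q) = _
    rw [← hEe q, hke]
  have hh₀i : Im h₀ Q Q' := fun y => by
    constructor
    · intro hy
      exact ⟨_, SetLike.coe_mem (eE.symm (c⁻¹ ⟨y, hy⟩)), by
        rw [hh₀q, eE.apply_symm_apply, MulAut.apply_inv_self]⟩
    · rintro ⟨z, hz, rfl⟩
      exact Set.mem_of_eq_of_mem (hh₀q ⟨z, hz⟩) (SetLike.coe_mem _)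
  have hcard : n < Nat.card W₁ := by
    rw [hd.card_im hW hW₁, ← hPn]
    exact card_lt_of_lt (hWR.trans hR.1) hPW
  have hclimb : ∀ U : Subgroup Ω, W₁ ≤ U → U ≤ normalizerIn R Q →
      ∀ g, Mor D U g → (∀ x ∈ Q, g x = h₀ x) →
      ∃ g', Mor D (normalizerIn R Q) g' ∧ ∀ x ∈ Q, g' x = h₀ x := by
    intro U
    induction hm : Nat.card (normalizerIn R Q) - Nat.card U using Nat.strong_induction_on
      generalizing U with
    | _ m IH =>
    intro hWU hUN g hg hge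
    subst hm
    rcases hUN.eq_or_lt with heq | hlt
    · exact ⟨g, heq ▸ hg, hge⟩
    have hUS : normalizerIn R Q ≤ S := (normalizerIn_le_S Q).trans hR.1
    have hU2 := lt_normalizerIn p hS hUS hlt
    have hQU : Q ≤ U := hQW₁.trans hWU
    have hUR : U ≤ R := hUN.trans (normalizerIn_le_S Q)
    have hUsc : SelfCentralizingIn F R U := hQ.1.mono hQU hUR
    have hUn : n < Nat.card U := hcard.trans_le (card_le_of_le (hUR.trans hR.1) hWU)
    obtain ⟨U', hU'⟩ := hg.exists_im (le_refl U)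
    obtain ⟨gi, hgi, hgii, hgi1, hgi2⟩ := hg.exists_inv hU'
    have hgQ : Im g Q Q' := hh₀i.congr hge
    have hQU' : Q' ≤ U' := fun y hy => by
      obtain ⟨x, hx, rfl⟩ := hgQ.surj hy
      exact hU'.mem (hQU hx)
    have hU'N : U' ≤ normalizerIn R Q' := fun y hy => by
      obtain ⟨x, hx, rfl⟩ := hU'.surj hy
      exact mor_normalizerIn hR (mor_genF hR hg) hQU hgQ hx (hUN hx)
    have hext : ∀ u ∈ normalizerIn (normalizerIn R Q) U, ∃ r ∈ R, ∀ x ∈ U,
        g (u * x * u⁻¹) = r * g x * r⁻¹ := by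
      intro u hu
      obtain ⟨r, hr, hrb⟩ := mem_autInducedBy.1 (hcB _
        ⟨conjAut R Q ⟨u, hu.1⟩, mem_autInducedBy.2 ⟨u, hu.1.1, fun _ => rfl⟩, rfl⟩)
      have hrq : ∀ q ∈ Q, r * g q * r⁻¹ = g (u * q * u⁻¹) := by
        intro q hq
        have hq' : u * q * u⁻¹ ∈ Q := (Subgroup.mem_normalizer_iff.1 hu.1.2 q).1 hq
        rw [hge q hq, hge _ hq', hh₀q ⟨q, hq⟩, hh₀q ⟨_, hq'⟩, ← hrb, MulAut.mul_apply,
          MulAut.mul_apply, MulAut.inv_apply_self, MulEquiv.coe_toMonoidHom, congr_apply_apply]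
        rfl
      have huU : ∀ x ∈ U, u * x * u⁻¹ ∈ U := fun x hx =>
        (Subgroup.mem_normalizer_iff.1 hu.2 x).1 hx
      have huU' : ∀ x ∈ U, u⁻¹ * x * u ∈ U := fun x hx =>
        (Subgroup.mem_normalizer_iff''.1 hu.2 x).1 hx
      have hrU : ∀ x ∈ U, r * g x * r⁻¹ ∈ U' := by
        intro x hx
        have h1 : (g (u * x * u⁻¹))⁻¹ * (r * g x * r⁻¹) ∈ centralizerIn R Q' := by
          refine ⟨mul_mem (R.inv_mem (hU'N (hU'.mem (huU x hx))).1)
            (mul_mem (mul_mem hr (hU'N (hU'.mem hx)).1) (R.inv_mem hr)),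
            diff_mem_centralizer fun z hz => ?_⟩
          obtain ⟨q, hq, rfl⟩ := hgQ.surj hz
          have hq1 : u⁻¹ * q * u ∈ Q := (Subgroup.mem_normalizer_iff''.1 hu.1.2 q).1 hq
          have hq2 : x * (u⁻¹ * q * u) * x⁻¹ ∈ Q :=
            (Subgroup.mem_normalizer_iff.1 (hUN hx).2 _).1 hq1
          have e1 := hrq _ hq1
          rw [show u * (u⁻¹ * q * u) * u⁻¹ = q by group] at e1
          have e2 := hrq _ hq2
          rw [hg.map_conj hx (hQU hq1)] at e2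
          rw [← hg.map_conj (huU x hx) (hQU hq),
            show u * x * u⁻¹ * q * (u * x * u⁻¹)⁻¹ = u * (x * (u⁻¹ * q * u) * x⁻¹) * u⁻¹ by group,
            ← e2, ← e1]
          group
        obtain ⟨q, hq, hqe⟩ := hgQ.surj (centralizer_le_of_sc hQ'.1 (hQ'.1.1.trans hR.1) h1)
        have h2 := U'.mul_mem (hU'.mem (huU x hx)) (hQU' (hgQ.mem hq))
        rwa [hqe, mul_inv_cancel_left] at h2
      let δ : Ω → Ω := fun x => gi (r * g (u⁻¹ * x * u) * r⁻¹)
      have hδ : Mor D U δ := by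
        have h1 : Mor D U (fun x => u⁻¹ * x * u⁻¹⁻¹) := Mor.conj_mor hUR (R.inv_mem hu.1.1)
        have h2 := (h1.comp hg fun x hx => by rw [inv_inv]; exact huU' x hx).comp
          (Mor.conj_mor (F := D) (U := U') (hU'N.trans (normalizerIn_le_S Q')) hr) fun x hx => ?_
        · refine (h2.comp hgi fun x hx => ?_).congr fun x _ => ?_
          · show r * g (u⁻¹ * x * u⁻¹⁻¹) * r⁻¹ ∈ U'
            rw [inv_inv]
            exact hrU _ (huU' x hx)
          · show δ x = gi (r * g (u⁻¹ * x * u⁻¹⁻¹) * r⁻¹)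
            rw [inv_inv]
        · show g (u⁻¹ * x * u⁻¹⁻¹) ∈ U'
          rw [inv_inv]
          exact hU'.mem (huU' x hx)
      obtain ⟨δa, -, hδe⟩ := exists_aut_of_self hδ le_rfl fun x hx =>
        hgii.mem (hrU _ (huU' x hx))
      have hδA := ab.aut U hUsc hUn δ δa hδ hδe
      obtain ⟨z, hz, -, hzw⟩ := h.uniq hS hQ.1 hQU hUN hδA fun w hw => Subtype.ext (by
        have hq1 : u⁻¹ * (w : Ω) * u ∈ Q := (Subgroup.mem_normalizer_iff''.1 hu.1.2 _).1 hw
        rw [hδe]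
        show gi (r * g (u⁻¹ * w * u) * r⁻¹) = w
        rw [hrq _ hq1, show u * (u⁻¹ * (w : Ω) * u) * u⁻¹ = w by group, hgi1 _ w.2])
      refine ⟨(g z)⁻¹ * r, mul_mem (R.inv_mem (hU'N (hU'.mem (hQU hz))).1) hr, fun x hx => ?_⟩
      have h1 := hzw ⟨_, huU x hx⟩
      rw [hδe] at h1
      have h2 : r * g x * r⁻¹ = g (z * (u * x * u⁻¹) * z⁻¹) := by
        rw [← h1]
        show _ = g (gi (r * g (u⁻¹ * (u * x * u⁻¹) * u) * r⁻¹))
        rw [show u⁻¹ * (u * x * u⁻¹) * u = x by group, hgi2 _ (hrU x hx)]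
      rw [hg.map_conj (hQU hz) (huU x hx)] at h2
      calc g (u * x * u⁻¹) = (g z)⁻¹ * (g z * g (u * x * u⁻¹) * (g z)⁻¹) * g z := by group
        _ = (g z)⁻¹ * (r * g x * r⁻¹) * g z := by rw [← h2]
        _ = (g z)⁻¹ * r * g x * ((g z)⁻¹ * r)⁻¹ := by group
    obtain ⟨g₂, hg₂, hg₂e⟩ := ab.ext U hUsc hUn U' _ g hg hU' hU2.le
      (fun x hx => ⟨hx.1.1, hx.2⟩) hext
    have h3 : Nat.card U < Nat.card (normalizerIn (normalizerIn R Q) U) :=
      card_lt_of_lt ((normalizerIn_le_S U).trans hUS) hU2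
    have h4 := card_le_of_le hUS (normalizerIn_le_S (S := normalizerIn R Q) U)
    exact IH _ (by omega) _ rfl (hWU.trans hU2.le) (normalizerIn_le_S U) g₂ hg₂
      fun x hx => by rw [hg₂e x (hQU hx), hge x hx]
  obtain ⟨g, hg, hge⟩ := hclimb W₁ le_rfl hW₁N h₀ hh₀ fun _ _ => rfl
  obtain ⟨fa, -, -, hfae⟩ := mor_gen hb hQ'.1 (inv_mem hc)
  refine ⟨c⁻¹, inv_mem hc, fa, g, hfae, hg, hh₀i.congr hge, fun x hx => ?_⟩
  have hdq : d x ∈ Q := hdi.mem hx
  rw [hge _ hdq, hh₀q ⟨_, hdq⟩, hfae, MulAut.inv_apply_self, hEe]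
  show d' (f x) = d' (f (dW (d x)))
  rw [hdW1 x (hPW.le hx)]

include hS h in
/-- An element of the family has the normal form. -/
theorem nf_gen {n : ℕ} (ab : Above F A h.closed n) {P : Subgroup Ω}
    (hP : SelfCentralizingIn F R P) (hPn : Nat.card P = n) (hlt : P < R) {a : MulAut P}
    (ha : a ∈ A P) {f : Ω → Ω} (hf : ∀ x : P, f x = ((a x : P) : Ω)) :
    NF F p A h.closed P f := by
  intro P' Q Q' d d' hi hQ hQ' hd hdi hd' hd'i
  have hR := h.closed
  have hPP : P' = P := by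
    refine hi.unique fun y => ?_
    constructor
    · intro hy
      exact ⟨_, SetLike.coe_mem (a⁻¹ ⟨y, hy⟩), by rw [hf, MulAut.apply_inv_self]⟩
    · rintro ⟨x, hx, rfl⟩
      exact Set.mem_of_eq_of_mem (hf ⟨x, hx⟩) (SetLike.coe_mem _)
  subst hPP
  obtain ⟨hN, hNc⟩ := lt_normalizerIn_R hS hR hlt
  obtain ⟨b, hb, fb, g, hfb, hg, hgi, hge⟩ := nf_edge hS h ab hP hPn hN le_rfl
    (Mor.id_mor (normalizerIn_le_S P')) P' Q Q' d d' (im_id P') hQ hQ' hd hdi hd' hd'i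
  have hPN : P' ≤ normalizerIn R P' := le_normalizerIn hP.1
  obtain ⟨eE, hE', hEe⟩ := exists_isoIn (mor_genF hR hd') hPN hd'i
  have hab : MulAut.congr eE a * b ∈ A Q' := mul_mem (h.equiv hP hE' ha) hb
  obtain ⟨fc, -, -, hfce⟩ := mor_gen h.toIsInvBase hQ'.1 hab
  refine ⟨_, hab, fc, g, hfce, hg, hgi, fun x hx => ?_⟩
  have h1 := hge x hx
  rw [hfb ⟨_, hgi.mem (hdi.mem hx)⟩] at h1
  rw [hfce ⟨_, hgi.mem (hdi.mem hx)⟩, MulAut.mul_apply, hf ⟨x, hx⟩, ← hEe]
  rw [show b ⟨g (d x), hgi.mem (hdi.mem hx)⟩ = eE ⟨x, hx⟩ from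
    Subtype.ext (h1.symm.trans (hEe ⟨x, hx⟩).symm), congr_apply_apply]

include hS hF h in
/-- All maps of the generated system between members of one order have the normal form. -/
theorem nf_all {n : ℕ} (ab : Above F A h.closed n) {P : Subgroup Ω}
    (hP : SelfCentralizingIn F R P) (hPn : Nat.card P = n) (hlt : P < R) {f : Ω → Ω}
    (hf : Mor (genSystem F A h.closed) P f) : NF F p A h.closed P f := by
  classical
  have hR := h.closed
  have hb := h.toIsInvBase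
  let D := genSystem F A hR
  have hnR : n < Nat.card R := hPn ▸ card_lt_of_lt hR.1 hlt
  have hltR : ∀ {P₁ : Subgroup Ω}, P₁ ≤ R → Nat.card P₁ = n → P₁ < R := fun hle hc =>
    lt_of_le_of_ne hle fun e => hnR.ne (by rw [← hc, e])
  let G : FusionSystem R :=
    { Hom := fun U => {φ | φ ∈ D.Hom U ∧ ∀ f₀ : Ω → Ω, (∀ x : U, φ x = f₀ x) →
        ∀ P₁ : Subgroup Ω, SelfCentralizingIn F R P₁ → Nat.card P₁ = n → P₁ ≤ U →
          NF F p A hR P₁ f₀}
      le_of_mem := fun h => D.le_of_mem h.1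
      injective_of_mem := fun h => D.injective_of_mem h.1
      conj_mem := fun {U r} hU hr => by
        refine ⟨D.conj_mem hU hr, fun f₀ hf₀ P₁ hP₁ hc hle => ?_⟩
        refine (nf_edge hS h ab hP₁ hc (lt_normalizerIn_R hS hR (hltR hP₁.1 hc)).1 le_rfl
          (Mor.conj_mor (normalizerIn_le_S P₁) hr)).congr fun x hx => ?_
        exact (hf₀ ⟨x, hle hx⟩).symm
      comp_mem := fun {U V φ ψ} hφ hψ hm => by
        refine ⟨D.comp_mem hφ.1 hψ.1 hm, fun f₀ hf₀ P₁ hP₁ hc hle => ?_⟩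
        obtain ⟨f₁, hf₁, e₁⟩ := Mor.of_mem hφ.1
        obtain ⟨f₂, hf₂, e₂⟩ := Mor.of_mem hψ.1
        refine NF.congr (f := f₂ ∘ f₁) ?_ fun x hx => ?_
        · intro P₂ Q Q₂ d d₂ hi hQ hQ₂ hd hdi hd₂ hd₂i
          obtain ⟨P', hP'⟩ := hf₁.exists_im hle
          have hP'sc : SelfCentralizingIn F R P' :=
            hP₁.of_isConj hR ((mor_genF hR hf₁).isConj hle hP')
          have hP'c : Nat.card P' = n := (hf₁.card_im hle hP').trans hc
          have hP'V : P' ≤ V := fun y hy => by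
            obtain ⟨x, hx, rfl⟩ := hP'.surj hy
            rw [e₁ ⟨x, hle hx⟩]
            exact hm _
          obtain ⟨Q', d', hQ', hd', hd'i⟩ :=
            exists_good hS hF h ab hP'sc hP'c (hltR hP'sc.1 hP'c)
          obtain ⟨a, ha, fa, g, hfa, hg, hgi, he⟩ := hφ.2 f₁ (fun x => (e₁ x).symm) P₁ hP₁ hc hle
            P' Q Q' d d' hP' hQ hQ' hd hdi hd' hd'i
          have hi2 : Im f₂ P' P₂ := fun y => by
            rw [hi y]
            exact ⟨fun ⟨x, hx, e⟩ => ⟨f₁ x, hP'.mem hx, e⟩, fun ⟨v, hv, e⟩ => by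
              obtain ⟨x, hx, rfl⟩ := hP'.surj hv
              exact ⟨x, hx, e⟩⟩
          obtain ⟨b, hb', fb, k, hfb, hk, hki, he'⟩ := hψ.2 f₂ (fun x => (e₂ x).symm) P' hP'sc
            hP'c hP'V P₂ Q' Q₂ d' d₂ hi2 hQ' hQ₂ hd' hd'i hd₂ hd₂i
          have hQ'N : Q' ≤ normalizerIn R Q' := le_normalizerIn hQ'.1.1
          obtain ⟨kE, hkE, hkEe⟩ := exists_isoIn (mor_genF hR hk) hQ'N hki
          have hba : b * MulAut.congr kE a ∈ A Q₂ := mul_mem hb' (h.equiv hQ'.1 hkE ha)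
          obtain ⟨fc, -, -, hfce⟩ := mor_gen hb hQ₂.1 hba
          have hgN : ∀ x ∈ normalizerIn R Q, g x ∈ normalizerIn R Q' := fun x hx =>
            mor_normalizerIn hR (mor_genF hR hg) (le_normalizerIn hQ.1.1) hgi hx hx
          refine ⟨_, hba, fc, k ∘ g, hfce, hg.comp hk hgN, hgi.comp hki, fun x hx => ?_⟩
          have hq : g (d x) ∈ Q' := hgi.mem (hdi.mem hx)
          show d₂ (f₂ (f₁ x)) = fc (k (g (d x)))
          rw [he' _ (hP'.mem hx), he x hx, hfa ⟨_, hq⟩, hfb ⟨_, hki.mem (SetLike.coe_mem _)⟩,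
            hfce ⟨_, hki.mem hq⟩, MulAut.mul_apply]
          refine congrArg (fun z : Q₂ => ((b z : Q₂) : Ω)) (Subtype.ext ?_)
          rw [show (⟨k (g (d x)), hki.mem hq⟩ : Q₂) = kE ⟨_, hq⟩ from Subtype.ext (hkEe ⟨_, hq⟩).symm,
            congr_apply_apply, hkEe]
        · refine (hf₀ ⟨x, hle hx⟩).symm.trans ?_
          show ψ ⟨φ ⟨x, hle hx⟩, hm _⟩ = f₂ (f₁ x)
          exact (e₂ ⟨φ ⟨x, hle hx⟩, hm _⟩).symm.trans (congrArg f₂ (e₁ ⟨x, hle hx⟩).symm)
      inv_mem := fun {U φ} hφ => by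
        obtain ⟨ψ, hψ, he⟩ := D.inv_mem hφ.1
        refine ⟨ψ, ⟨hψ, fun f₀ hf₀ P₂ hP₂ hc hle => ?_⟩, he⟩
        intro P₁ Q₂ Q d₂ d hi hQ₂ hQ hd₂ hd₂i hd hdi
        obtain ⟨f₁, hf₁, e₁⟩ := Mor.of_mem hφ.1
        have hm₀ : Mor D φ.range f₀ := ⟨ψ, hψ, hf₀⟩
        have hleft : ∀ y ∈ P₂, f₁ (f₀ y) = y := fun y hy => by
          obtain ⟨x, rfl⟩ := hle hy
          rw [← hf₀ ⟨φ x, x, rfl⟩, he x]
          exact e₁ x
        have hP₁U : P₁ ≤ U := fun b hb => by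
          obtain ⟨y, hy, rfl⟩ := hi.surj hb
          obtain ⟨x, rfl⟩ := hle hy
          rw [← hf₀ ⟨φ x, x, rfl⟩, he x]
          exact x.2
        have hI : Im f₁ P₁ P₂ := fun y => by
          constructor
          · exact fun hy => ⟨f₀ y, hi.mem hy, hleft y hy⟩
          · rintro ⟨b, hb, rfl⟩
            obtain ⟨y, hy, rfl⟩ := hi.surj hb
            rw [hleft y hy]
            exact hy
        have hP₁sc : SelfCentralizingIn F R P₁ :=
          hP₂.of_isConj hR ((mor_genF hR hm₀).isConj hle hi)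
        have hP₁c : Nat.card P₁ = n := (hm₀.card_im hle hi).trans hc
        obtain ⟨a, ha, fa, g, hfa, hg, hgi, hge⟩ := hφ.2 f₁ (fun x => (e₁ x).symm) P₁ hP₁sc hP₁c
          hP₁U P₂ Q Q₂ d d₂ hI hQ hQ₂ hd hdi hd₂ hd₂i
        have hgN := hQ.im_normalizer hb hQ₂ (mor_genF hR hg) hgi hS
        obtain ⟨gi, hgiM, -, hgi1, hgi2⟩ := hg.exists_inv hgN
        have hQ₂N : Q₂ ≤ normalizerIn R Q₂ := le_normalizerIn hQ₂.1.1
        have hQN : Q ≤ normalizerIn R Q := le_normalizerIn hQ.1.1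
        have hgiQ : Im gi Q₂ Q := fun y => by
          constructor
          · exact fun hy => ⟨g y, hgi.mem hy, hgi1 y (hQN hy)⟩
          · rintro ⟨v, hv, rfl⟩
            obtain ⟨q, hq, rfl⟩ := hgi.surj hv
            rw [hgi1 q (hQN hq)]
            exact hq
        obtain ⟨gE, hgE, hgEe⟩ := exists_isoIn (mor_genF hR hgiM) hQ₂N hgiQ
        have hai : MulAut.congr gE a⁻¹ ∈ A Q := h.equiv hQ₂.1 hgE (inv_mem ha)
        obtain ⟨fc, -, -, hfce⟩ := mor_gen hb hQ.1 hai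
        refine ⟨_, hai, fc, gi, hfce, hgiM, hgiQ, fun y hy => ?_⟩
        have h1 := hge (f₀ y) (hi.mem hy)
        rw [hleft y hy] at h1
        have hq : g (d (f₀ y)) ∈ Q₂ := hgi.mem (hdi.mem (hi.mem hy))
        rw [hfa ⟨_, hq⟩] at h1
        have hv : d₂ y ∈ Q₂ := hd₂i.mem hy
        rw [hfce ⟨_, hgiQ.mem hv⟩,
          show (⟨gi (d₂ y), hgiQ.mem hv⟩ : Q) = gE ⟨_, hv⟩ from Subtype.ext (hgEe ⟨_, hv⟩).symm,
          congr_apply_apply, hgEe,
          show a⁻¹ ⟨d₂ y, hv⟩ = ⟨g (d (f₀ y)), hq⟩ by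
            rw [show (⟨d₂ y, hv⟩ : Q₂) = a ⟨g (d (f₀ y)), hq⟩ from Subtype.ext h1,
              MulAut.inv_apply_self]]
        exact (hgi1 _ (hQN (hdi.mem (hi.mem hy)))).symm }
  obtain ⟨φ, hφ, he⟩ := hf
  refine (hφ.2.2 G fun U a hU ha => ⟨⟨hU.1, (autGroup_carrier (hU.1.trans hR.1)).1 (h.le hU ha),
    fun _ hG => hG U a hU ha⟩, fun f₀ hf₀ P₁ hP₁ hc hle => ?_⟩).2 f he P hP hPn le_rfl
  rcases hle.eq_or_lt with heq | hlt'
  · subst heq
    exact nf_gen hS h ab hP₁ hc (hltR hP₁.1 hc) ha fun x => (hf₀ x).symm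
  · obtain ⟨k, hk, -, hke⟩ := mor_gen hb hU ha
    have hN : P₁ < normalizerIn U P₁ := lt_normalizerIn p hS (hU.1.trans hR.1) hlt'
    refine (nf_edge hS h ab hP₁ hc hN (inf_le_inf_right _ hU.1)
      (hk.mono (normalizerIn_le_S P₁))).congr fun x hx => ?_
    exact (hf₀ ⟨x, hle hx⟩).symm.trans (hke ⟨x, hle hx⟩).symm

include hS hF h in
theorem autOK_top : AutOK F A h.closed R := by
  intro f a hf hae
  classical
  have hR := h.closed
  let D := genSystem F A hR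
  have hsc := selfCentralizingIn_self hR
  let G : FusionSystem R :=
    { Hom := fun U => {φ | φ ∈ D.Hom U ∧ (U = R → ∃ a ∈ A R,
        ∀ (x : U) (y : R), (x : Ω) = y → φ x = ((a y : R) : Ω))}
      le_of_mem := fun h => D.le_of_mem h.1
      injective_of_mem := fun h => D.injective_of_mem h.1
      conj_mem := fun {U r} hU hr => by
        refine ⟨D.conj_mem hU hr, fun _ => ⟨conjAut R R ⟨r, hr, Subgroup.le_normalizer hr⟩,
          h.inn hsc (mem_autInducedBy.2 ⟨r, hr, fun _ => rfl⟩), fun x y e => ?_⟩⟩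
        show r * (x : Ω) * r⁻¹ = r * y * r⁻¹
        rw [e]
      comp_mem := fun {U V φ ψ} hφ hψ hm => by
        refine ⟨D.comp_mem hφ.1 hψ.1 hm, fun hU => ?_⟩
        subst hU
        obtain ⟨a, ha, hae⟩ := hφ.2 rfl
        have hV : V = U := le_antisymm (le_of_mem_hom hψ.1) fun y hy => by
          obtain ⟨x, hx⟩ := a.surjective ⟨y, hy⟩
          have h1 : φ x ∈ V := hm x
          rwa [hae x x rfl, hx] at h1
        obtain ⟨b, hb, hbe⟩ := hψ.2 hV
        refine ⟨b * a, mul_mem hb ha, fun x y e => ?_⟩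
        exact hbe ⟨φ x, hm x⟩ (a y) (hae x y e)
      inv_mem := fun {U φ} hφ => by
        obtain ⟨ψ, hψ, he⟩ := D.inv_mem hφ.1
        refine ⟨ψ, ⟨hψ, fun hr => ?_⟩, he⟩
        have hUR : U = R := eq_of_le_of_card_le hR.1 (le_of_mem_hom hφ.1)
          (by rw [← card_range (F := D) hφ.1, hr])
        subst hUR
        obtain ⟨a, ha, hae⟩ := hφ.2 rfl
        refine ⟨a⁻¹, inv_mem ha, fun x y e => ?_⟩
        obtain ⟨z, rfl⟩ := a.surjective y
        rw [MulAut.inv_apply_self, ← he z]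
        exact apply_congr ψ (e.trans (hae z z rfl).symm) }
  obtain ⟨φ, hφ, he⟩ := hf
  obtain ⟨b, hb, hbe⟩ := (hφ.2.2 G fun U c hU hc => ⟨⟨hU.1,
    (autGroup_carrier (hU.1.trans hR.1)).1 (h.le hU hc), fun _ hG => hG U c hU hc⟩,
    fun e => by subst e; exact ⟨c, hc, fun x y e' => by rw [show x = y from Subtype.ext e']; rfl⟩⟩).2 rfl
  rwa [show a = b from MulEquiv.ext fun x => Subtype.ext (by rw [hae, ← he x]; exact hbe x x rfl)]

include hS hF h in
theorem autOK_step {n : ℕ} (ab : Above F A h.closed n) {P : Subgroup Ω}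
    (hP : SelfCentralizingIn F R P) (hPn : Nat.card P = n) (hlt : P < R) :
    AutOK F A h.closed P := by
  intro f a hf hae
  have hR := h.closed
  haveI : Finite R := finite_of_le hR.1
  have hPP : Im f P P := fun y => ⟨fun hy => ⟨_, SetLike.coe_mem (a⁻¹ ⟨y, hy⟩), by
      rw [← hae, MulAut.apply_inv_self]⟩,
    fun ⟨x, hx, e⟩ => e ▸ Set.mem_of_eq_of_mem (hae ⟨x, hx⟩).symm (SetLike.coe_mem _)⟩
  obtain ⟨Q, d, hQ, hd, hdi⟩ := exists_good hS hF h ab hP hPn hlt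
  obtain ⟨b, hb, fb, g, hfb, hg, hgi, he⟩ :=
    nf_all hS hF h ab hP hPn hlt hf P Q Q d d hPP hQ hQ hd hdi hd hdi
  have hQN : Q ≤ normalizerIn R Q := le_normalizerIn hQ.1.1
  obtain ⟨γ, -, hγe⟩ := exists_aut_of_self hg le_rfl fun x hx =>
    mor_normalizerIn hR (mor_genF hR hg) hQN hgi hx hx
  have hQc : Nat.card Q = n := (hd.card_im (le_normalizerIn hP.1) hdi).trans hPn
  have hQlt : Q < R := lt_R_of_card hR hlt hQ.1.1 (hQc.trans hPn.symm)
  have hγA := ab.aut _ (hQ.1.mono hQN (normalizerIn_le_S Q))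
    (hQc ▸ (lt_normalizerIn_R hS hR hQlt).2) g γ hg hγe
  obtain ⟨c, hc, hce⟩ := exists_aut_of_self hg hQN fun x hx => hgi.mem hx
  have hcA : c ∈ A Q := h.restr hQN hQ.1 (normalizerIn_le_S Q) hγA fun x => by
    rw [hγe, hce]
    rfl
  obtain ⟨eE, hE', hEe⟩ := exists_isoIn (mor_genF hR hd) (le_normalizerIn hP.1) hdi
  have hcong : MulAut.congr eE a = b * c := by
    refine MulEquiv.ext fun y => Subtype.ext ?_
    obtain ⟨x, rfl⟩ := eE.surjective y
    rw [congr_apply_apply, hEe, hae, he x x.2, hfb ⟨_, hgi.mem (hdi.mem x.2)⟩, MulAut.mul_apply]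
    refine congrArg (fun z : Q => ((b z : Q) : Ω)) (Subtype.ext ?_)
    rw [hce, hEe]
  have h1 := h.equiv hQ.1 hE'.symm (mul_mem hb hcA)
  rwa [← hcong, congr_symm_congr] at h1

include hS hF h in
theorem extOK_step {n : ℕ} (ab : Above F A h.closed n) {P : Subgroup Ω}
    (hP : SelfCentralizingIn F R P) (hPn : Nat.card P = n) (hlt : P < R) :
    ExtOK F A h.closed P := by
  intro P' W f hf hfi hPW hW hconj
  have hR := h.closed
  have hb := h.toIsInvBase
  obtain ⟨Q, d, hQ, hd, hdi⟩ := exists_good hS hF h ab hP hPn hlt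
  have hP' : SelfCentralizingIn F R P' := hP.of_isConj hR ((mor_genF hR hf).isConj le_rfl hfi)
  have hP'c : Nat.card P' = n := (hf.card_im le_rfl hfi).trans hPn
  obtain ⟨Q', d', hQ', hd', hd'i⟩ :=
    exists_good hS hF h ab hP' hP'c (lt_R_of_card hR hlt hP'.1 (hP'c.trans hPn.symm))
  obtain ⟨a, ha, fa, g, hfa, hg, hgi, he⟩ :=
    nf_all hS hF h ab hP hPn hlt hf P' Q Q' d d' hfi hQ hQ' hd hdi hd' hd'i
  have hPN : P ≤ normalizerIn R P := le_normalizerIn hP.1
  have hP'N : P' ≤ normalizerIn R P' := le_normalizerIn hP'.1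
  have hQN : Q ≤ normalizerIn R Q := le_normalizerIn hQ.1.1
  have hdN : ∀ x ∈ normalizerIn R P, d x ∈ normalizerIn R Q := fun x hx =>
    mor_normalizerIn hR (mor_genF hR hd) hPN hdi hx hx
  let u : Ω → Ω := g ∘ d
  have hu : Mor (genSystem F A hR) (normalizerIn R P) u := hd.comp hg hdN
  have hui : Im u P Q' := hdi.comp hgi
  obtain ⟨W₂, hW₂⟩ := hu.exists_im hW
  have hW₂N : W₂ ≤ normalizerIn R Q' := fun y hy => by
    obtain ⟨x, hx, rfl⟩ := hW₂.surj hy
    exact mor_normalizerIn hR (mor_genF hR hu) hPN hui (hW hx) (hW hx)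
  have key : ∀ w ∈ W, ∃ r ∈ normalizerIn R P', ∀ x ∈ P,
      f (w * x * w⁻¹) = r * f x * r⁻¹ := by
    intro w hw
    obtain ⟨r, hr, hre⟩ := hconj w hw
    refine ⟨r, ⟨hr, mem_normalizer_of_conj_mem (hP'.1.trans hR.1) fun y hy => ?_⟩, hre⟩
    obtain ⟨x, hx, rfl⟩ := hfi.surj hy
    rw [← hre x hx]
    exact hfi.mem ((Subgroup.mem_normalizer_iff.1 (hW hw).2 x).1 hx)
  obtain ⟨k, hk, hke⟩ := exists_gen_ext hS h hQ' ha (W := W₂) (fun y hy => by
      obtain ⟨x, hx, rfl⟩ := hui.surj hy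
      exact hW₂.mem (hPW hx)) hW₂N fun β hβ => by
    obtain ⟨w', hw', hwb⟩ := mem_autInducedBy.1 hβ
    obtain ⟨w, hw, rfl⟩ := hW₂.surj hw'
    obtain ⟨r, hr, hre⟩ := key w hw
    refine mem_autInducedBy.2 ⟨d' r, mor_mem_R hR (mor_genF hR hd') hr hr.1, fun y => ?_⟩
    obtain ⟨z, rfl⟩ := a.surjective y
    obtain ⟨x, hx, hxe⟩ := hui.surj z.2
    rw [MulAut.mul_apply, MulAut.mul_apply, MulAut.inv_apply_self]
    have hx' : w * x * w⁻¹ ∈ P := (Subgroup.mem_normalizer_iff.1 (hW hw).2 x).1 hx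
    have h1 : β z = ⟨u (w * x * w⁻¹), hui.mem hx'⟩ := Subtype.ext (by
      rw [hwb, ← hxe, ← hu.map_conj (hW hw) (hPN hx)])
    rw [h1, show z = ⟨u x, hui.mem hx⟩ from Subtype.ext hxe.symm, ← hfa, ← hfa]
    show fa (g (d (w * x * w⁻¹))) = d' r * fa (g (d x)) * (d' r)⁻¹
    rw [← he _ hx', hre x hx, ← he x hx, hd'.map_conj hr (hP'N (hfi.mem hx))]
  obtain ⟨V, hV⟩ := hd'.exists_im (le_refl (normalizerIn R P'))
  obtain ⟨di', hdi', -, hdi'1, -⟩ := hd'.exists_inv hV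
  have hkm : Mor (genSystem F A hR) W (k ∘ u) := (hu.mono hW).comp hk fun x hx => hW₂.mem hx
  have hkP : ∀ x ∈ P, k (u x) = d' (f x) := fun x hx => by
    rw [he x hx, hke ⟨_, hui.mem hx⟩, hfa ⟨_, hgi.mem (hdi.mem hx)⟩]
    rfl
  have hin : ∀ w ∈ W, k (u w) ∈ V := by
    intro w hw
    obtain ⟨r, hr, hre⟩ := key w hw
    have h1 : (d' r)⁻¹ * k (u w) ∈ centralizerIn R Q' := by
      refine ⟨mul_mem (R.inv_mem (mor_mem_R hR (mor_genF hR hd') hr hr.1))
        (mor_mem_R hR (mor_genF hR hkm) hw ((hW hw).1)), diff_mem_centralizer fun z hz => ?_⟩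
      obtain ⟨v, hv, rfl⟩ := hd'i.surj hz
      obtain ⟨x, hx, rfl⟩ := hfi.surj hv
      have hx' : w * x * w⁻¹ ∈ P := (Subgroup.mem_normalizer_iff.1 (hW hw).2 x).1 hx
      rw [← hkP x hx]
      refine (hkm.map_conj hw (hPW hx)).symm.trans ?_
      show k (u (w * x * w⁻¹)) = _
      rw [hkP _ hx', hre x hx, hd'.map_conj hr (hP'N (hfi.mem hx)), ← hkP x hx]
    obtain ⟨v, hv, hve⟩ := hd'i.surj (centralizer_le_of_sc hQ'.1 (hQ'.1.1.trans hR.1) h1)
    have h2 := V.mul_mem (hV.mem hr) (hV.mem (hP'N hv))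
    rwa [hve, mul_inv_cancel_left] at h2
  refine ⟨di' ∘ (k ∘ u), hkm.comp hdi' hin, fun x hx => ?_⟩
  show di' (k (u x)) = f x
  rw [hkP x hx, hdi'1 _ (hP'N (hfi.mem hx))]

include hS hF h in
theorem extOK_top : ExtOK F A h.closed R := by
  intro P' W f hf _ hRW hW _
  have : W = R := le_antisymm (hW.trans (normalizerIn_le_S R)) hRW
  subst this
  exact ⟨f, hf, fun _ _ => rfl⟩

include hS hF h in
/-- The induction. -/
theorem above_all : ∀ n : ℕ, Above F A h.closed n := by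
  have hR := h.closed
  suffices key : ∀ m n : ℕ, Nat.card R - n = m → Above F A hR n from fun n => key _ n rfl
  intro m
  induction m using Nat.strong_induction_on with
  | _ m IH =>
  intro n hn
  have hW : ∀ W : Subgroup Ω, W ≤ R → n < Nat.card W → Above F A hR (Nat.card W) :=
    fun W hWR hlt => IH _ (by have := card_le_of_le hR.1 hWR; omega) _ rfl
  refine ⟨fun W hWR hlt f hf => frat_step hS hF h hWR (hW W hWR hlt) hf, fun W hsc hlt => ?_,
    fun W hsc hlt => ?_⟩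
  · rcases hsc.1.eq_or_lt with heq | hlt'
    · subst heq; exact autOK_top hS hF h
    · exact autOK_step hS hF h (hW W hsc.1 hlt) hsc rfl hlt'
  · rcases hsc.1.eq_or_lt with heq | hlt'
    · subst heq; exact extOK_top hS hF h
    · exact extOK_step hS hF h (hW W hsc.1 hlt) hsc rfl hlt'

include hS hF h in
theorem genSystem_autGroup {P : Subgroup Ω} (hP : SelfCentralizingIn F R P) :
    (genSystem F A h.closed).autGroup P = A P := by
  refine le_antisymm (fun a ha => ?_) fun a ha => mem_aut_of_isoIn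
    (show IsoIn (genSystem F A h.closed) a from ⟨hP.1,
      (autGroup_carrier (hP.1.trans h.closed.1)).1 (h.le hP ha), fun _ hG => hG P a hP ha⟩)
  obtain ⟨f, hf, -, hfe⟩ := exists_mor_of_aut hP.1 ha
  have hpos : 0 < Nat.card P := by
    have := finite_of_le (hP.1.trans h.closed.1)
    exact Nat.card_pos
  exact (above_all hS hF h 0).aut P hP hpos f a hf fun x => (hfe x).symm

include hS hF h in
/-- **The generated system is weakly normal.** -/
theorem genSystem_weaklyNormal : (genSystem F A h.closed).IsWeaklyNormalIn F p := by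
  have hR := h.closed
  have hb := h.toIsInvBase
  let D := genSystem F A hR
  haveI : Finite R := finite_of_le hR.1
  have hRp : IsPGroup p R := isPGroup_of_le hS hR.1
  have ab := above_all hS hF h 0
  have hpos : ∀ {W : Subgroup Ω}, W ≤ R → 0 < Nat.card W := fun hW => by
    have := finite_of_le (hW.trans hR.1)
    exact Nat.card_pos
  refine ⟨?_, hF, genSystem_sub hR, hR, fun P hPR φ hφ α hα => ?_, fun P hPR φ hφ => ?_⟩
  · refine saturated_of_family p hRp D {P | SelfCentralizingIn F R P}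
      (fun P hP Q hQ => hP.of_isConj hR (isConj_of_subsystem (genSystem_sub hR) hQ))
      (fun P hP => ?_) (fun E hE U φ hφ => hφ.2.2 E fun Q a hQ ha => hE Q hQ ⟨hQ.1,
        (autGroup_carrier (hQ.1.trans hR.1)).1 (h.le hQ ha), fun _ hG => hG Q a hQ ha⟩)
      fun P hP hP' => absurd ?_ hP'
    · obtain ⟨Q, hPQ, hQ⟩ : ∃ Q, D.IsConj P Q ∧ Good F p R A Q := by
        rcases hP.1.eq_or_lt with heq | hlt
        · subst heq
          refine ⟨P, isConj_refl le_rfl, hb.good hP ⟨hR.1, fun Q _ => ?_⟩⟩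
          exact card_le_of_le (normalizerIn_le_S P) ((normalizerIn_le_S Q).trans fun x hx =>
            ⟨hx, stronglyClosed_normal_in_S hR hx⟩)
        · obtain ⟨Q, d, hQ, hd, hdi⟩ := exists_good hS hF h (above_all hS hF h _) hP rfl hlt
          exact ⟨Q, hd.isConj (le_normalizerIn hP.1) hdi, hQ⟩
      have hQR : Q ≤ R := hQ.1.1
      refine ⟨Q, hPQ, ⟨hQR, ?_⟩, hQR, fun P₁ θ hθ hθr => ?_⟩
      · haveI : Finite Q := finite_of_le (hQR.trans hR.1)
        haveI : Finite (MulAut Q) := finite_mulAut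
        have hp : IsPGroup p ((autInducedBy R Q).subgroupOf (D.autGroup Q)) :=
          (isPGroup_autInducedBy hRp Q).comap_of_injective _ (D.autGroup Q).subtype_injective
        obtain ⟨T, hT⟩ := hp.exists_le_sylow
        refine ⟨T, le_antisymm (fun t ht => ?_) hT⟩
        refine hQ.2 ((T : Subgroup (D.autGroup Q)).map (D.autGroup Q).subtype) (T.2.map _)
          (fun b hb' => ?_) ?_ ⟨t, ht, rfl⟩
        · exact ⟨⟨b, autInducedBy_le_autGroup hQR hb'⟩, hT hb', rfl⟩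
        · exact (Subgroup.map_subtype_le _).trans (genSystem_autGroup hS hF h hQ.1).le
      · obtain ⟨f, hf, hfe⟩ := Mor.of_mem hθ
        have hfi : Im f P₁ Q := fun y => by
          rw [← hθr]
          exact ⟨fun ⟨x, e⟩ => ⟨x, x.2, (hfe x).trans e⟩,
            fun ⟨x, hx, e⟩ => ⟨⟨x, hx⟩, (hfe ⟨x, hx⟩).symm.trans e⟩⟩
        have hP₁ : SelfCentralizingIn F R P₁ :=
          hQ.1.of_isConj hR (isConj_symm ((mor_genF hR hf).isConj le_rfl hfi))
        obtain ⟨g, hg, hge⟩ := ab.ext P₁ hP₁ (hpos hP₁.1) Q _ f hf hfi (le_extender hθ)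
          (extender_le_normalizerIn P₁ θ) fun w hw => by
            obtain ⟨-, hwn, r, hr, hre⟩ := mem_extender.1 hw
            refine ⟨r, hr, fun x hx => ?_⟩
            have hx' : w * x * w⁻¹ ∈ P₁ := (Subgroup.mem_normalizer_iff.1 hwn x).1 hx
            rw [hfe ⟨x, hx⟩, hfe ⟨_, hx'⟩]
            exact hre ⟨x, hx⟩ hx'
        obtain ⟨ψ, hψ, hψe⟩ := hg
        exact ⟨ψ, hψ, fun x hP hN => (hψe ⟨x, hN⟩).trans ((hge x hP).trans (hfe ⟨x, hP⟩))⟩
    · refine ⟨hP.1, ?_⟩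
      rintro _ ⟨φ, hφ, rfl⟩ c hc
      obtain ⟨f, hf, hfe⟩ := Mor.of_mem hφ
      obtain ⟨α, hα, d, hd, he⟩ := ab.frat P hP.1 (hpos hP.1) f hf
      obtain ⟨P₁, hP₁⟩ := hd.exists_im (le_refl P)
      have hαF := mor_extAut (F := F) hR.1 (inv_mem hα)
      have h1 : extAut α⁻¹ c ∈ P₁ := by
        refine hP.2 P₁ (hd.isConj le_rfl hP₁) ⟨extAut_mem _ hc.1, fun y hy => ?_⟩
        obtain ⟨x, hx, rfl⟩ := hP₁.surj hy
        have h2 := hc.2 (f x) ⟨⟨x, hx⟩, (hfe ⟨x, hx⟩).symm⟩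
        have hfx : f x ∈ R := by
          rw [he x hx]
          exact extAut_mem _ (hd.mem_S hx)
        rw [show d x = extAut α⁻¹ (f x) by rw [he x hx, extAut_inv_apply],
          ← hαF.map_mul hfx hc.1, ← hαF.map_mul hc.1 hfx, h2]
      obtain ⟨x, hx, hxe⟩ := hP₁.surj h1
      refine ⟨⟨x, hx⟩, ?_⟩
      rw [← hfe, he x hx, hxe, extAut_apply_inv]
  · obtain ⟨f, hf, hfe⟩ := Mor.of_mem hφ
    have hαF := mor_extAut (F := F) hR.1 hα
    have him : Im (extAut α) P ((P.subgroupOf R).map (R.subtype.comp α.toMonoidHom)) := fun y => by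
      rw [mem_map_subgroupOf]
      constructor
      · rintro ⟨x, hx, hxP, rfl⟩
        exact ⟨x, hxP, extAut_of_mem α hx⟩
      · rintro ⟨x, hx, rfl⟩
        exact ⟨x, hPR hx, hx, (extAut_of_mem α (hPR hx)).symm⟩
    obtain ⟨χ, hχ, hχe⟩ := mor_gen_twist hb hα hf him
    refine ⟨χ, hχ, fun x hφx hαx => ?_⟩
    rw [hχe]
    show extAut α (f (extAut α⁻¹ ((α ⟨x, hPR x.2⟩ : R) : Ω))) = _
    rw [show ((α ⟨x, hPR x.2⟩ : R) : Ω) = extAut α (x : Ω) from
      (extAut_of_mem α (hPR x.2)).symm, extAut_inv_apply, hfe, extAut_of_mem α hφx]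
  · obtain ⟨f, hf, hfe⟩ := Mor.of_mem hφ
    obtain ⟨α, hα, d, ⟨φ₀, hφ₀, hde⟩, he⟩ := ab.frat P hPR (hpos hPR) f hf
    refine ⟨α, hα, φ₀, hφ₀, fun x hx => ?_⟩
    rw [← hfe, he x x.2, ← hde, extAut_of_mem α hx]

end CfsgLib.Meet
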