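import Cfsg.Agent.Fusion.Meet.Restr

/-!
The family of the meet of two weakly normal subsystems has the extension property.
-/

set_option autoImplicit false
set_option linter.style.haveILetI false
set_option linter.unusedSectionVars false

open Cfsg Cfsg.FusionSystem CfsgLib.Fusion CfsgLib.FocCent CfsgLib.NormCent CfsgLib.NormExt

namespace CfsgLib.Meet

universe u

variable {Ω : Type u} [Group Ω] {S T₁ T₂ : Subgroup Ω} {F : FusionSystem S}
  {M : FusionSystem T₁} {N : FusionSystem T₂} {p : ℕ}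

variable [Finite S] [Fact p.Prime] (hS : IsPGroup p S) (hF : F.IsSaturated p)
  (hM : M.IsWeaklyNormalIn F p) (hN : N.IsWeaklyNormalIn F p)

/-- Powers of an element normalizing a set under conjugation normalize it. -/
theorem pow_conj_mem {X : Type*} [Group X] {B : Subgroup X} {a : X}
    (h : ∀ β ∈ B, a * β * a⁻¹ ∈ B) : ∀ (n : ℕ), ∀ β ∈ B, a ^ n * β * (a ^ n)⁻¹ ∈ B := by
  intro n
  induction n with
  | zero => intro β hβ; simpa using hβ
  | succ n ih =>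
    intro β hβ
    have := h _ (ih β hβ)
    simpa [pow_succ', mul_assoc] using this

variable {P W : Subgroup Ω}

include hS hF hM hN in
/-- The extension of a `p`-element. -/
theorem fam_ext_pElement (hP : SelfCentralizingIn F (T₁ ⊓ T₂) P) (hn : F.IsFullyNormalized P)
    (hPW : P ≤ W) (hW : W ≤ normalizerIn (T₁ ⊓ T₂) P) {x : MulAut P} (hx : x ∈ fam F M N p P)
    (hxW : ∀ β ∈ autInducedBy W P, x * β * x⁻¹ ∈ autInducedBy W P)
    (hp : ∃ k : ℕ, x ^ p ^ k = 1) : ∃ γ ∈ fam F M N p W, Agree hPW γ x := by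
  classical
  have hb := fam_base hS hF hM hN
  have hR := hb.closed
  have hPS : P ≤ S := hn.1
  have hWR : W ≤ T₁ ⊓ T₂ := hW.trans (normalizerIn_le_S P)
  have hWS : W ≤ S := hWR.trans hR.1
  have hc := fullyCentralized_of_fullyNormalized p hS hF hn
  haveI : Finite P := finite_of_le hPS
  haveI : Finite (MulAut P) := finite_mulAut
  obtain ⟨k, hk⟩ := hp
  have hxN : x ∈ Subgroup.normalizer ((autInducedBy W P : Subgroup (MulAut P)) : Set (MulAut P)) :=
    mem_normalizer_of_conj_mem (S := (⊤ : Subgroup (MulAut P))) le_top hxW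
  have hB : IsPGroup p (autInducedBy W P ⊔ Subgroup.zpowers x : Subgroup (MulAut P)) :=
    (isPGroup_autInducedBy (isPGroup_of_le hS hWS) P).to_sup_of_normal_left'
      (isPGroup_zpowers hk) (Subgroup.zpowers_le.2 hxN)
  obtain ⟨g, hg, hgB⟩ := (hb.good hP hn).exists_conj_le hS hb hB
    (sup_le ((autInducedBy_mono hWR P).trans (hb.inn hP)) (Subgroup.zpowers_le.2 hx))
  have hgF := (autGroup_carrier hPS).1 (fam_le_F hM.2.2 hP.1 hg)
  have hgw : ∀ w ∈ W, ∃ r ∈ T₁ ⊓ T₂, ∀ y : P, ∀ hy : w * (y : Ω) * w⁻¹ ∈ P,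
      ((g ⟨w * y * w⁻¹, hy⟩ : P) : Ω) = r * ((g y : P) : Ω) * r⁻¹ := by
    intro w hw
    obtain ⟨c, hc'⟩ : ∃ c : MulAut P, ∀ y : P, ((c y : P) : Ω) = w * y * w⁻¹ :=
      ⟨conjAut W P ⟨w, hw, (hW hw).2⟩, fun _ => rfl⟩
    obtain ⟨r, hr, hre⟩ := mem_autInducedBy.1
      (hgB c (Subgroup.mem_sup_left (mem_autInducedBy.2 ⟨w, hw, hc'⟩)))
    refine ⟨r, hr, fun y hy => ?_⟩
    have h1 := hre (g y)
    rw [MulAut.mul_apply, MulAut.mul_apply, MulAut.inv_apply_self] at h1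
    rw [← h1, show (⟨w * (y : Ω) * w⁻¹, hy⟩ : P) = c y from Subtype.ext (hc' y).symm]
  have hWN : W ≤ normalizerIn S P := fun w hw => ⟨hWS hw, (hW hw).2⟩
  obtain ⟨ψ, hψ, hψe⟩ := saturated_extend p hS hF hgF (by rw [range_subtype_comp]; exact hc)
    (N := W) (fun w hw => by
      obtain ⟨r, hr, hre⟩ := hgw w hw
      exact mem_extender_of (hWN hw) (hR.1 hr) hre)
  obtain ⟨f, hf, hfe⟩ := Mor.of_mem hψ
  obtain ⟨W', hW'⟩ := hf.exists_im (le_refl W)
  obtain ⟨e, he, hee⟩ := exists_isoIn hf le_rfl hW'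
  have hfP : ∀ y : P, f y = ((g y : P) : Ω) := fun y =>
    (hfe ⟨y, hPW y.2⟩).trans (hψe y y.2 _)
  have hPW' : P ≤ W' := fun y hy => by
    obtain ⟨z, hz⟩ := g.surjective ⟨y, hy⟩
    have h1 := hW'.mem (hPW z.2)
    rwa [hfP, hz] at h1
  obtain ⟨r, hr, hre⟩ := mem_autInducedBy.1
    (hgB x (Subgroup.mem_sup_right (Subgroup.mem_zpowers x)))
  have hrN : r ∈ normalizerIn (T₁ ⊓ T₂) W' := by
    refine ⟨hr, mem_normalizer_of_conj_mem (hf.im_le_S le_rfl hW') fun y hy => ?_⟩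
    obtain ⟨w, hw, rfl⟩ := hW'.surj hy
    obtain ⟨c, hc'⟩ : ∃ c : MulAut P, ∀ y : P, ((c y : P) : Ω) = w * y * w⁻¹ :=
      ⟨conjAut W P ⟨w, hw, (hW hw).2⟩, fun _ => rfl⟩
    obtain ⟨w', hw', hwe⟩ := mem_autInducedBy.1 (hxW c (mem_autInducedBy.2 ⟨w, hw, hc'⟩))
    have hfR : ∀ v ∈ W, f v ∈ T₁ ⊓ T₂ := fun v hv => mor_apply_mem hR hf hv (hWR hv)
    have h1 : (f w')⁻¹ * (r * f w * r⁻¹) ∈ centralizerIn (T₁ ⊓ T₂) P := by
      refine ⟨mul_mem ((T₁ ⊓ T₂).inv_mem (hfR w' hw'))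
        (mul_mem (mul_mem hr (hfR w hw)) ((T₁ ⊓ T₂).inv_mem hr)),
        diff_mem_centralizer fun z hz => ?_⟩
      obtain ⟨q, hq⟩ := (g * x).surjective ⟨z, hz⟩
      have hzq : z = ((g (x q) : P) : Ω) := (congrArg Subtype.val hq).symm
      have e1 : r * ((g q : P) : Ω) * r⁻¹ = ((g (x q) : P) : Ω) := by
        rw [← hre (g q)]
        simp [MulAut.mul_apply]
      have e2 : ∀ (v : Ω) (hv : v ∈ W) (y : P) (c : MulAut P),
          (∀ y : P, ((c y : P) : Ω) = v * y * v⁻¹) →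
            f v * ((g y : P) : Ω) * (f v)⁻¹ = ((g (c y) : P) : Ω) := fun v hv y c hv' => by
        rw [← hfP, ← hf.map_conj hv (hPW y.2), ← hv' y, hfP]
      rw [hzq, e2 w' hw' (x q) (x * c * x⁻¹) hwe,
        show x * c * x⁻¹ = x * c * x⁻¹ from rfl]
      rw [show (x * c * x⁻¹) (x q) = x (c q) by simp [MulAut.mul_apply], ← e1,
        show (g (x (c q)) : P) = (g * x * g⁻¹) (g (c q)) by simp [MulAut.mul_apply],
        hre, ← e2 w hw q c hc']
      group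
    have h2 := mul_mem (hW'.mem hw') (hPW' (centralizer_le_of_sc hP hPS h1))
    rwa [mul_inv_cancel_left] at h2
  let c : MulAut W' := conjAut (T₁ ⊓ T₂) W' ⟨r, hrN⟩
  have hcc : ∀ y : W', ((c y : W') : Ω) = r * y * r⁻¹ := fun _ => rfl
  refine ⟨MulAut.congr e.symm c,
    trans_mem_fam ⟨W', e.symm, r, c, he.symm, hrN, hcc, rfl⟩, fun q => ?_⟩
  refine hf.inj (MulAut.congr e.symm c (Subgroup.inclusion hPW q)).2 (hPW (x q).2) ?_
  rw [← hee, hfP]
  have e3 : e (MulAut.congr e.symm c (Subgroup.inclusion hPW q)) =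
      c (e (Subgroup.inclusion hPW q)) := by simp
  rw [e3, hcc, hee, show f ((Subgroup.inclusion hPW q : W) : Ω) = ((g q : P) : Ω) from hfP q,
    ← hre (g q)]
  simp [MulAut.mul_apply]

include hS hF hM hN in
/-- The extension of an element of order prime to `p`. -/
theorem fam_ext_coprime (hP : SelfCentralizingIn F (T₁ ⊓ T₂) P) (hn : F.IsFullyNormalized P)
    (hPW : P ≤ W) (hW : W ≤ normalizerIn (T₁ ⊓ T₂) P) {a : MulAut P} (ha : a ∈ fam F M N p P)
    (haW : ∀ β ∈ autInducedBy W P, a * β * a⁻¹ ∈ autInducedBy W P)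
    (hco : (orderOf a).Coprime p) : ∃ γ ∈ fam F M N p W, Agree hPW γ a := by
  classical
  have hb := fam_base hS hF hM hN
  have hR := hb.closed
  have hRn := stronglyClosed_normal_in_S hR
  have hPS : P ≤ S := hn.1
  have hWR : W ≤ T₁ ⊓ T₂ := hW.trans (normalizerIn_le_S P)
  have hWS : W ≤ S := hWR.trans hR.1
  have hc := fullyCentralized_of_fullyNormalized p hS hF hn
  let V := P ⊔ centralizerIn S P
  have hVS : V ≤ S := sup_le hPS (centralizerIn_le_S P)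
  haveI : Finite P := finite_of_le hPS
  haveI : Finite V := finite_of_le hVS
  obtain ⟨B, hB, hBa, hBm⟩ := (mem_modP_self hS hF hc).1 (fam_le_modP hS hF hM.2.2 hN.2.2 hP ha)
  have hBst : B ∈ modStab P V := fun v => by
    obtain ⟨u, hu, w, hw, hv⟩ := exists_mul_sup v.2
    have hve : v = Subgroup.inclusion le_sup_left (⟨u, hu⟩ : P) *
        Subgroup.inclusion le_sup_right (⟨w, hw⟩ : centralizerIn S P) := Subtype.ext hv
    rw [hve, map_mul, Subgroup.coe_mul, Subgroup.coe_mul, hBa]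
    show (u * w)⁻¹ * (((a ⟨u, hu⟩ : P) : Ω) * _) ∈ P
    rw [show (u * w)⁻¹ * (((a ⟨u, hu⟩ : P) : Ω) *
      ((B (Subgroup.inclusion le_sup_right (⟨w, hw⟩ : centralizerIn S P)) : ↥V) : Ω)) =
      w⁻¹ * (u⁻¹ * ((a ⟨u, hu⟩ : P) : Ω)) *
      ((B (Subgroup.inclusion le_sup_right (⟨w, hw⟩ : centralizerIn S P)) : ↥V) : Ω) by group]
    have hx : u⁻¹ * ((a ⟨u, hu⟩ : P) : Ω) ∈ P := mul_mem (P.inv_mem hu) (a ⟨u, hu⟩).2
    rw [← ((centralizerIn S P).inv_mem hw).2 _ hx, mul_assoc]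
    exact mul_mem hx (hBm (Subgroup.inclusion le_sup_right ⟨w, hw⟩) hw)
  have hWN : ∀ w ∈ W, w ∈ normalizerIn S V := by
    intro w hw
    refine ⟨hWS hw, mem_normalizer_sup hPS (centralizerIn_le_S P) (hW hw).2
      (mem_normalizer_of_conj_mem (centralizerIn_le_S P) fun c hc' => ?_)⟩
    refine ⟨mul_mem (mul_mem (hWS hw) hc'.1) (S.inv_mem (hWS hw)), fun z hz => ?_⟩
    have hz' : w⁻¹ * z * w ∈ P := (Subgroup.mem_normalizer_iff''.1 (hW hw).2 z).1 hz
    calc z * (w * c * w⁻¹) = w * ((w⁻¹ * z * w) * c) * w⁻¹ := by group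
      _ = w * (c * (w⁻¹ * z * w)) * w⁻¹ := by rw [hc'.2 _ hz']
      _ = w * c * w⁻¹ * z := by group
  have hconj_st : ∀ (s : Ω) (hs : s ∈ W) (c : MulAut V),
      (∀ v : V, ((c v : V) : Ω) = s * v * s⁻¹) → c ∈ modStab P V := by
    intro s hs c hc' v
    rw [hc']
    obtain ⟨u, hu, d, hd, hv⟩ := exists_mul_sup v.2
    have hx : u⁻¹ * (s * u * s⁻¹) ∈ P :=
      mul_mem (P.inv_mem hu) ((Subgroup.mem_normalizer_iff.1 (hW hs).2 u).1 hu)
    have hsd : s * d * s⁻¹ ∈ centralizerIn S P := by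
      refine ⟨mul_mem (mul_mem (hWS hs) hd.1) (S.inv_mem (hWS hs)), fun z hz => ?_⟩
      have hz' : s⁻¹ * z * s ∈ P := (Subgroup.mem_normalizer_iff''.1 (hW hs).2 z).1 hz
      calc z * (s * d * s⁻¹) = s * ((s⁻¹ * z * s) * d) * s⁻¹ := by group
        _ = s * (d * (s⁻¹ * z * s)) * s⁻¹ := by rw [hd.2 _ hz']
        _ = s * d * s⁻¹ * z := by group
    have hdR : d⁻¹ * (s * d * s⁻¹) ∈ centralizerIn (T₁ ⊓ T₂) P := by
      refine ⟨?_, ((centralizerIn S P).mul_mem ((centralizerIn S P).inv_mem hd) hsd).2⟩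
      rw [show d⁻¹ * (s * d * s⁻¹) = d⁻¹ * s * d * s⁻¹ by group]
      exact mul_mem ((Subgroup.mem_normalizer_iff''.1 (hRn hd.1) s).1 (hWR hs))
        ((T₁ ⊓ T₂).inv_mem (hWR hs))
    rw [hv, show (u * d)⁻¹ * (s * (u * d) * s⁻¹) =
      d⁻¹ * (u⁻¹ * (s * u * s⁻¹)) * (s * d * s⁻¹) by group,
      ← ((centralizerIn S P).inv_mem hd).2 _ hx, mul_assoc]
    exact mul_mem hx (centralizer_le_of_sc hP hPS hdR)
  -- the partner of an element of `W`
  have hpartner : ∀ (w : Ω) (hw : w ∈ W), ∃ v ∈ V, ∃ w' ∈ W,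
      (∀ (y : P) (c : MulAut P), (∀ y : P, ((c y : P) : Ω) = w * y * w⁻¹) →
        ((a (c (a⁻¹ y)) : P) : Ω) = w' * y * w'⁻¹) ∧
      ∀ y : V, B ⟨w * y * w⁻¹, (Subgroup.mem_normalizer_iff.1 (hWN w hw).2 _).1 y.2⟩ =
        (v * w') * ((B y : V) : Ω) * (v * w')⁻¹ := by
    intro w hw
    obtain ⟨cP, hcP⟩ : ∃ c : MulAut P, ∀ y : P, ((c y : P) : Ω) = w * y * w⁻¹ :=
      ⟨conjAut W P ⟨w, hw, (hW hw).2⟩, fun _ => rfl⟩
    obtain ⟨w', hw', hwe⟩ := mem_autInducedBy.1 (haW cP (mem_autInducedBy.2 ⟨w, hw, hcP⟩))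
    obtain ⟨X, hX, hXe⟩ := exists_conj_aut_of_mem (F := F) hVS (hWN w hw)
    obtain ⟨X', hX', hX'e⟩ := exists_conj_aut_of_mem (F := F) hVS (hWN w' hw')
    let δ : MulAut V := B * X * B⁻¹ * X'⁻¹
    have hδst : δ ∈ modStab P V :=
      mul_mem (mul_mem (mul_mem hBst (hconj_st w hw X hXe)) (inv_mem hBst))
        (inv_mem (hconj_st w' hw' X' hX'e))
    have hδF : δ ∈ F.autGroup V :=
      mul_mem (mul_mem (mul_mem hB hX) (inv_mem hB)) (inv_mem hX')
    have hXP : Agree le_sup_left X cP := fun y => by rw [hXe, hcP]; rfl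
    have hX'P : Agree le_sup_left X' (a * cP * a⁻¹) := fun y => by rw [hX'e, hwe]; rfl
    have hδ1 : Agree le_sup_left δ (1 : MulAut P) := by
      have h1 := ((hBa.mul hXP).mul hBa.inv).mul hX'P.inv
      rwa [mul_inv_cancel] at h1
    obtain ⟨k, hk⟩ := exists_pow_eq_one_of_fix hS le_sup_left hVS
      (fun v hv => Subtype.ext (hδ1 ⟨v, hv⟩)) hδst
    obtain ⟨v, hv, hve⟩ := fix_mem_induced p hS hF hc hδF hδ1 hk
    refine ⟨v, Subgroup.mem_sup_right hv, w', hw', fun y c hc' => ?_, fun y => ?_⟩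
    · rw [show c = cP from MulEquiv.ext fun z => Subtype.ext ((hc' z).trans (hcP z).symm)]
      exact hwe y
    · have h2 : δ (X' (B y)) = B (X y) := by simp [δ, MulAut.mul_apply]
      rw [show (⟨w * y * w⁻¹, _⟩ : V) = X y from Subtype.ext (hXe y).symm, ← h2, hve, hX'e]
      group
  -- extension to `V W`
  have hVF := (autGroup_carrier hVS).1 hB
  let Y := V ⊔ W
  have hYS : Y ≤ S := sup_le hVS hWS
  have hPY : P ≤ Y := hPW.trans le_sup_right
  haveI : Finite Y := finite_of_le hYS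
  obtain ⟨ψ, hψ, hψe⟩ := saturated_extend p hS hF hVF
    (by rw [range_subtype_comp]; exact isFullyCentralized_of_centric (isCentric_sup_centralizer hc))
    (N := Y) (sup_le (le_extender hVF) fun w hw => by
      obtain ⟨v, hv, w', hw', -, hve⟩ := hpartner w hw
      exact mem_extender_of (hWN w hw) (h := v * w')
        (mul_mem (hVS hv) (hWS hw')) fun y _ => hve y)
  obtain ⟨f, hf, hfe⟩ := Mor.of_mem hψ
  have hfV : ∀ v : V, f v = ((B v : V) : Ω) := fun v =>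
    (hfe ⟨v, Subgroup.mem_sup_left v.2⟩).trans (hψe v v.2 _)
  have hfP : ∀ y : P, f y = ((a y : P) : Ω) := fun y =>
    (hfV ⟨y, Subgroup.mem_sup_left y.2⟩).trans (hBa y)
  have hfW : ∀ w ∈ W, f w ∈ W := by
    intro w hw
    obtain ⟨-, -, w', hw', hw'e, -⟩ := hpartner w hw
    obtain ⟨cP, hcP⟩ : ∃ c : MulAut P, ∀ y : P, ((c y : P) : Ω) = w * y * w⁻¹ :=
      ⟨conjAut W P ⟨w, hw, (hW hw).2⟩, fun _ => rfl⟩
    have h1 : w'⁻¹ * f w ∈ centralizerIn (T₁ ⊓ T₂) P := by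
      refine ⟨mul_mem ((T₁ ⊓ T₂).inv_mem (hWR hw'))
        (mor_apply_mem hR hf (Subgroup.mem_sup_right hw) (hWR hw)),
        diff_mem_centralizer fun z hz => ?_⟩
      rw [← hw'e ⟨z, hz⟩ cP hcP, ← hfP, hcP,
        hf.map_conj (Subgroup.mem_sup_right hw) (hPY (a⁻¹ ⟨z, hz⟩).2), hfP,
        MulAut.apply_inv_self]
    have h2 := mul_mem hw' (hPW (centralizer_le_of_sc hP hPS h1))
    rwa [mul_inv_cancel_left] at h2
  have hfY : ∀ y ∈ Y, f y ∈ Y := by
    intro y hy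
    have hle : Y ≤ (Y.comap ψ).map Y.subtype := by
      refine sup_le (fun x hx => ⟨⟨x, Subgroup.mem_sup_left hx⟩, ?_, rfl⟩)
        fun x hx => ⟨⟨x, Subgroup.mem_sup_right hx⟩, ?_, rfl⟩
      · show ψ _ ∈ Y
        rw [hψe x hx _]
        exact Subgroup.mem_sup_left (B ⟨x, hx⟩).2
      · show ψ _ ∈ Y
        rw [← hfe]
        exact Subgroup.mem_sup_right (hfW x hx)
    obtain ⟨w, hw, hwe⟩ := hle hy
    rw [← hwe]
    exact Set.mem_of_eq_of_mem (hfe w) hw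
  obtain ⟨β, hβ, hβe⟩ := exists_aut_of_self hf le_rfl hfY
  have hβV : Agree (le_sup_left : V ≤ Y) β B := fun v => (hβe _).trans (hfV v)
  have hβP : Agree hPY β a := fun y => (hβe _).trans (hfP y)
  haveI : Finite (MulAut Y) := finite_mulAut
  haveI : Finite W := finite_of_le hWS
  haveI : Finite (MulAut W) := finite_mulAut
  obtain ⟨β₀, hβ₀⟩ := exists_agree (le_sup_right : W ≤ Y) β fun x hx => by
    rw [hβe]
    exact hfW x hx
  obtain ⟨e, he1, he2⟩ := ConstrainedNormal.exists_pow_coprime p β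
  have hae : a ^ e = a :=
    he2 a hco (orderOf_dvd_of_pow_eq_one ((hβP.pow _).eq_one (pow_orderOf_eq_one β)))
  let γ := β₀ ^ e
  have hγW : Agree (le_sup_right : W ≤ Y) (β ^ e) γ := hβ₀.pow e
  have hγa : Agree hPW γ a := fun y => by
    refine (hγW (Subgroup.inclusion hPW y)).symm.trans ?_
    have h := hβP.pow e y
    rw [hae] at h
    exact h
  have hγco : (orderOf γ).Coprime p := Nat.Coprime.coprime_dvd_left
    (orderOf_dvd_of_pow_eq_one ((hγW.pow _).eq_one (pow_orderOf_eq_one _))) he1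
  have hγF : γ ∈ F.autGroup W := hγW.mem hYS (pow_mem hβ e)
  -- membership in the two subsystems
  have side : ∀ {T : Subgroup Ω} (E : FusionSystem T), E.IsWeaklyNormalIn F p →
      T₁ ⊓ T₂ ≤ T → a ∈ E.autGroup P → γ ∈ E.autGroup W := by
    intro T E hE hRT haE
    obtain ⟨hEs, -, hinv⟩ := hE
    have hPT : P ≤ T := hP.1.trans hRT
    have hWT : W ≤ T := hWR.trans hRT
    haveI : Finite T := finite_of_le hinv.2.1.1
    have hTp : IsPGroup p T := isPGroup_of_le hS hinv.2.1.1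
    have haE' := (autGroup_carrier hPT).1 haE
    obtain ⟨χ, hχ, hχe⟩ := saturated_extend p hTp hEs haE'
      (by rw [range_subtype_comp]
          exact fullyCentralized_sub p hS hF hinv.2.1 hinv.1 hPT hc)
      (N := W) (fun w hw => by
        obtain ⟨cP, hcP⟩ : ∃ c : MulAut P, ∀ y : P, ((c y : P) : Ω) = w * y * w⁻¹ :=
          ⟨conjAut W P ⟨w, hw, (hW hw).2⟩, fun _ => rfl⟩
        obtain ⟨w', hw', hwe⟩ := mem_autInducedBy.1 (haW cP (mem_autInducedBy.2 ⟨w, hw, hcP⟩))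
        refine mem_extender_of ⟨hWT hw, (hW hw).2⟩ (hWT hw') fun y hy => ?_
        show ((a ⟨_, hy⟩ : P) : Ω) = w' * ((a y : P) : Ω) * w'⁻¹
        rw [← hwe (a y), MulAut.mul_apply, MulAut.mul_apply, MulAut.inv_apply_self,
          show (⟨w * (y : Ω) * w⁻¹, hy⟩ : P) = cP y from Subtype.ext (hcP y).symm])
    have hχP : ∀ y : P, χ (Subgroup.inclusion hPW y) = ((a y : P) : Ω) := fun y => hχe y y.2 _
    have hχr : χ.range = W := by
      refine eq_of_le_of_card_le hWS ?_ (card_range hχ).ge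
      rintro _ ⟨⟨w, hw⟩, rfl⟩
      obtain ⟨cP, hcP⟩ : ∃ c : MulAut P, ∀ y : P, ((c y : P) : Ω) = w * y * w⁻¹ :=
        ⟨conjAut W P ⟨w, hw, (hW hw).2⟩, fun _ => rfl⟩
      obtain ⟨w', hw', hwe⟩ := mem_autInducedBy.1 (haW cP (mem_autInducedBy.2 ⟨w, hw, hcP⟩))
      have h1 : w'⁻¹ * χ ⟨w, hw⟩ ∈ centralizerIn (T₁ ⊓ T₂) P := by
        refine ⟨mul_mem ((T₁ ⊓ T₂).inv_mem (hWR hw'))
          (map_mem_of_stronglyClosed hR (hinv.1 W hχ) (hWR hw)),
          diff_mem_centralizer fun z hz => ?_⟩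
        obtain ⟨q, hq⟩ := a.surjective ⟨z, hz⟩
        have hzq : z = ((a q : P) : Ω) := (congrArg Subtype.val hq).symm
        subst hzq
        rw [← hwe (a q), MulAut.mul_apply, MulAut.mul_apply, MulAut.inv_apply_self, ← hχP, ← hχP,
          ← map_inv, ← map_mul, ← map_mul]
        exact apply_congr χ (hcP q).symm
      have h2 := mul_mem hw' (hPW (centralizer_le_of_sc hP hPS h1))
      rwa [mul_inv_cancel_left] at h2
    let aE := autOfRange χ (E.injective_of_mem hχ) hχr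
    have haEm : aE ∈ E.autGroup W := autOfRange_mem hχ hχr
    have haEF : aE ∈ F.autGroup W :=
      (autGroup_carrier hWS).2 (hinv.1 W ((autGroup_carrier hWT).1 haEm))
    have haEP : Agree hPW aE a := fun y => hχP y
    let κ := aE⁻¹ * γ
    have hκ1 : Agree hPW κ (1 : MulAut P) := by
      have h := haEP.inv.mul hγa
      rwa [inv_mul_cancel] at h
    have hκd : ∀ w : W, (w : Ω)⁻¹ * ((κ w : W) : Ω) ∈ P := by
      intro w
      refine centralizer_le_of_sc hP hPS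
        ⟨mul_mem ((T₁ ⊓ T₂).inv_mem (hWR w.2)) (hWR (κ w).2),
          diff_mem_centralizer fun z hz => ?_⟩
      have hwz : (w : Ω) * z * (w : Ω)⁻¹ ∈ P := (Subgroup.mem_normalizer_iff.1 (hW w.2).2 z).1 hz
      have h1 := hκ1 ⟨_, hwz⟩
      rw [show Subgroup.inclusion hPW ⟨_, hwz⟩ = w * Subgroup.inclusion hPW ⟨z, hz⟩ * w⁻¹ from rfl,
        map_mul, map_mul, map_inv, Subgroup.coe_mul, Subgroup.coe_mul, InvMemClass.coe_inv,
        hκ1 ⟨z, hz⟩] at h1
      exact h1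
    obtain ⟨k, hk⟩ := exists_pow_eq_one_of_fix hS hPW hWS
      (fun w hw => Subtype.ext (hκ1 ⟨w, hw⟩)) hκd
    let B' : Subgroup (F.autGroup W) := (E.autGroup W).subgroupOf (F.autGroup W)
    haveI : B'.Normal := ⟨fun n hn g => Subgroup.mem_subgroupOf.2 (by
      show (g : MulAut W) * (n : MulAut W) * (g : MulAut W)⁻¹ ∈ E.autGroup W
      rw [← congr_eq_conj]
      exact autGroup_equiv hinv hWT (isoIn_of_aut hWS g.2) hn)⟩
    have hmem := mem_of_mul_pElement (p := p) (B := B') (b := ⟨aE, haEF⟩)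
      (κ := ⟨κ, mul_mem (inv_mem haEF) hγF⟩) (Subgroup.mem_subgroupOf.2 haEm)
      ⟨k, Subtype.ext hk⟩ (by
        rw [← Subgroup.orderOf_coe]
        show (orderOf (aE * (aE⁻¹ * γ))).Coprime p
        rwa [mul_inv_cancel_left])
    have h3 : aE * (aE⁻¹ * γ) ∈ E.autGroup W := Subgroup.mem_subgroupOf.1 hmem
    rwa [mul_inv_cancel_left] at h3
  refine ⟨γ, cop_mem_fam ⟨hγco, side M hM inf_le_left (fam_le_left hM.2.2 hP.1 ha),
    side N hN inf_le_right (fam_le_right hN.2.2 hP.1 ha), ?_⟩, hγa⟩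
  have hWc := fullyCentralized_mid hS hF hR hP hc hPW hW
  rw [mem_modP_self hS hF hWc]
  have hWCY : W ⊔ centralizerIn S W ≤ Y :=
    sup_le le_sup_right fun c hc' => Subgroup.mem_sup_left
      (Subgroup.mem_sup_right (centralizerIn_anti hPW hc'))
  haveI : Finite ↥(W ⊔ centralizerIn S W) := finite_of_le (hWCY.trans hYS)
  obtain ⟨A, hA⟩ := exists_agree hWCY (β ^ e) fun x hx => by
    obtain ⟨u, hu, c, hc', hv⟩ := exists_mul_sup hx
    have hxe : x = Subgroup.inclusion le_sup_right (⟨u, hu⟩ : W) *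
        (⟨c, hWCY (Subgroup.mem_sup_right hc')⟩ : Y) := Subtype.ext hv
    rw [hxe, map_mul, Subgroup.coe_mul, hγW]
    exact mul_mem (Subgroup.mem_sup_left (γ ⟨u, hu⟩).2)
      (Subgroup.mem_sup_right
        (map_cent hγW hYS (x := ⟨c, hWCY (Subgroup.mem_sup_right hc')⟩) hc'))
  refine ⟨A, hA.mem hYS (pow_mem hβ e), fun x => (hA _).symm.trans (hγW x), fun c hc' => ?_⟩
  rw [← hA c]
  let cV : V := ⟨c, Subgroup.mem_sup_right (centralizerIn_anti hPW hc')⟩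
  have h1 := (hβV.pow e) cV
  refine hPW ?_
  show (c : Ω)⁻¹ * (((β ^ e) (Subgroup.inclusion hWCY c) : Y) : Ω) ∈ P
  rw [show Subgroup.inclusion hWCY c = Subgroup.inclusion le_sup_left cV from rfl, h1]
  exact pow_mem hBst e cV

include hS hF hM hN in
/-- **The family has the extension property.** -/
theorem fam_ext : ∀ {P W : Subgroup Ω} (h : P ≤ W), SelfCentralizingIn F (T₁ ⊓ T₂) P →
    W ≤ normalizerIn (T₁ ⊓ T₂) P → ∀ {a : MulAut P}, a ∈ fam F M N p P →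
      (∀ β ∈ autInducedBy W P, a * β * a⁻¹ ∈ autInducedBy W P) →
        ∃ γ ∈ fam F M N p W, Agree h γ a := by
  intro P W hPW hP hW a ha haW
  classical
  have hb := fam_base hS hF hM hN
  have hR := hb.closed
  have hPS : P ≤ S := hP.1.trans hR.1
  have hWR : W ≤ T₁ ⊓ T₂ := hW.trans (normalizerIn_le_S P)
  obtain ⟨Q, f, hQ, hf, hfi⟩ := exists_mor_normalizer hS hF hPS
  have hWN : W ≤ normalizerIn S P := fun x hx => ⟨hR.1 (hWR hx), (hW hx).2⟩
  obtain ⟨W', hW'⟩ := hf.exists_im hWN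
  obtain ⟨e, he, hee⟩ := exists_isoIn hf (le_normalizerIn hPS) hfi
  obtain ⟨E, hE, hEe⟩ := exists_isoIn hf hWN hW'
  have hQW : Q ≤ W' := fun y hy => by
    obtain ⟨x, hx, rfl⟩ := hfi.surj hy
    exact hW'.mem (hPW hx)
  have hW'N : W' ≤ normalizerIn (T₁ ⊓ T₂) Q := fun y hy => by
    obtain ⟨x, hx, rfl⟩ := hW'.surj hy
    exact ⟨mor_apply_mem hR hf (hWN hx) (hWR hx),
      (hf.mem_normalizerIn (le_normalizerIn hPS) hfi (hWN hx) (hWN hx).2).2⟩
  have hconj : ∀ β ∈ autInducedBy W' Q,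
      MulAut.congr e a * β * (MulAut.congr e a)⁻¹ ∈ autInducedBy W' Q := by
    intro β hβ
    obtain ⟨y, hy, hye⟩ := mem_autInducedBy.1 hβ
    obtain ⟨w, hw, rfl⟩ := hW'.surj hy
    obtain ⟨c, hc'⟩ : ∃ c : MulAut P, ∀ z : P, ((c z : P) : Ω) = w * z * w⁻¹ :=
      ⟨conjAut W P ⟨w, hw, (hW hw).2⟩, fun _ => rfl⟩
    obtain ⟨w', hw', hwe⟩ := mem_autInducedBy.1 (haW c (mem_autInducedBy.2 ⟨w, hw, hc'⟩))
    have hβc : β = MulAut.congr e c := MulEquiv.ext fun z => Subtype.ext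
      ((hye z).trans (congr_conj_apply hf (le_normalizerIn hPS) hee (hWN hw) hc' z).symm)
    rw [hβc, ← map_mul, ← map_inv, ← map_mul]
    exact mem_autInducedBy.2 ⟨f w', hW'.mem hw',
      congr_conj_apply hf (le_normalizerIn hPS) hee (hWN hw') hwe⟩
  have hQsc := hP.of_isConj hR he.isConj
  haveI : Finite Q := finite_of_le hQ.1
  haveI : Finite (MulAut Q) := finite_mulAut
  let a' := MulAut.congr e a
  have ha' : a' ∈ fam F M N p Q := fam_equiv hM.2.2 hN.2.2 hP.1 he ha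
  obtain ⟨i, j, hi, hk, hij⟩ := exists_parts p a'
  obtain ⟨γ₁, hγ₁, hγ₁a⟩ := fam_ext_pElement hS hF hM hN hQsc hQ hQW hW'N (pow_mem ha' j)
    (pow_conj_mem hconj j) hk
  obtain ⟨γ₂, hγ₂, hγ₂a⟩ := fam_ext_coprime hS hF hM hN hQsc hQ hQW hW'N (pow_mem ha' i)
    (pow_conj_mem hconj i) hi
  have hγ : Agree hQW (γ₁ * γ₂) a' := by
    have h := hγ₁a.mul hγ₂a
    rwa [hij] at h
  refine ⟨MulAut.congr E.symm (γ₁ * γ₂),
    fam_equiv hM.2.2 hN.2.2 (hW'N.trans (normalizerIn_le_S Q)) hE.symm (mul_mem hγ₁ hγ₂), ?_⟩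
  have h := agree_congr (e := e.symm) (E := E.symm) (hPW := hQW) hPW (fun y => ?_) hγ
  · rwa [congr_symm_congr] at h
  · obtain ⟨x, rfl⟩ := e.surjective y
    rw [e.symm_apply_apply,
      show Subgroup.inclusion hQW (e x) = E (Subgroup.inclusion hPW x) from
        Subtype.ext ((hee x).trans (hEe (Subgroup.inclusion hPW x)).symm), E.symm_apply_apply]
    rfl

end CfsgLib.Meet
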