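import Cfsg.Agent.Fusion.HGen.Main
import Cfsg.Agent.Fusion.NormalExtension

/-!
Isomorphisms of a fusion system between subgroups, and small lemmas on automorphisms, used for the
construction of the meet of normal subsystems.
-/

set_option autoImplicit false
set_option linter.style.haveILetI false
set_option linter.unusedSectionVars false

open Cfsg Cfsg.FusionSystem CfsgLib.Fusion CfsgLib.FocCent CfsgLib.NormCent CfsgLib.NormExt

namespace CfsgLib.Meet

variable {Ω : Type*} [Group Ω] {S : Subgroup Ω} {F : FusionSystem S}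

/-- `e` is an isomorphism of the system. -/
def IsoIn (F : FusionSystem S) {P Q : Subgroup Ω} (e : P ≃* Q) : Prop :=
  Q.subtype.comp e.toMonoidHom ∈ F.Hom P

theorem range_coe {P Q : Subgroup Ω} (e : P ≃* Q) : (Q.subtype.comp e.toMonoidHom).range = Q := by
  rw [MonoidHom.range_comp, MonoidHom.range_eq_top.2 e.surjective, ← MonoidHom.range_eq_map,
    Q.range_subtype]

section

variable {P Q R : Subgroup Ω} {e : P ≃* Q}

theorem IsoIn.le_left (he : IsoIn F e) : P ≤ S := le_of_mem_hom he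

theorem IsoIn.le_right (he : IsoIn F e) : Q ≤ S := by
  rw [← range_coe e]
  exact range_le_S he

theorem IsoIn.isConj (he : IsoIn F e) : F.IsConj P Q := ⟨_, he, range_coe e⟩

theorem isoIn_refl (hP : P ≤ S) : IsoIn F (MulEquiv.refl P) :=
  restrict_mem_of_eq (subtype_mem hP) le_rfl fun _ => rfl

theorem IsoIn.symm (he : IsoIn F e) : IsoIn F e.symm := by
  obtain ⟨ψ, hψ, -, h1, -⟩ := exists_inv he (range_coe e)
  refine restrict_mem_of_eq hψ le_rfl fun y => ?_
  show ((e.symm y : P) : Ω) = ψ _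
  rw [← h1 (e.symm y) (e (e.symm y)).2]
  exact apply_congr ψ (congrArg Subtype.val (e.apply_symm_apply y))

theorem IsoIn.trans (he : IsoIn F e) {e' : Q ≃* R} (he' : IsoIn F e') :
    IsoIn F (e.trans e') :=
  comp_mem_of_eq he he' (fun x => (e x).2) fun _ => rfl

theorem IsoIn.congr_mem (he : IsoIn F e) {a : MulAut P} (ha : a ∈ F.autGroup P) :
    MulAut.congr e a ∈ F.autGroup Q :=
  pow_mem_autGroup_iso he.le_left he e (fun _ => rfl) ha

theorem isoIn_of_aut (hP : P ≤ S) {a : MulAut P} (ha : a ∈ F.autGroup P) : IsoIn F a :=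
  (autGroup_carrier hP).1 ha

theorem mem_aut_of_isoIn {a : MulAut P} (ha : IsoIn F a) : a ∈ F.autGroup P :=
  Subgroup.subset_closure ha

theorem IsoIn.exists_mor (he : IsoIn F e) :
    ∃ f : Ω → Ω, Mor F P f ∧ Im f P Q ∧ ∀ x : P, f x = ((e x : Q) : Ω) := by
  obtain ⟨f, hf, hfe⟩ := Mor.of_mem he
  refine ⟨f, hf, fun y => ⟨fun hy => ?_, ?_⟩, hfe⟩
  · refine ⟨((e.symm ⟨y, hy⟩ : P) : Ω), SetLike.coe_mem _, (hfe _).trans ?_⟩
    show ((e (e.symm ⟨y, hy⟩) : Q) : Ω) = y
    rw [e.apply_symm_apply]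
  · rintro ⟨x, hx, rfl⟩
    exact Set.mem_of_eq_of_mem (hfe ⟨x, hx⟩) (SetLike.coe_mem _)

theorem exists_isoIn {U : Subgroup Ω} {f : Ω → Ω} (hf : Mor F U f) (hPU : P ≤ U)
    (hi : Im f P Q) : ∃ e : P ≃* Q, IsoIn F e ∧ ∀ x : P, ((e x : Q) : Ω) = f x := by
  obtain ⟨e, he, -⟩ := (hf.mono hPU).exists_equiv le_rfl hi
  obtain ⟨φ, hφ, hφe⟩ := hf.mono hPU
  exact ⟨e, restrict_mem_of_eq hφ le_rfl fun x => (he x).trans (hφe x).symm, he⟩

theorem congr_congr (e : P ≃* Q) (e' : Q ≃* R) (a : MulAut P) :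
    MulAut.congr (e.trans e') a = MulAut.congr e' (MulAut.congr e a) :=
  MulEquiv.ext fun _ => rfl

theorem congr_symm_congr (e : P ≃* Q) (a : MulAut P) :
    MulAut.congr e.symm (MulAut.congr e a) = a :=
  MulEquiv.ext fun x => by simp

theorem congr_congr_symm (e : P ≃* Q) (a : MulAut Q) :
    MulAut.congr e (MulAut.congr e.symm a) = a :=
  MulEquiv.ext fun x => by simp

theorem congr_refl (a : MulAut P) : MulAut.congr (MulEquiv.refl P) a = a :=
  MulEquiv.ext fun _ => rfl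

theorem congr_eq_conj (g a : MulAut P) : MulAut.congr g a = g * a * g⁻¹ :=
  MulEquiv.ext fun _ => rfl

theorem congr_apply_apply (e : P ≃* Q) (a : MulAut P) (x : P) :
    MulAut.congr e a (e x) = e (a x) := by
  simp

/-- Transport of a conjugation automorphism. -/
theorem congr_conj_apply {U : Subgroup Ω} {f : Ω → Ω} (hf : Mor F U f) (hPU : P ≤ U)
    (he : ∀ x : P, ((e x : Q) : Ω) = f x) {g : Ω} (hg : g ∈ U) {a : MulAut P}
    (ha : ∀ x : P, ((a x : P) : Ω) = g * x * g⁻¹) (y : Q) :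
    ((MulAut.congr e a y : Q) : Ω) = f g * y * (f g)⁻¹ := by
  obtain ⟨x, rfl⟩ := e.surjective y
  rw [congr_apply_apply, he, he, ha, hf.map_conj hg (hPU x.2)]

/-- Transport of agreeing automorphisms. -/
theorem agree_congr {W V : Subgroup Ω} {hPW : P ≤ W} (hQV : Q ≤ V) {E : W ≃* V}
    (hE : ∀ x : P, ((E (Subgroup.inclusion hPW x) : V) : Ω) = ((e x : Q) : Ω))
    {A : MulAut W} {a : MulAut P} (hA : Agree hPW A a) :
    Agree hQV (MulAut.congr E A) (MulAut.congr e a) := by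
  intro y
  obtain ⟨x, rfl⟩ := e.surjective y
  rw [show Subgroup.inclusion hQV (e x) = E (Subgroup.inclusion hPW x) from
    Subtype.ext (hE x).symm, congr_apply_apply, congr_apply_apply, hA.apply, hE]

end

/-- A map carrying a finite subgroup into itself carries it onto itself. -/
theorem im_self [Finite S] {U A : Subgroup Ω} {f : Ω → Ω} (hf : Mor F U f) (hAU : A ≤ U)
    (h : ∀ x ∈ A, f x ∈ A) : Im f A A := by
  obtain ⟨V, hV⟩ := hf.exists_im hAU
  have hVA : V ≤ A := fun y hy => by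
    obtain ⟨x, hx, rfl⟩ := hV.surj hy
    exact h x hx
  have := eq_of_le_of_card_le (hAU.trans hf.le_S) hVA (hf.card_im hAU hV).ge
  exact this ▸ hV

/-- An automorphism of the system on `U` as a self-map restricted to a stable subgroup. -/
theorem exists_aut_of_self [Finite S] {U A : Subgroup Ω} {f : Ω → Ω} (hf : Mor F U f)
    (hAU : A ≤ U) (h : ∀ x ∈ A, f x ∈ A) :
    ∃ α ∈ F.autGroup A, ∀ x : A, ((α x : A) : Ω) = f x :=
  hf.exists_aut hAU (im_self hf hAU h)

theorem diff_mem_centralizer {P : Subgroup Ω} {g h : Ω}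
    (H : ∀ x ∈ P, g * x * g⁻¹ = h * x * h⁻¹) : h⁻¹ * g ∈ Subgroup.centralizer (P : Set Ω) := by
  intro x hx
  have h1 := H x hx
  calc x * (h⁻¹ * g) = h⁻¹ * (h * x * h⁻¹) * g := by group
    _ = h⁻¹ * (g * x * g⁻¹) * g := by rw [← h1]
    _ = h⁻¹ * g * x := by group

/-- An automorphism fixing `P` and moving elements only inside `P` has order dividing `|P|`. -/
theorem pow_card_eq_one_of_fix {P W : Subgroup Ω} (h : P ≤ W) {γ : MulAut W}
    (hfix : ∀ w : W, (w : Ω) ∈ P → γ w = w)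
    (hdisp : ∀ w : W, (w : Ω)⁻¹ * ((γ w : W) : Ω) ∈ P) : γ ^ Nat.card P = 1 := by
  refine MulEquiv.ext fun x => ?_
  have h1 := pow_mul_fix γ (B := ⊤) (C := P.subgroupOf W) (N := 1) (fun w _ => hdisp w)
    (fun w hw => by rw [hfix w hw]; exact hw)
    (fun c hc => by rw [pow_one]; exact hfix c hc) x trivial
  rwa [one_mul, Nat.card_congr (Subgroup.subgroupOfEquivOfLe h).toEquiv] at h1

theorem exists_pow_eq_one_of_fix [Finite S] {p : ℕ} [Fact p.Prime] (hS : IsPGroup p S)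
    {P W : Subgroup Ω} (h : P ≤ W) (hW : W ≤ S) {γ : MulAut W}
    (hfix : ∀ w : W, (w : Ω) ∈ P → γ w = w)
    (hdisp : ∀ w : W, (w : Ω)⁻¹ * ((γ w : W) : Ω) ∈ P) : ∃ k : ℕ, γ ^ p ^ k = 1 := by
  have := finite_of_le (h.trans hW)
  obtain ⟨k, hk⟩ := IsPGroup.iff_card.1 (isPGroup_of_le hS (h.trans hW))
  exact ⟨k, hk ▸ pow_card_eq_one_of_fix h hfix hdisp⟩

/-- The two parts of an element of finite order. -/
theorem exists_parts {X : Type*} [Group X] [Finite X] (p : ℕ) [Fact p.Prime] (x : X) :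
    ∃ i j : ℕ, (orderOf (x ^ i)).Coprime p ∧ (∃ k : ℕ, (x ^ j) ^ p ^ k = 1) ∧
      x ^ j * x ^ i = x := by
  obtain ⟨k, m, hm, he⟩ := Nat.exists_eq_pow_mul_and_not_dvd (orderOf_pos x).ne' p
    (Fact.out : p.Prime).ne_one
  have hco : Nat.Coprime p m := ((Fact.out : p.Prime).coprime_iff_not_dvd).2 hm
  obtain ⟨i, hi1, hi2⟩ := Nat.chineseRemainder (hco.pow_left k) 0 1
  obtain ⟨j, hj1, hj2⟩ := Nat.chineseRemainder (hco.pow_left k) 1 0
  refine ⟨i, j, Nat.Coprime.coprime_dvd_left ?_ hco.symm, ⟨k, ?_⟩, ?_⟩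
  · obtain ⟨c, hc⟩ := Nat.modEq_zero_iff_dvd.1 hi1
    rw [orderOf_dvd_iff_pow_eq_one, hc, ← pow_mul,
      show p ^ k * c * m = p ^ k * m * c by ring, ← he, pow_mul, pow_orderOf_eq_one, one_pow]
  · obtain ⟨c, hc⟩ := Nat.modEq_zero_iff_dvd.1 hj2
    rw [← pow_mul, hc, show m * c * p ^ k = p ^ k * m * c by ring, ← he, pow_mul,
      pow_orderOf_eq_one, one_pow]
  · rw [← pow_add]
    refine (pow_eq_pow_iff_modEq.2 ?_).trans (pow_one x)
    rw [he]
    exact (Nat.modEq_and_modEq_iff_modEq_mul (hco.pow_left k)).1 ⟨hj1.add hi1, hj2.add hi2⟩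

theorem isPGroup_zpowers {X : Type*} [Group X] {p : ℕ} {x : X} {k : ℕ} (h : x ^ p ^ k = 1) :
    IsPGroup p (Subgroup.zpowers x) := by
  intro g
  obtain ⟨z, hz⟩ := Subgroup.mem_zpowers_iff.1 g.2
  refine ⟨k, Subtype.ext ?_⟩
  show (g : X) ^ p ^ k = 1
  rw [← hz, ← zpow_natCast, ← zpow_mul, mul_comm, zpow_mul, zpow_natCast, h, one_zpow]

/-- An element that is at once a product of a `p`-element and a member of a normal subgroup and of
order prime to `p` lies in the normal subgroup. -/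
theorem mem_of_mul_pElement {X : Type*} [Group X] {p : ℕ} [Fact p.Prime] {B : Subgroup X}
    [B.Normal] {b κ : X} (hb : b ∈ B) (hκ : ∃ k : ℕ, κ ^ p ^ k = 1)
    (hco : (orderOf (b * κ)).Coprime p) : b * κ ∈ B := by
  obtain ⟨k, hk⟩ := hκ
  rw [← QuotientGroup.eq_one_iff, ← orderOf_eq_one_iff]
  refine Nat.eq_one_of_dvd_coprimes (hco.pow_right k) ?_ ?_
  · exact orderOf_map_dvd (QuotientGroup.mk' B) _
  · refine orderOf_dvd_of_pow_eq_one ?_
    rw [QuotientGroup.mk_mul, (QuotientGroup.eq_one_iff b).2 hb, one_mul, ← QuotientGroup.mk_pow,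
      hk, QuotientGroup.mk_one]

end CfsgLib.Meet
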