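import Cfsg.Agent.Fusion.GenFitting
import Cfsg.Agent.Fusion.Meet.Util
import Cfsg.Agent.Fusion.HGen.Mor

/-!
Central products of two fusion systems, handled through functions.
-/

set_option autoImplicit false
set_option linter.style.haveILetI false
set_option linter.unusedSectionVars false

open Cfsg Cfsg.FusionSystem CfsgLib.Fusion

namespace CfsgLib.Meet

universe u

variable {Ω : Type u} [Group Ω] {T₁ T₂ T : Subgroup Ω} {E₁ : FusionSystem T₁}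
  {E₂ : FusionSystem T₂} {D : FusionSystem T} {p : ℕ}

/-- The first components of the elements of `P`. -/
def proj₁ (T₁ T₂ P : Subgroup Ω) : Set Ω := {a | a ∈ T₁ ∧ ∃ b ∈ T₂, a * b ∈ P}

/-- The second components of the elements of `P`. -/
def proj₂ (T₁ T₂ P : Subgroup Ω) : Set Ω := {b | b ∈ T₂ ∧ ∃ a ∈ T₁, a * b ∈ P}

/-- The product of the two projections of `P`. -/
def hat (T₁ T₂ P : Subgroup Ω) : Subgroup Ω :=
  Subgroup.closure (proj₁ T₁ T₂ P) ⊔ Subgroup.closure (proj₂ T₁ T₂ P)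

theorem closure_proj₁_le {P : Subgroup Ω} : Subgroup.closure (proj₁ T₁ T₂ P) ≤ T₁ :=
  (Subgroup.closure_le _).2 fun _ h => h.1

theorem closure_proj₂_le {P : Subgroup Ω} : Subgroup.closure (proj₂ T₁ T₂ P) ≤ T₂ :=
  (Subgroup.closure_le _).2 fun _ h => h.1

theorem hat_le {P : Subgroup Ω} : hat T₁ T₂ P ≤ T₁ ⊔ T₂ :=
  sup_le_sup closure_proj₁_le closure_proj₂_le

theorem mem_hat_left {P : Subgroup Ω} {a b : Ω} (ha : a ∈ T₁) (hb : b ∈ T₂) (h : a * b ∈ P) :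
    a ∈ Subgroup.closure (proj₁ T₁ T₂ P) :=
  Subgroup.subset_closure ⟨ha, b, hb, h⟩

theorem mem_hat_right {P : Subgroup Ω} {a b : Ω} (ha : a ∈ T₁) (hb : b ∈ T₂) (h : a * b ∈ P) :
    b ∈ Subgroup.closure (proj₂ T₁ T₂ P) :=
  Subgroup.subset_closure ⟨hb, a, ha, h⟩

theorem hat_mono {P Q : Subgroup Ω} (h : P ≤ Q) : hat T₁ T₂ P ≤ hat T₁ T₂ Q :=
  sup_le_sup (Subgroup.closure_mono fun _ ⟨ha, b, hb, hab⟩ => ⟨ha, b, hb, h hab⟩)
    (Subgroup.closure_mono fun _ ⟨hb, a, ha, hab⟩ => ⟨hb, a, ha, h hab⟩)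

theorem exists_mul_of_comm {A B : Subgroup Ω} (h : ∀ a ∈ A, ∀ b ∈ B, a * b = b * a) {x : Ω}
    (hx : x ∈ A ⊔ B) : ∃ a ∈ A, ∃ b ∈ B, x = a * b := by
  have hn : A ≤ Subgroup.normalizer (B : Set Ω) := fun a ha =>
    centralizer_le_normalizer' B fun b hb => (h a ha b hb).symm
  have h' : x ∈ ((A ⊔ B : Subgroup Ω) : Set Ω) := hx
  rw [Subgroup.coe_mul_of_left_le_normalizer_right A B hn] at h'
  obtain ⟨a, ha, b, hb, rfl⟩ := h'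
  exact ⟨a, ha, b, hb, rfl⟩

theorem le_hat (hcomm : ∀ a ∈ T₁, ∀ b ∈ T₂, a * b = b * a) {P : Subgroup Ω}
    (hP : P ≤ T₁ ⊔ T₂) : P ≤ hat T₁ T₂ P := fun x hx => by
  obtain ⟨a, ha, b, hb, rfl⟩ := exists_mul_of_comm hcomm (hP hx)
  exact Subgroup.mul_mem _ (Subgroup.mem_sup_left (mem_hat_left ha hb hx))
    (Subgroup.mem_sup_right (mem_hat_right ha hb hx))

/-- What a central product provides. -/
structure CPData (E₁ : FusionSystem T₁) (E₂ : FusionSystem T₂) (D : FusionSystem T) : Prop where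
  /-- The supports commute. -/
  comm : ∀ a ∈ T₁, ∀ b ∈ T₂, a * b = b * a
  /-- The support is the product. -/
  sup : T = T₁ ⊔ T₂
  /-- Every map is a product. -/
  casesMor : ∀ {P : Subgroup Ω} {f : Ω → Ω}, Mor D P f → ∃ f₁ f₂ : Ω → Ω,
    Mor E₁ (Subgroup.closure (proj₁ T₁ T₂ P)) f₁ ∧ Mor E₂ (Subgroup.closure (proj₂ T₁ T₂ P)) f₂ ∧
      ∀ a ∈ T₁, ∀ b ∈ T₂, a * b ∈ P → f (a * b) = f₁ a * f₂ b
  /-- Every product is a map. -/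
  mkMor : ∀ {P₁ P₂ : Subgroup Ω} {f₁ f₂ : Ω → Ω}, Mor E₁ P₁ f₁ → Mor E₂ P₂ f₂ →
    ∃ f, Mor D (P₁ ⊔ P₂) f ∧ ∀ a ∈ P₁, ∀ b ∈ P₂, f (a * b) = f₁ a * f₂ b
  /-- The intersection is central in the first factor. -/
  center_left : T₁ ⊓ T₂ ≤ E₁.center
  /-- The intersection is central in the second factor. -/
  center_right : T₁ ⊓ T₂ ≤ E₂.center

theorem finite_prod [Finite T₁] [Finite T₂] : Finite ↥(T₁.prod T₂) :=
  Finite.of_equiv _ (Subgroup.prodEquiv T₁ T₂).symm.toEquiv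

theorem isPGroup_prod [Fact p.Prime] [Finite T₁] [Finite T₂] (h₁ : IsPGroup p T₁)
    (h₂ : IsPGroup p T₂) : IsPGroup p ↥(T₁.prod T₂) := by
  obtain ⟨a, ha⟩ := IsPGroup.iff_card.1 h₁
  obtain ⟨b, hb⟩ := IsPGroup.iff_card.1 h₂
  refine IsPGroup.of_card (n := a + b) ?_
  rw [Nat.card_congr (Subgroup.prodEquiv T₁ T₂).toEquiv, Nat.card_prod, ha, hb, pow_add]

theorem isCentral_fix_mor {X : Subgroup Ω} {C : Subgroup Ω} {G : FusionSystem X}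
    (hC : G.IsCentral C) {P : Subgroup Ω} {f : Ω → Ω} (hf : Mor G P f) {z : Ω} (hzP : z ∈ P)
    (hz : z ∈ C) : f z = z := by
  obtain ⟨φ, hφ, e⟩ := hf
  rw [← e ⟨z, hzP⟩]
  exact isCentral_fix hC hφ ⟨z, hzP⟩ hz

section ofprod

variable [Finite T₁] [Finite T₂]

/-- A central product provides the data. -/
theorem CPData.of_isCentralProductOf (h : IsCentralProductOf E₁ E₂ D) : CPData E₁ E₂ D := by
  obtain ⟨D₀, hprod, Z, θ, hZ, hZ₁, hZ₂, hθ₁, hθ₂, hfac⟩ := h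
  haveI := finite_prod (T₁ := T₁) (T₂ := T₂)
  have hθ : ∀ x : ↥(T₁.prod T₂), θ x = (x : Ω × Ω).1 * (x : Ω × Ω).2 := by
    rintro ⟨⟨a, b⟩, ha, hb⟩
    have e : (⟨(a, b), ha, hb⟩ : ↥(T₁.prod T₂)) =
        ⟨(a, 1), ha, one_mem _⟩ * ⟨(1, b), one_mem _, hb⟩ :=
      Subtype.ext (Prod.ext (mul_one a).symm (one_mul b).symm)
    exact (congrArg θ e).trans
      ((map_mul θ _ _).trans (congrArg₂ (· * ·) (hθ₁ a _) (hθ₂ b _)))
  have hcomm : ∀ a ∈ T₁, ∀ b ∈ T₂, a * b = b * a := by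
    intro a ha b hb
    have h1 := map_mul θ ⟨((1 : Ω), b), one_mem _, hb⟩ ⟨(a, (1 : Ω)), ha, one_mem _⟩
    rw [hθ, hθ, hθ] at h1
    simpa using h1
  have hZc : D₀.IsCentral Z := isCentral_mono isCentral_center hZ
  have hZsc := stronglyClosed_of_isNormal (isNormal_of_isCentral hZc)
  have hmul : ∀ a ∈ T₁, ∀ b ∈ T₂, a * b ∈ T := fun a ha b hb =>
    hfac.2.2.1.le ⟨⟨(a, b), ha, hb⟩, hθ _⟩
  have hzw : ∀ z ∈ T₁ ⊓ T₂, ((z, z⁻¹) : Ω × Ω) ∈ Z := fun z hz => by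
    refine (hfac.2.1 ⟨(z, z⁻¹), hz.1, T₂.inv_mem hz.2⟩).1 ?_
    rw [hθ]
    exact mul_inv_cancel z
  refine ⟨hcomm, le_antisymm ?_ (sup_le (fun a ha => ?_) fun b hb => ?_), fun {P f} hf => ?_,
    fun {P₁ P₂ f₁ f₂} hf₁ hf₂ => ?_, ?_, ?_⟩
  · intro x hx
    obtain ⟨w, rfl⟩ := hfac.2.2.1.ge hx
    rw [hθ]
    exact mul_mem (Subgroup.mem_sup_left w.2.1) (Subgroup.mem_sup_right w.2.2)
  · simpa using hmul a ha 1 (one_mem _)
  · simpa using hmul 1 (one_mem _) b hb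
  · obtain ⟨φ', hφ', hfe⟩ := hf
    obtain ⟨-, φ, hφ, hi⟩ := (hfac.2.2.2 P φ').1 hφ'
    obtain ⟨-, φ₁, hφ₁, φ₂, hφ₂, hpair⟩ := (hprod _ φ).1 hφ
    obtain ⟨f₁, hf₁, e₁⟩ := Mor.of_mem hφ₁
    obtain ⟨f₂, hf₂, e₂⟩ := Mor.of_mem hφ₂
    have hwP : ∀ {a b : Ω}, ∀ (ha : a ∈ T₁) (hb : b ∈ T₂), a * b ∈ P →
        ((a, b) : Ω × Ω) ∈ preimg θ P := fun ha hb hab =>
      mem_preimg.2 ⟨⟨ha, hb⟩, (hθ _).symm ▸ hab⟩
    refine ⟨f₁, f₂, hf₁.mono ((Subgroup.closure_le _).2 ?_),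
      hf₂.mono ((Subgroup.closure_le _).2 ?_), fun a ha b hb hab => ?_⟩
    · rintro a ⟨ha, b, hb, hab⟩
      exact fst_mem_map (hwP ha hb hab)
    · rintro b ⟨hb, a, ha, hab⟩
      exact snd_mem_map (hwP ha hb hab)
    · have e := induced_apply hi ⟨_, hwP ha hb hab⟩ (hP := ⟨ha, hb⟩)
        (hφ := apply_mem_S hφ _) (hP' := (hθ _).symm ▸ hab)
      rw [← hfe ⟨a * b, hab⟩]
      refine ((apply_congr φ' (hθ (⟨(a, b), ha, hb⟩ : ↥(T₁.prod T₂))).symm).trans e).trans ?_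
      rw [hθ]
      show (φ ⟨(a, b), _⟩).1 * (φ ⟨(a, b), _⟩).2 = _
      rw [hpair ⟨(a, b), hwP ha hb hab⟩ (fst_mem_map (hwP ha hb hab))
        (snd_mem_map (hwP ha hb hab))]
      show φ₁ ⟨a, _⟩ * φ₂ ⟨b, _⟩ = _
      rw [← e₁, ← e₂]
  · obtain ⟨φ₁, hφ₁, e₁⟩ := hf₁
    obtain ⟨φ₂, hφ₂, e₂⟩ := hf₂
    let P₀ := P₁.prod P₂
    let ξ : P₀ →* Ω × Ω :=
      (φ₁.comp (((MonoidHom.fst Ω Ω).comp P₀.subtype).codRestrict P₁ fun w => w.2.1)).prod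
        (φ₂.comp (((MonoidHom.snd Ω Ω).comp P₀.subtype).codRestrict P₂ fun w => w.2.2))
    have hξ : ξ ∈ D₀.Hom P₀ :=
      (hprod P₀ ξ).2 (prodHom_of_pair le_rfl hφ₁ hφ₂ fun _ _ _ => rfl)
    obtain ⟨ψ, hψ, hψe, -⟩ := hZc.2 P₀ ξ hξ
    have hP₀ : P₁.prod P₂ ≤ T₁.prod T₂ :=
      Subgroup.prod_mono (le_of_mem_hom hφ₁) (le_of_mem_hom hφ₂)
    have hPT : P₁ ⊔ P₂ ≤ θ.range := sup_le
      (fun a ha => ⟨⟨(a, 1), le_of_mem_hom hφ₁ ha, one_mem _⟩, hθ₁ a _⟩)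
      (fun b hb => ⟨⟨(1, b), one_mem _, le_of_mem_hom hφ₂ hb⟩, hθ₂ b _⟩)
    have himg : img θ (P₀ ⊔ Z) = P₁ ⊔ P₂ := by
      refine le_antisymm ?_ (sup_le (fun a ha => ?_) fun b hb => ?_)
      · have hle : P₀ ⊔ Z ≤ preimg θ (P₁ ⊔ P₂) := by
          refine sup_le ?_ (ker_le_preimg hfac.1 hfac.2.1 _)
          rintro ⟨a, b⟩ hab
          refine mem_preimg.2 ⟨hP₀ hab, ?_⟩
          rw [hθ]
          exact mul_mem (Subgroup.mem_sup_left hab.1) (Subgroup.mem_sup_right hab.2)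
        exact (Subgroup.map_mono (Subgroup.subgroupOf_mono _ hle)).trans (img_preimg hPT).le
      · have ha' : ((a, (1 : Ω)) : Ω × Ω) ∈ P₀ := ⟨ha, one_mem _⟩
        exact Set.mem_of_eq_of_mem (hθ₁ a (hP₀ ha')).symm
          (apply_mem_img (ι := θ) (x := ⟨_, hP₀ ha'⟩) (Subgroup.mem_sup_left ha'))
      · have hb' : (((1 : Ω), b) : Ω × Ω) ∈ P₀ := ⟨one_mem _, hb⟩
        exact Set.mem_of_eq_of_mem (hθ₂ b (hP₀ hb')).symm
          (apply_mem_img (ι := θ) (x := ⟨_, hP₀ hb'⟩) (Subgroup.mem_sup_left hb'))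
    obtain ⟨φ', hφ', hi⟩ := exists_factor_hom hZsc hfac hψ le_sup_right himg
    obtain ⟨f, hf, hfe⟩ := Mor.of_mem hφ'
    refine ⟨f, hf, fun a ha b hb => ?_⟩
    have hab : ((a, b) : Ω × Ω) ∈ P₀ := ⟨ha, hb⟩
    have hm : a * b ∈ P₁ ⊔ P₂ := mul_mem (Subgroup.mem_sup_left ha) (Subgroup.mem_sup_right hb)
    have e := induced_apply hi (Subgroup.inclusion le_sup_left ⟨_, hab⟩) (hP := hP₀ hab)
      (hφ := apply_mem_S hψ _) (hP' := (hθ _).symm ▸ hm)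
    rw [hfe ⟨a * b, hm⟩]
    refine ((apply_congr φ' (hθ ⟨(a, b), hP₀ hab⟩).symm).trans e).trans ?_
    rw [hθ]
    show (ψ (Subgroup.inclusion le_sup_left ⟨_, hab⟩)).1 *
      (ψ (Subgroup.inclusion le_sup_left ⟨_, hab⟩)).2 = _
    rw [hψe]
    show φ₁ ⟨a, _⟩ * φ₂ ⟨b, _⟩ = _
    rw [e₁, e₂]
  · refine le_center ⟨inf_le_left, fun P φ hφ => ?_⟩
    let P₀ : Subgroup (Ω × Ω) := P.prod ⊥
    obtain ⟨ι₂, hι₂⟩ : ∃ φ₂ : (⊥ : Subgroup Ω) →* Ω, φ₂ ∈ E₂.Hom ⊥ :=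
      ⟨_, subtype_mem bot_le⟩
    let ξ : P₀ →* Ω × Ω :=
      (φ.comp (((MonoidHom.fst Ω Ω).comp P₀.subtype).codRestrict P fun w => w.2.1)).prod
        (ι₂.comp (((MonoidHom.snd Ω Ω).comp P₀.subtype).codRestrict ⊥ fun w => w.2.2))
    have hξ : ξ ∈ D₀.Hom P₀ :=
      (hprod P₀ ξ).2 (prodHom_of_pair le_rfl hφ hι₂ fun _ _ _ => rfl)
    obtain ⟨ψ, hψ, hψe, hψf⟩ := hZc.2 P₀ ξ hξ
    obtain ⟨-, χ₁, hχ₁, χ₂, -, hpair⟩ := (hprod _ ψ).1 hψ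
    have hP : P ⊔ (T₁ ⊓ T₂) ≤ (P₀ ⊔ Z).map (MonoidHom.fst Ω Ω) := sup_le
      (fun a ha => ⟨(a, 1), Subgroup.mem_sup_left ⟨ha, one_mem _⟩, rfl⟩)
      (fun z hz => ⟨(z, z⁻¹), Subgroup.mem_sup_right (hzw z hz), rfl⟩)
    refine ⟨_, restrict_mem hχ₁ hP, fun x => ?_, fun z => ?_⟩
    · have hx : (((x : Ω), (1 : Ω)) : Ω × Ω) ∈ P₀ := ⟨x.2, one_mem _⟩
      have h1 := congrArg Prod.fst (hpair (Subgroup.inclusion le_sup_left ⟨_, hx⟩)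
        (fst_mem_map (Subgroup.mem_sup_left hx)) (snd_mem_map (Subgroup.mem_sup_left hx)))
      rw [hψe] at h1
      exact h1.symm
    · have hz := hzw z z.2
      have h1 := congrArg Prod.fst (hpair (Subgroup.inclusion le_sup_right ⟨_, hz⟩)
        (fst_mem_map (Subgroup.mem_sup_right hz)) (snd_mem_map (Subgroup.mem_sup_right hz)))
      rw [hψf] at h1
      exact h1.symm
  · refine le_center ⟨inf_le_right, fun P φ hφ => ?_⟩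
    let P₀ : Subgroup (Ω × Ω) := (⊥ : Subgroup Ω).prod P
    obtain ⟨ι₁, hι₁⟩ : ∃ φ₁ : (⊥ : Subgroup Ω) →* Ω, φ₁ ∈ E₁.Hom ⊥ :=
      ⟨_, subtype_mem bot_le⟩
    let ξ : P₀ →* Ω × Ω :=
      (ι₁.comp (((MonoidHom.fst Ω Ω).comp P₀.subtype).codRestrict ⊥ fun w => w.2.1)).prod
        (φ.comp (((MonoidHom.snd Ω Ω).comp P₀.subtype).codRestrict P fun w => w.2.2))
    have hξ : ξ ∈ D₀.Hom P₀ :=
      (hprod P₀ ξ).2 (prodHom_of_pair le_rfl hι₁ hφ fun _ _ _ => rfl)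
    obtain ⟨ψ, hψ, hψe, hψf⟩ := hZc.2 P₀ ξ hξ
    obtain ⟨-, χ₁, -, χ₂, hχ₂, hpair⟩ := (hprod _ ψ).1 hψ
    have hzw' : ∀ z ∈ T₁ ⊓ T₂, ((z⁻¹, z) : Ω × Ω) ∈ Z := fun z hz => by
      simpa using hzw z⁻¹ ((T₁ ⊓ T₂).inv_mem hz)
    have hP : P ⊔ (T₁ ⊓ T₂) ≤ (P₀ ⊔ Z).map (MonoidHom.snd Ω Ω) := sup_le
      (fun a ha => ⟨(1, a), Subgroup.mem_sup_left ⟨one_mem _, ha⟩, rfl⟩)
      (fun z hz => ⟨(z⁻¹, z), Subgroup.mem_sup_right (hzw' z hz), rfl⟩)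
    refine ⟨_, restrict_mem hχ₂ hP, fun x => ?_, fun z => ?_⟩
    · have hx : (((1 : Ω), (x : Ω)) : Ω × Ω) ∈ P₀ := ⟨one_mem _, x.2⟩
      have h1 := congrArg Prod.snd (hpair (Subgroup.inclusion le_sup_left ⟨_, hx⟩)
        (fst_mem_map (Subgroup.mem_sup_left hx)) (snd_mem_map (Subgroup.mem_sup_left hx)))
      rw [hψe] at h1
      exact h1.symm
    · have hz := hzw' z z.2
      have h1 := congrArg Prod.snd (hpair (Subgroup.inclusion le_sup_right ⟨_, hz⟩)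
        (fst_mem_map (Subgroup.mem_sup_right hz)) (snd_mem_map (Subgroup.mem_sup_right hz)))
      rw [hψf] at h1
      exact h1.symm

/-- Two systems over commuting groups meeting in their centres have a central product. -/
theorem exists_isCentralProductOf (hcomm : ∀ a ∈ T₁, ∀ b ∈ T₂, a * b = b * a)
    (h₁ : T₁ ⊓ T₂ ≤ E₁.center) (h₂ : T₁ ⊓ T₂ ≤ E₂.center) :
    ∃ D : FusionSystem (T₁ ⊔ T₂), IsCentralProductOf E₁ E₂ D := by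
  haveI := finite_prod (T₁ := T₁) (T₂ := T₂)
  let θ : ↥(T₁.prod T₂) →* Ω := MonoidHom.mk'
    (fun x => (x : Ω × Ω).1 * (x : Ω × Ω).2) fun x y => by
      show (x : Ω × Ω).1 * (y : Ω × Ω).1 * ((x : Ω × Ω).2 * (y : Ω × Ω).2) = _
      calc _ = (x : Ω × Ω).1 * ((y : Ω × Ω).1 * (x : Ω × Ω).2) * (y : Ω × Ω).2 := by group
        _ = _ := by rw [hcomm _ y.2.1 _ x.2.2]; group
  let Z := θ.ker.map (T₁.prod T₂).subtype
  have hk : ∀ s : ↥(T₁.prod T₂), θ s = 1 ↔ (s : Ω × Ω) ∈ Z := fun s =>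
    ⟨fun h => ⟨s, h, rfl⟩, fun ⟨t, ht, e⟩ => by rwa [← Subtype.ext e]⟩
  have hr : θ.range = T₁ ⊔ T₂ := by
    refine le_antisymm ?_ (sup_le (fun a ha => ?_) fun b hb => ?_)
    · rintro _ ⟨w, rfl⟩
      exact mul_mem (Subgroup.mem_sup_left w.2.1) (Subgroup.mem_sup_right w.2.2)
    · exact ⟨⟨(a, 1), ha, one_mem _⟩, mul_one a⟩
    · exact ⟨⟨(1, b), one_mem _, hb⟩, one_mul b⟩
  let D₀ := prodSystem E₁ E₂
  have hprod : IsProductSystem E₁ E₂ D₀ := prodSystem_spec _ _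
  have hZm : ∀ w ∈ Z, (w : Ω × Ω).1 ∈ T₁ ⊓ T₂ ∧ (w : Ω × Ω).2 ∈ T₁ ⊓ T₂ := by
    rintro _ ⟨w, hw, rfl⟩
    have h1 : (w : Ω × Ω).1 * (w : Ω × Ω).2 = 1 := hw
    have h2 : (w : Ω × Ω).1 = ((w : Ω × Ω).2)⁻¹ := eq_inv_of_mul_eq_one_left h1
    have h3 : (w : Ω × Ω).2 = ((w : Ω × Ω).1)⁻¹ := eq_inv_of_mul_eq_one_right h1
    refine ⟨⟨w.2.1, ?_⟩, ?_, w.2.2⟩
    · show (w : Ω × Ω).1 ∈ T₂
      rw [h2]; exact T₂.inv_mem w.2.2
    · show (w : Ω × Ω).2 ∈ T₁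
      rw [h3]; exact T₁.inv_mem w.2.1
  have hZc : D₀.IsCentral Z := by
    refine ⟨Subgroup.map_subtype_le _, fun P φ hφ => ?_⟩
    obtain ⟨hP, φ₁, hφ₁, φ₂, hφ₂, hpair⟩ := (hprod P φ).1 hφ
    obtain ⟨ψ₁, hψ₁, he₁, hf₁⟩ := (isCentral_mono isCentral_center h₁).2 _ φ₁ hφ₁
    obtain ⟨ψ₂, hψ₂, he₂, hf₂⟩ := (isCentral_mono isCentral_center h₂).2 _ φ₂ hφ₂
    have hP' : P ⊔ Z ≤ (P.map (MonoidHom.fst Ω Ω) ⊔ T₁ ⊓ T₂).prod
        (P.map (MonoidHom.snd Ω Ω) ⊔ T₁ ⊓ T₂) :=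
      sup_le (fun w hw => ⟨Subgroup.mem_sup_left (fst_mem_map hw),
          Subgroup.mem_sup_left (snd_mem_map hw)⟩)
        fun w hw => ⟨Subgroup.mem_sup_right (hZm w hw).1, Subgroup.mem_sup_right (hZm w hw).2⟩
    let ξ : ↥(P ⊔ Z) →* Ω × Ω :=
      (ψ₁.comp (((MonoidHom.fst Ω Ω).comp (P ⊔ Z).subtype).codRestrict _
          fun w => (hP' w.2).1)).prod
        (ψ₂.comp (((MonoidHom.snd Ω Ω).comp (P ⊔ Z).subtype).codRestrict _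
          fun w => (hP' w.2).2))
    refine ⟨ξ, (hprod _ ξ).2 (prodHom_of_pair hP' hψ₁ hψ₂ fun _ _ _ => rfl), fun w => ?_,
      fun w => ?_⟩
    · rw [hpair w (fst_mem_map w.2) (snd_mem_map w.2)]
      exact Prod.ext ((apply_congr ψ₁ rfl).trans (he₁ ⟨_, fst_mem_map w.2⟩))
        ((apply_congr ψ₂ rfl).trans (he₂ ⟨_, snd_mem_map w.2⟩))
    · exact Prod.ext ((apply_congr ψ₁ rfl).trans (hf₁ ⟨_, (hZm _ w.2).1⟩))
        ((apply_congr ψ₂ rfl).trans (hf₂ ⟨_, (hZm _ w.2).2⟩))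
  have hZsc := stronglyClosed_of_isNormal (isNormal_of_isCentral hZc)
  refine ⟨factorSystem hZsc hk hr, D₀, hprod, Z, θ, le_center hZc, ?_, ?_,
    fun x _ => mul_one x, fun y _ => one_mul y, factorSystem_spec hZsc hk hr⟩
  · refine (Subgroup.eq_bot_iff_forall _).2 ?_
    rintro ⟨a, b⟩ ⟨⟨w, hw, e⟩, -, hb⟩
    obtain rfl : b = 1 := Subgroup.mem_bot.1 hb
    have h1 : (w : Ω × Ω).1 * (w : Ω × Ω).2 = 1 := hw
    rw [show (w : Ω × Ω) = (a, 1) from e] at h1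
    exact Prod.ext (by simpa using h1) rfl
  · refine (Subgroup.eq_bot_iff_forall _).2 ?_
    rintro ⟨a, b⟩ ⟨⟨w, hw, e⟩, ha, -⟩
    obtain rfl : a = 1 := Subgroup.mem_bot.1 ha
    have h1 : (w : Ω × Ω).1 * (w : Ω × Ω).2 = 1 := hw
    rw [show (w : Ω × Ω) = (1, b) from e] at h1
    exact Prod.ext rfl (by simpa using h1)

/-- Central products of saturated systems over `p`-groups are saturated. -/
theorem saturated_of_centralProduct [Fact p.Prime] (hp₁ : IsPGroup p T₁) (hp₂ : IsPGroup p T₂)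
    (h₁ : E₁.IsSaturated p) (h₂ : E₂.IsSaturated p) (h : IsCentralProductOf E₁ E₂ D) :
    D.IsSaturated p := by
  obtain ⟨D₀, hprod, Z, θ, hZ, -, -, -, -, hfac⟩ := h
  haveI := finite_prod (T₁ := T₁) (T₂ := T₂)
  exact factor_saturated (stronglyClosed_of_isNormal
    (isNormal_of_isCentral (isCentral_mono isCentral_center hZ))) hfac p (isPGroup_prod hp₁ hp₂)
    (product_saturated p hprod h₁ h₂)

end ofprod

namespace CPData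

variable (h : CPData E₁ E₂ D)
include h

theorem left_le : T₁ ≤ T := h.sup ▸ le_sup_left

theorem right_le : T₂ ≤ T := h.sup ▸ le_sup_right

theorem exists_ab {x : Ω} (hx : x ∈ T) : ∃ a ∈ T₁, ∃ b ∈ T₂, x = a * b :=
  exists_mul_of_comm h.comm (h.sup.le hx)

theorem mor_left {P : Subgroup Ω} {f : Ω → Ω} (hf : Mor E₁ P f) : Mor D P f := by
  obtain ⟨g, hg, hge⟩ := h.mkMor hf (Mor.id_mor (F := E₂) (U := ⊥) bot_le)
  refine (hg.mono le_sup_left).congr fun x hx => ?_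
  have := hge x hx 1 (one_mem _)
  simpa using this.symm

theorem mor_right {P : Subgroup Ω} {f : Ω → Ω} (hf : Mor E₂ P f) : Mor D P f := by
  obtain ⟨g, hg, hge⟩ := h.mkMor (Mor.id_mor (F := E₁) (U := ⊥) bot_le) hf
  refine (hg.mono le_sup_right).congr fun x hx => ?_
  have := hge 1 (one_mem _) x hx
  simpa using this.symm

theorem sub_left : E₁.IsSubsystemOf D := fun P φ hφ => by
  obtain ⟨f, hf, e⟩ := Mor.of_mem hφ
  obtain ⟨ψ, hψ, eψ⟩ := h.mor_left hf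
  exact restrict_mem_of_eq hψ le_rfl fun x => ((eψ x).trans (e x)).symm

theorem sub_right : E₂.IsSubsystemOf D := fun P φ hφ => by
  obtain ⟨f, hf, e⟩ := Mor.of_mem hφ
  obtain ⟨ψ, hψ, eψ⟩ := h.mor_right hf
  exact restrict_mem_of_eq hψ le_rfl fun x => ((eψ x).trans (e x)).symm

theorem map_left {P : Subgroup Ω} {f : Ω → Ω} (hf : Mor D P f) (hP : P ≤ T₁) :
    Mor E₁ P f := by
  obtain ⟨f₁, f₂, hf₁, hf₂, he⟩ := h.casesMor hf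
  have hle : P ≤ Subgroup.closure (proj₁ T₁ T₂ P) := fun x hx =>
    mem_hat_left (hP hx) (one_mem T₂) (by rwa [mul_one])
  refine (hf₁.mono hle).congr fun x hx => ?_
  have := he x (hP hx) 1 (one_mem _) (by rwa [mul_one])
  simpa [hf₂.map_one] using this

theorem map_right {P : Subgroup Ω} {f : Ω → Ω} (hf : Mor D P f) (hP : P ≤ T₂) :
    Mor E₂ P f := by
  obtain ⟨f₁, f₂, hf₁, hf₂, he⟩ := h.casesMor hf
  have hle : P ≤ Subgroup.closure (proj₂ T₁ T₂ P) := fun x hx =>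
    mem_hat_right (one_mem T₁) (hP hx) (by rwa [one_mul])
  refine (hf₂.mono hle).congr fun x hx => ?_
  have := he 1 (one_mem _) x (hP hx) (by rwa [one_mul])
  simpa [hf₁.map_one] using this

theorem stronglyClosed_left : D.StronglyClosed T₁ := by
  refine ⟨h.left_le, fun P hP φ hφ x => ?_⟩
  obtain ⟨f, hf, e⟩ := Mor.of_mem hφ
  exact Set.mem_of_eq_of_mem (e x).symm ((h.map_left hf hP).mem_S x.2)

theorem stronglyClosed_right : D.StronglyClosed T₂ := by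
  refine ⟨h.right_le, fun P hP φ hφ x => ?_⟩
  obtain ⟨f, hf, e⟩ := Mor.of_mem hφ
  exact Set.mem_of_eq_of_mem (e x).symm ((h.map_right hf hP).mem_S x.2)

theorem symm : CPData E₂ E₁ D where
  comm a ha b hb := (h.comm b hb a ha).symm
  sup := h.sup.trans (sup_comm _ _)
  casesMor {P f} hf := by
    obtain ⟨f₁, f₂, hf₁, hf₂, he⟩ := h.casesMor hf
    have e1 : proj₁ T₂ T₁ P = proj₂ T₁ T₂ P := Set.ext fun y =>
      ⟨fun ⟨hy, a, ha, hya⟩ => ⟨hy, a, ha, by rwa [h.comm a ha y hy]⟩,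
        fun ⟨hy, a, ha, hya⟩ => ⟨hy, a, ha, by rwa [← h.comm a ha y hy]⟩⟩
    have e2 : proj₂ T₂ T₁ P = proj₁ T₁ T₂ P := Set.ext fun y =>
      ⟨fun ⟨hy, a, ha, hya⟩ => ⟨hy, a, ha, by rwa [h.comm y hy a ha]⟩,
        fun ⟨hy, a, ha, hya⟩ => ⟨hy, a, ha, by rwa [← h.comm y hy a ha]⟩⟩
    refine ⟨f₂, f₁, e1 ▸ hf₂, e2 ▸ hf₁, fun b hb a ha hba => ?_⟩
    have hab : a * b ∈ P := by rwa [h.comm a ha b hb]
    rw [← h.comm a ha b hb, he a ha b hb hab]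
    exact h.comm _ (hf₁.mem_S (mem_hat_left ha hb hab)) _ (hf₂.mem_S (mem_hat_right ha hb hab))
  mkMor {P₂ P₁ f₂ f₁} hf₂ hf₁ := by
    obtain ⟨f, hf, he⟩ := h.mkMor hf₁ hf₂
    refine ⟨f, sup_comm P₁ P₂ ▸ hf, fun b hb a ha => ?_⟩
    rw [← h.comm a (hf₁.le_S ha) b (hf₂.le_S hb), he a ha b hb]
    exact h.comm _ (hf₁.mem_S ha) _ (hf₂.mem_S hb)
  center_left := inf_comm T₁ T₂ ▸ h.center_right
  center_right := inf_comm T₁ T₂ ▸ h.center_left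

end CPData

end CfsgLib.Meet
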