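import Cfsg.Agent.Fusion.Meet.CProdNormal

/-!
The central product of two commuting normal subsystems: invariance and the extension condition.
-/

set_option autoImplicit false
set_option linter.style.haveILetI false
set_option linter.unusedSectionVars false

open Cfsg Cfsg.FusionSystem CfsgLib.Fusion CfsgLib.FocCent CfsgLib.NormCent CfsgLib.NormExt

namespace CfsgLib.Meet

universe u

variable {Ω : Type u} [Group Ω] {S T₁ T₂ T : Subgroup Ω} {F : FusionSystem S}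
  {E₁ : FusionSystem T₁} {E₂ : FusionSystem T₂} {D : FusionSystem T} {p : ℕ}

variable [Finite S] [Fact p.Prime] (hS : IsPGroup p S) (h₁ : E₁.IsNormalIn F p)
  (h₂ : E₂.IsNormalIn F p) (hcp : CPData E₁ E₂ D) (hDs : D.IsSaturated p)

/-- The image of the projections under a map on the product. -/
theorem map_closure_proj₁ (hcp : CPData E₁ E₂ D) (hT₁ : F.StronglyClosed T₁)
    (hT₂ : F.StronglyClosed T₂) {P Q : Subgroup Ω} {g : Ω → Ω}
    (hg : Mor F (hat T₁ T₂ P) g) (hi : Im g P Q) {x : Ω}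
    (hx : x ∈ Subgroup.closure (proj₁ T₁ T₂ P)) :
    g x ∈ Subgroup.closure (proj₁ T₁ T₂ Q) := by
  induction hx using Subgroup.closure_induction with
  | mem y hy =>
    obtain ⟨ha, b, hb, hab⟩ := hy
    have ha' : y ∈ hat T₁ T₂ P := Subgroup.mem_sup_left (mem_hat_left ha hb hab)
    have hb' : b ∈ hat T₁ T₂ P := Subgroup.mem_sup_right (mem_hat_right ha hb hab)
    exact mem_hat_left (mor_apply_mem hT₁ hg ha' ha) (mor_apply_mem hT₂ hg hb' hb)
      (hg.map_mul ha' hb' ▸ hi.mem hab)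
  | one => rw [hg.map_one]; exact one_mem _
  | mul y z hy hz ihy ihz =>
    rw [hg.map_mul (Subgroup.mem_sup_left hy) (Subgroup.mem_sup_left hz)]
    exact mul_mem ihy ihz
  | inv y hy ih =>
    rw [hg.map_inv (Subgroup.mem_sup_left hy)]
    exact inv_mem ih

include hS h₁ h₂ hcp in
/-- Automorphisms of members in the central product are carried to such by `F`. -/
theorem cprod_equiv {P Q : Subgroup Ω} {e : P ≃* Q} (hP : SelfCentralizingIn F T P)
    (he : IsoIn F e) {a : MulAut P} (ha : a ∈ D.autGroup P) :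
    MulAut.congr e a ∈ D.autGroup Q := by
  have hT := cprod_stronglyClosed hS h₁ h₂ hcp
  have hT₁ := h₁.1.2.2.2.1
  have hT₂ := h₂.1.2.2.2.1
  obtain ⟨f, hf, hfi, hfe⟩ := exists_mor_of_aut hP.1 ha
  obtain ⟨u, hu, hui, hue⟩ := he.exists_mor
  obtain ⟨g, hg, hge⟩ := exists_hat_ext hS h₁ h₂ hcp hP hu
  have hgi : Im g P Q := hui.congr hge
  obtain ⟨f₁, f₂, hf₁, hf₂, hfe'⟩ := hcp.casesMor hf
  have hQ := hP.of_isConj hT (hu.isConj le_rfl hui)
  have hQT : Q ≤ T := hQ.1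
  let P₁ := Subgroup.closure (proj₁ T₁ T₂ P)
  let P₂ := Subgroup.closure (proj₂ T₁ T₂ P)
  have hPh : P ≤ hat T₁ T₂ P := le_hat hcp.comm (hP.1.trans hcp.sup.le)
  -- the two factors
  have hmk : ∀ {A B : Subgroup Ω} {E : FusionSystem A} (hE : E.IsWeaklyNormalIn F p)
      {R : Subgroup Ω} {k : Ω → Ω}, R ≤ A → R ≤ hat T₁ T₂ P → Im g R B → Mor E R k →
      (∀ x ∈ R, k x ∈ R) →
      ∃ k', Mor E B k' ∧ ∀ x ∈ R, k' (g x) = g (k x) := by
    intro A B E hE R k hRA hRh hi hk hkR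
    haveI : Finite A := finite_of_le hE.2.2.2.1.1
    obtain ⟨b, hb, hbe⟩ := exists_aut_of_self hk le_rfl hkR
    obtain ⟨ι, hι, hιe⟩ := exists_isoIn hg hRh hi
    have hb' := autGroup_transfer hE.2.2 hRA (hg.mono hRh) hi ι hιe hb
    obtain ⟨k', hk', -, hk'e⟩ := exists_mor_of_aut (fun y hy => by
      obtain ⟨x, hx, rfl⟩ := hi.surj hy
      exact mor_apply_mem hE.2.2.2.1 hg (hRh hx) (hRA hx)) hb'
    refine ⟨k', hk', fun x hx => ?_⟩
    rw [← hιe ⟨x, hx⟩, hk'e (ι ⟨x, hx⟩), congr_apply_apply, hιe, hbe]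
  obtain ⟨B₁, hB₁⟩ := hg.exists_im (le_sup_left : P₁ ≤ hat T₁ T₂ P)
  obtain ⟨B₂, hB₂⟩ := hg.exists_im (le_sup_right : P₂ ≤ hat T₁ T₂ P)
  have hf₁P : ∀ x ∈ P₁, f₁ x ∈ P₁ := fun x hx => by
    induction hx using Subgroup.closure_induction with
    | mem y hy =>
      obtain ⟨hy₁, b, hb, hyb⟩ := hy
      exact mem_hat_left (hf₁.mem_S (mem_hat_left hy₁ hb hyb))
        (hf₂.mem_S (mem_hat_right hy₁ hb hyb)) (hfe' y hy₁ b hb hyb ▸ hfi.mem hyb)
    | one => rw [hf₁.map_one]; exact one_mem _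
    | mul y z hy hz ihy ihz => rw [hf₁.map_mul hy hz]; exact mul_mem ihy ihz
    | inv y hy ih => rw [hf₁.map_inv hy]; exact inv_mem ih
  have hf₂P : ∀ x ∈ P₂, f₂ x ∈ P₂ := fun x hx => by
    induction hx using Subgroup.closure_induction with
    | mem y hy =>
      obtain ⟨hy₂, a, ha', hay⟩ := hy
      exact mem_hat_right (hf₁.mem_S (mem_hat_left ha' hy₂ hay))
        (hf₂.mem_S (mem_hat_right ha' hy₂ hay)) (hfe' a ha' y hy₂ hay ▸ hfi.mem hay)
    | one => rw [hf₂.map_one]; exact one_mem _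
    | mul y z hy hz ihy ihz => rw [hf₂.map_mul hy hz]; exact mul_mem ihy ihz
    | inv y hy ih => rw [hf₂.map_inv hy]; exact inv_mem ih
  obtain ⟨k₁, hk₁, hk₁e⟩ := hmk h₁.1 closure_proj₁_le le_sup_left hB₁ hf₁ hf₁P
  obtain ⟨k₂, hk₂, hk₂e⟩ := hmk h₂.1 closure_proj₂_le le_sup_right hB₂ hf₂ hf₂P
  obtain ⟨h, hh, hhe⟩ := hcp.mkMor hk₁ hk₂
  have hle : Q ≤ B₁ ⊔ B₂ := fun y hy => by
    obtain ⟨x, hx, rfl⟩ := hgi.surj hy
    exact mor_sup_mem hg le_sup_left le_sup_right (fun z hz => Subgroup.mem_sup_left (hB₁.mem hz))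
      (fun z hz => Subgroup.mem_sup_right (hB₂.mem hz)) (hPh hx)
  refine (autGroup_carrier hQT).2 ?_
  obtain ⟨ψ, hψ, hψe⟩ := hh.mono hle
  refine restrict_mem_of_eq hψ le_rfl fun y => ?_
  obtain ⟨x, rfl⟩ := e.surjective y
  refine ((hψe (e x)).trans ?_).symm
  obtain ⟨xa, hxa, xb, hxb, hxab⟩ := hcp.exists_ab (hP.1 x.2)
  have hxP : xa * xb ∈ P := hxab ▸ x.2
  have ha' := mem_hat_left hxa hxb hxP
  have hb' := mem_hat_right hxa hxb hxP
  show h ((e x : Q) : Ω) = ((MulAut.congr e a (e x) : Q) : Ω)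
  rw [congr_apply_apply, ← hue, ← hue, ← hge _ x.2, ← hge _ (a x).2, ← hfe, hxab,
    hfe' xa hxa xb hxb hxP, hg.map_mul (Subgroup.mem_sup_left ha') (Subgroup.mem_sup_right hb'),
    hhe _ (hB₁.mem ha') _ (hB₂.mem hb'), hk₁e xa ha', hk₂e xb hb',
    hg.map_mul (Subgroup.mem_sup_left (hf₁P _ ha')) (Subgroup.mem_sup_right (hf₂P _ hb'))]

include hS h₁ h₂ hcp hDs in
theorem cprod_invMap : IsInvMap F p T (fun P => D.autGroup P) := by
  have hT := cprod_stronglyClosed hS h₁ h₂ hcp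
  have hF := h₁.1.2.1
  have hsub := cprod_sub hS h₁ h₂ hcp
  haveI : Finite T := finite_of_le hT.1
  have hTp := isPGroup_of_le hS hT.1
  refine { closed := hT, le := fun _ => autGroup_mono' hsub _,
           equiv := fun hP he _ ha => cprod_equiv hS h₁ h₂ hcp hP he ha,
           inn := fun hP => autInducedBy_le_autGroup hP.1,
           sylow := ?_, restr := ?_, ext := ?_ }
  · intro P hP hn B hB hTB hBD
    have hPn := fullyNormalized_sub p hS hF hT hsub hP.1 hn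
    haveI : Finite P := finite_of_le hn.1
    haveI : Finite (MulAut P) := finite_mulAut
    obtain ⟨Sy, hSy⟩ := (good_of_fullyNormalized p hTp hDs hPn).1.2
    have hBp : IsPGroup p (B.subgroupOf (D.autGroup P)) :=
      hB.comap_of_injective (D.autGroup P).subtype Subtype.val_injective
    have h := Sy.is_maximal' hBp (by rw [hSy]; exact fun x hx => hTB hx)
    intro b hb
    have hb' : (⟨b, hBD hb⟩ : D.autGroup P) ∈ B.subgroupOf (D.autGroup P) := hb
    rw [h, hSy] at hb'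
    exact hb'
  · intro P U hPU hP hU γ hγ a ha
    exact ha.mem hU hγ
  · intro P W hPW hP hW a ha hnorm
    have hPT := hP.1
    have hWT : W ≤ T := hW.trans (normalizerIn_le_S P)
    haveI : Finite W := finite_of_le (hWT.trans hT.1)
    have hPc : D.IsCentric P := ⟨hPT, fun R hR => hP.2 R (isConj_of_subsystem hsub hR)⟩
    have hfc := Fusion.isFullyCentralized_of_centric hPc
    have haD := (autGroup_carrier hPT).1 ha
    have hext : W ≤ extender T P (P.subtype.comp a.toMonoidHom) := by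
      intro w hw
      obtain ⟨v, hv, hve⟩ := mem_autInducedBy.1 (hnorm (conjAut W P ⟨w, hw, (hW hw).2⟩)
        (mem_autInducedBy.2 ⟨w, hw, fun _ => rfl⟩))
      refine mem_extender_of (hW hw) (hWT hv) fun x hx => ?_
      have h2 := hve (a x)
      rw [MulAut.mul_apply, MulAut.mul_apply, MulAut.inv_apply_self] at h2
      exact h2
    obtain ⟨ψ, hψ, hψe⟩ := saturated_extend p hTp hDs haD
      (by rw [range_subtype_comp]; exact hfc) hext
    obtain ⟨g, hg, hge⟩ := Mor.of_mem hψ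
    have hgP : ∀ x : P, g x = ((a x : P) : Ω) := fun x =>
      (hge ⟨x, hPW x.2⟩).trans (hψe x x.2 (hPW x.2))
    have hgW : ∀ w ∈ W, g w ∈ W := by
      intro w hw
      obtain ⟨v, hv, hve⟩ := mem_autInducedBy.1 (hnorm (conjAut W P ⟨w, hw, (hW hw).2⟩)
        (mem_autInducedBy.2 ⟨w, hw, fun _ => rfl⟩))
      have hc : v⁻¹ * g w ∈ centralizerIn T P := by
        refine ⟨T.mul_mem (T.inv_mem (hWT hv)) (hg.mem_S hw), diff_mem_centralizer fun z hz => ?_⟩
        obtain ⟨x, hx⟩ := a.surjective ⟨z, hz⟩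
        have hz' : z = g x := by rw [hgP, hx]
        have hwx : w * (x : Ω) * w⁻¹ ∈ P := (Subgroup.mem_normalizer_iff.1 (hW hw).2 x).1 x.2
        have h2 := hve (a x)
        rw [MulAut.mul_apply, MulAut.mul_apply, MulAut.inv_apply_self] at h2
        rw [hz', ← hg.map_conj hw (hPW x.2), hgP ⟨_, hwx⟩, hgP x]
        exact h2
      have h3 := W.mul_mem hv (hPW (centralizer_le_of_sc hP (hPT.trans hT.1) hc))
      rwa [mul_inv_cancel_left] at h3
    obtain ⟨γ, hγ, hγe⟩ := exists_aut_of_self hg le_rfl hgW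
    exact ⟨γ, hγ, fun x => (hγe _).trans (hgP x)⟩

include hS h₁ h₂ hcp hDs in
/-- **The central product of commuting normal subsystems is weakly normal.** -/
theorem cprod_weaklyNormal : D.IsWeaklyNormalIn F p := by
  have hF := h₁.1.2.1
  have hA := cprod_invMap hS h₁ h₂ hcp hDs
  have hT := hA.closed
  haveI : Finite T := finite_of_le hT.1
  have hG := genSystem_weaklyNormal hS hF hA
  let G := genSystem F (fun P => D.autGroup P) hA.closed
  have hGD : G.IsSubsystemOf D :=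
    genSystem_le hA.closed D le_rfl (fun Q a _ ha => ha) hA.le
  have hDG : D ≤ G := by
    refine alperin_saturated p (isPGroup_of_le hS hT.1) hDs G fun P hP a ha => ?_
    have hsc : SelfCentralizingIn F T P := by
      rcases hP with rfl | hP
      · exact selfCentralizingIn_self hT
      · exact tcentric_of_centric hG.2.2
          ⟨hP.1.1, fun R hR => hP.1.2 R (isConj_of_subsystem hGD hR)⟩
    rw [genSystem_autGroup hS hF hA hsc]
    exact ha
  have e : D = G := ext_hom fun P => Set.Subset.antisymm (hDG P) (hGD P)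
  rw [e]
  exact hG

/-! ### The extension condition -/

/-- `a` extends to `T C_S(T)` fixing `T₂`, moving `C_S(T)` only inside `Z(T)`. -/
def GoodL (F : FusionSystem S) (T₁ T₂ T : Subgroup Ω) (a : MulAut T₁) : Prop :=
  ∃ f, Mor F (T ⊔ centralizerIn S T) f ∧ (∀ x : T₁, f x = ((a x : T₁) : Ω)) ∧
    (∀ b ∈ T₂, f b = b) ∧
    ∀ c ∈ centralizerIn S T, c⁻¹ * f c ∈ T ⊓ Subgroup.centralizer (T : Set Ω)

include hcp in
/-- A map with the shape of `GoodL` preserves `T`, its centralizer and its centre. -/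
theorem goodL_maps (hT : T ≤ S) {a : MulAut T₁} {f : Ω → Ω}
    (hf : Mor F (T ⊔ centralizerIn S T) f) (hfa : ∀ x : T₁, f x = ((a x : T₁) : Ω))
    (hfb : ∀ b ∈ T₂, f b = b) :
    (∀ x ∈ T, f x ∈ T) ∧
      ∀ z ∈ T ⊓ Subgroup.centralizer (T : Set Ω), f z ∈ T ⊓ Subgroup.centralizer (T : Set Ω) := by
  have hTV : ∀ {x : Ω}, x ∈ T → x ∈ T ⊔ centralizerIn S T := fun hx => Subgroup.mem_sup_left hx
  have hmem : ∀ x ∈ T, f x ∈ T := fun x hx => by
    obtain ⟨u, hu, v, hv, rfl⟩ := hcp.exists_ab hx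
    rw [hf.map_mul (hTV (hcp.left_le hu)) (hTV (hcp.right_le hv)), hfa ⟨u, hu⟩, hfb v hv]
    exact T.mul_mem (hcp.left_le (a ⟨u, hu⟩).2) (hcp.right_le hv)
  refine ⟨hmem, fun z hz => ⟨hmem z hz.1, fun y hy => ?_⟩⟩
  have hi : Im f T T := im_self hf le_sup_left hmem
  obtain ⟨x, hx, rfl⟩ := hi.surj hy
  rw [← hf.map_mul (hTV hx) (hTV hz.1), ← hf.map_mul (hTV hz.1) (hTV hx), hz.2 x hx]

include hcp in
theorem goodL_mul (hT : T ≤ S) {a b : MulAut T₁} (ha : GoodL F T₁ T₂ T a)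
    (hb : GoodL F T₁ T₂ T b) : GoodL F T₁ T₂ T (a * b) := by
  obtain ⟨f, hf, hfa, hfb, hfc⟩ := ha
  obtain ⟨g, hg, hga, hgb, hgc⟩ := hb
  obtain ⟨hgT, hgZ⟩ := goodL_maps hcp hT hg hga hgb
  obtain ⟨hfT, hfZ⟩ := goodL_maps hcp hT hf hfa hfb
  have hgV : ∀ x ∈ T ⊔ centralizerIn S T, g x ∈ T ⊔ centralizerIn S T := fun x hx =>
    mor_sup_mem hg le_sup_left le_sup_right (fun y hy => Subgroup.mem_sup_left (hgT y hy))
      (fun c hc => by
        have h := Subgroup.mul_mem _ (Subgroup.mem_sup_right hc : c ∈ T ⊔ centralizerIn S T)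
          (Subgroup.mem_sup_left (hgc c hc).1)
        rwa [mul_inv_cancel_left] at h) hx
  refine ⟨f ∘ g, hg.comp hf hgV, fun x => ?_, fun v hv => ?_, fun c hc => ?_⟩
  · show f (g x) = _
    rw [hga, hfa]
    rfl
  · show f (g v) = v
    rw [hgb v hv, hfb v hv]
  · show c⁻¹ * f (g c) ∈ _
    have h := Subgroup.mul_mem _ (hfc c hc) (hfZ _ (hgc c hc))
    have e : f (g c) = f c * f (c⁻¹ * g c) := by
      rw [← hf.map_mul (Subgroup.mem_sup_right hc) (Subgroup.mem_sup_left (hgc c hc).1),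
        mul_inv_cancel_left]
    rw [e, ← mul_assoc]
    exact h

include hS h₁ h₂ hcp in
/-- Every automorphism of the first support in the first factor is good. -/
theorem goodL_all {a : MulAut T₁} (ha : a ∈ E₁.autGroup T₁) : GoodL F T₁ T₂ T a := by
  obtain ⟨⟨hEs, hF, hinv⟩, hext⟩ := id h₁
  have hT₁ := hinv.2.1
  have hT₂ := h₂.1.2.2.2.1
  have hT := cprod_stronglyClosed hS h₁ h₂ hcp
  haveI : Finite T₁ := finite_of_le hT₁.1
  haveI : Finite (MulAut T₁) := finite_mulAut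
  have hT₁p := isPGroup_of_le hS hT₁.1
  let V := T ⊔ centralizerIn S T
  have hVS : V ≤ S := sup_le hT.1 (centralizerIn_le_S T)
  have hCle : centralizerIn S T ≤ centralizerIn S T₁ := fun c hc =>
    ⟨hc.1, fun x hx => hc.2 x (hcp.left_le hx)⟩
  -- inner automorphisms
  have hinner : ∀ b : MulAut T₁, b ∈ autInducedBy T₁ T₁ → GoodL F T₁ T₂ T b := by
    intro b hb
    obtain ⟨t, ht, hte⟩ := mem_autInducedBy.1 hb
    refine ⟨fun x => t * x * t⁻¹, Mor.conj_mor hVS (hT₁.1 ht), fun x => (hte x).symm,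
      fun v hv => show t * v * t⁻¹ = v by rw [hcp.comm t ht v hv, mul_inv_cancel_right],
      fun c hc => ?_⟩
    show c⁻¹ * (t * c * t⁻¹) ∈ _
    rw [hc.2 t (hcp.left_le ht), mul_inv_cancel_right, inv_mul_cancel]
    exact one_mem _
  -- automorphisms of order prime to `p`
  have hcoprime : ∀ b ∈ E₁.autGroup T₁, (orderOf b).Coprime p → GoodL F T₁ T₂ T b := by
    intro b hb hco
    obtain ⟨β, hβ, hβb, hβc⟩ := hext b hb
    let V₁ := T₁ ⊔ centralizerIn S T₁
    have hV₁ : V₁ ≤ S := sup_le hT₁.1 (centralizerIn_le_S T₁)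
    haveI : Finite V₁ := finite_of_le hV₁
    haveI : Finite (MulAut V₁) := finite_mulAut
    obtain ⟨m, hm1, hm2⟩ := ConstrainedNormal.exists_pow_coprime p β
    have hag : Agree le_sup_left (β ^ m) b := by
      have hag₀ : Agree le_sup_left β b := hβb
      have h := hag₀.pow m
      rwa [hm2 b hco (orderOf_dvd_of_pow_eq_one
        ((hag₀.pow _).eq_one (pow_orderOf_eq_one β)))] at h
    have hdisp : ∀ n : ℕ, ∀ c : V₁, (c : Ω) ∈ centralizerIn S T₁ →
        (c : Ω)⁻¹ * (((β ^ n) c : V₁) : Ω) ∈ T₁ ⊓ Subgroup.centralizer (T₁ : Set Ω) := by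
      intro n
      induction n with
      | zero => intro c _; simp
      | succ n ih =>
        intro c hc
        have h1 := hβc c hc
        have h2 : ((β c : V₁) : Ω) ∈ centralizerIn S T₁ := by
          have h := (centralizerIn S T₁).mul_mem hc
            (⟨hT₁.1 h1.1, h1.2⟩ : (c : Ω)⁻¹ * ((β c : V₁) : Ω) ∈ centralizerIn S T₁)
          rwa [mul_inv_cancel_left] at h
        have h3 := Subgroup.mul_mem _ h1 (ih (β c) h2)
        simpa [pow_succ, mul_assoc] using h3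
    obtain ⟨f, hf, -, hfe⟩ := exists_mor_of_aut hV₁ (pow_mem hβ m)
    have hfb : ∀ x : T₁, f x = ((b x : T₁) : Ω) := fun x =>
      (hfe (Subgroup.inclusion le_sup_left x)).trans (hag x)
    have hT₂V₁ : T₂ ≤ V₁ := fun v hv =>
      Subgroup.mem_sup_right ⟨hT₂.1 hv, fun x hx => hcp.comm x hx v hv⟩
    have hVV₁ : V ≤ V₁ := by
      refine sup_le (fun x hx => ?_) (hCle.trans le_sup_right)
      obtain ⟨u, hu, v, hv, rfl⟩ := hcp.exists_ab hx
      exact V₁.mul_mem (Subgroup.mem_sup_left hu) (hT₂V₁ hv)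
    have hfix : ∀ v ∈ T₂, f v = v := by
      intro v hv
      let Tv : V₁ := ⟨v, hT₂V₁ hv⟩
      have hvC : (Tv : Ω) ∈ centralizerIn S T₁ := ⟨hT₂.1 hv, fun x hx => hcp.comm x hx v hv⟩
      have h1 := hdisp m Tv hvC
      have h2 : (((β ^ m) Tv : V₁) : Ω) ∈ T₂ :=
        map_mem_of_stronglyClosed hT₂ ((autGroup_carrier hV₁).1 (pow_mem hβ m)) (x := Tv) hv
      have h3 : (v : Ω)⁻¹ * (((β ^ m) Tv : V₁) : Ω) ∈ T₁ ⊓ T₂ :=
        ⟨h1.1, T₂.mul_mem (T₂.inv_mem hv) h2⟩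
      have h4 : (β ^ m) (Tv⁻¹ * (β ^ m) Tv) = Tv⁻¹ * (β ^ m) Tv := Subtype.ext (by
        refine (hag ⟨_, h3.1⟩).trans ?_
        exact isCentral_fix (isCentral_mono isCentral_center hcp.center_left)
          ((autGroup_carrier le_rfl).1 hb) ⟨_, h3.1⟩ h3)
      have h5 := aut_eq_one_of_displacement (isPGroup_of_le hS hV₁) hm1 (x := Tv) h4
      exact (hfe Tv).trans (congrArg Subtype.val h5)
    refine ⟨f, hf.mono hVV₁, hfb, hfix, fun c hc => ?_⟩
    have h1 := hdisp m ⟨c, Subgroup.mem_sup_right (hCle hc)⟩ (hCle hc)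
    rw [← hfe] at h1
    refine ⟨hcp.left_le h1.1, fun y hy => ?_⟩
    obtain ⟨u, hu, v, hv, rfl⟩ := hcp.exists_ab hy
    show u * v * (c⁻¹ * f c) = c⁻¹ * f c * (u * v)
    rw [mul_assoc u v, ← hcp.comm _ h1.1 v hv, ← mul_assoc, h1.2 u hu, mul_assoc]
  -- generation
  let G : Subgroup (MulAut T₁) := Subgroup.closure {b | GoodL F T₁ T₂ T b}
  have hG : E₁.autGroup T₁ ≤ G := by
    obtain ⟨⟨-, Sy, hSy⟩, -⟩ := good_of_fullyNormalized p hT₁p hEs (isFullyNormalized_S (S := T₁))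
    intro b hb
    suffices h : (⊤ : Subgroup (E₁.autGroup T₁)) ≤ G.subgroupOf (E₁.autGroup T₁) from
      Subgroup.mem_subgroupOf.1 (h (Subgroup.mem_top ⟨b, hb⟩))
    refine le_of_sylow_coprime p Sy le_top (fun c hc => ?_) fun c _ hco => ?_
    · rw [hSy] at hc
      exact Subgroup.mem_subgroupOf.2 (Subgroup.subset_closure (hinner _ hc))
    · exact Subgroup.mem_subgroupOf.2 (Subgroup.subset_closure (hcoprime _ c.2
        (by rwa [Subgroup.orderOf_coe])))
  have hone : GoodL F T₁ T₂ T 1 := hinner 1 (one_mem _)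
  have key : ∀ b ∈ G, GoodL F T₁ T₂ T b := fun b hb => by
    induction hb using Subgroup.closure_induction with
    | mem c hc => exact hc
    | one => exact hone
    | mul c d _ _ h h' => exact goodL_mul hcp hT.1 h h'
    | inv c _ h =>
      obtain ⟨k, hk⟩ : ∃ k : ℕ, c⁻¹ = c ^ k := ⟨orderOf c - 1, inv_eq_of_mul_eq_one_left (by
        rw [← pow_succ, Nat.sub_add_cancel (orderOf_pos _), pow_orderOf_eq_one])⟩
      rw [hk]
      clear hk
      induction k with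
      | zero => rw [pow_zero]; exact hone
      | succ n ih => rw [pow_succ]; exact goodL_mul hcp hT.1 ih h
  exact key a (hG ha)

include hS h₁ h₂ hcp hDs in
/-- **The central product of commuting normal subsystems is normal.** -/
theorem cprod_normal : D.IsNormalIn F p := by
  have hT := cprod_stronglyClosed hS h₁ h₂ hcp
  have hT₁ := h₁.1.2.2.2.1
  have hT₂ := h₂.1.2.2.2.1
  haveI : Finite T₁ := finite_of_le hT₁.1
  haveI : Finite T₂ := finite_of_le hT₂.1
  refine ⟨cprod_weaklyNormal hS h₁ h₂ hcp hDs, fun α hα => ?_⟩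
  obtain ⟨fα, hfα, -, hfαe⟩ := exists_mor_of_aut le_rfl hα
  obtain ⟨f₁, f₂, hf₁, hf₂, hfe⟩ := hcp.casesMor hfα
  have hc₁ : T₁ ≤ Subgroup.closure (proj₁ T₁ T₂ T) := fun x hx =>
    mem_hat_left hx (one_mem T₂) (by rw [mul_one]; exact hcp.left_le hx)
  have hc₂ : T₂ ≤ Subgroup.closure (proj₂ T₁ T₂ T) := fun x hx =>
    mem_hat_right (one_mem T₁) hx (by rw [one_mul]; exact hcp.right_le hx)
  obtain ⟨a₁, ha₁, ha₁e⟩ := exists_aut_of_self hf₁ hc₁ fun x hx => hf₁.mem_S (hc₁ hx)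
  obtain ⟨a₂, ha₂, ha₂e⟩ := exists_aut_of_self hf₂ hc₂ fun x hx => hf₂.mem_S (hc₂ hx)
  obtain ⟨g₁, hg₁, hg₁a, hg₁b, hg₁c⟩ := goodL_all hS h₁ h₂ hcp ha₁
  obtain ⟨g₂, hg₂, hg₂a, hg₂b, hg₂c⟩ := goodL_all hS h₂ h₁ hcp.symm ha₂
  obtain ⟨hg₁T, hg₁Z⟩ := goodL_maps hcp hT.1 hg₁ hg₁a hg₁b
  obtain ⟨hg₂T, hg₂Z⟩ := goodL_maps hcp.symm hT.1 hg₂ hg₂a hg₂b
  let V := T ⊔ centralizerIn S T
  have hgV : ∀ {g : Ω → Ω}, Mor F V g → (∀ x ∈ T, g x ∈ T) →
      (∀ c ∈ centralizerIn S T, c⁻¹ * g c ∈ T ⊓ Subgroup.centralizer (T : Set Ω)) →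
      ∀ x ∈ V, g x ∈ V := fun {g} hg hgT hgc x hx =>
    mor_sup_mem hg le_sup_left le_sup_right (fun y hy => Subgroup.mem_sup_left (hgT y hy))
      (fun c hc => by
        have h := Subgroup.mul_mem _ (Subgroup.mem_sup_right hc : c ∈ T ⊔ centralizerIn S T)
          (Subgroup.mem_sup_left (hgc c hc).1)
        rwa [mul_inv_cancel_left] at h) hx
  have hg := hg₁.comp hg₂ (hgV hg₁ hg₁T hg₁c)
  obtain ⟨β, hβ, hβe⟩ := exists_aut_of_self hg le_rfl fun x hx =>
    hgV hg₂ hg₂T hg₂c _ (hgV hg₁ hg₁T hg₁c x hx)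
  refine ⟨β, hβ, fun x => ?_, fun c hc => ?_⟩
  · rw [hβe]
    show g₂ (g₁ x) = _
    obtain ⟨u, hu, v, hv, huv⟩ := hcp.exists_ab x.2
    rw [← hfαe x, huv, hfe u hu v hv (huv ▸ x.2), ← ha₁e ⟨u, hu⟩, ← ha₂e ⟨v, hv⟩,
      hg₁.map_mul (Subgroup.mem_sup_left (hcp.left_le hu)) (Subgroup.mem_sup_left (hcp.right_le hv)),
      hg₁a ⟨u, hu⟩, hg₁b v hv,
      hg₂.map_mul (Subgroup.mem_sup_left (hcp.left_le (a₁ ⟨u, hu⟩).2))
        (Subgroup.mem_sup_left (hcp.right_le hv)),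
      hg₂b _ (a₁ ⟨u, hu⟩).2, hg₂a ⟨v, hv⟩]
  · rw [hβe]
    show (c : Ω)⁻¹ * g₂ (g₁ c) ∈ _
    have h1 := hg₁c c hc
    have e : g₂ (g₁ c) = g₂ c * g₂ ((c : Ω)⁻¹ * g₁ c) := by
      rw [← hg₂.map_mul c.2 (Subgroup.mem_sup_left h1.1), mul_inv_cancel_left]
    rw [e, ← mul_assoc]
    exact Subgroup.mul_mem _ (hg₂c c hc) (hg₂Z _ h1)

end CfsgLib.Meet
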