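import Cfsg.Agent.Fusion.ImageTransport
import Cfsg.Agent.Fusion.HGen.Mor

/-!
The image of a weakly normal subsystem in a factor system is weakly normal.
-/

set_option autoImplicit false
set_option linter.style.haveILetI false
set_option linter.unusedSectionVars false

open Cfsg Cfsg.FusionSystem CfsgLib.Fusion CfsgLib.FusionImage

namespace CfsgLib.Meet

variable {Ω : Type*} [Group Ω] {S : Subgroup Ω} {F : FusionSystem S} {Ω' : Type*} [Group Ω']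
  {S' : Subgroup Ω'} {θ : S →* Ω'} {Z : Subgroup Ω} {F' : FusionSystem S'}
  {R : Subgroup Ω} {E : FusionSystem R}

variable [Finite S] {p : ℕ} [Fact p.Prime] (hS : IsPGroup p S) (hZ : F.StronglyClosed Z)
  (hF' : F.IsFactorSystem Z θ F') (hE : E.IsWeaklyNormalIn F p)

omit [Finite S] [Fact p.Prime] in
theorem preimg_res_mem {hRS : R ≤ S} {P' : Subgroup Ω'} {x : Ω}
    (hx : x ∈ preimg (resHom θ hRS) P') : θ ⟨x, hRS (preimg_le P' hx)⟩ ∈ P' :=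
  (mem_preimg.1 hx).2

include hS hZ hF' hE in
/-- **Images of weakly normal subsystems.** -/
theorem exists_weaklyNormal_image (hmul : ∀ x ∈ preimg θ (img θ R), ∃ r ∈ R, ∃ z ∈ Z, x = r * z) :
    ∃ E' : FusionSystem (img θ R), E'.IsWeaklyNormalIn F' p := by
  obtain ⟨hEs, hF, hinv⟩ := id hE
  have hR := hinv.2.1
  have hRS : R ≤ S := hR.1
  haveI : Finite R := finite_of_le hRS
  let Z₀ := R ⊓ Z
  let θR : R →* Ω' := resHom θ hRS
  have hk : ∀ x : R, θR x = 1 ↔ (x : Ω) ∈ Z₀ := fun x =>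
    (hF'.2.1 ⟨x, hRS x.2⟩).trans ⟨fun h => ⟨x.2, h⟩, fun h => h.2⟩
  have hZ₀ : E.StronglyClosed Z₀ := ⟨inf_le_left, fun P hP φ hφ x =>
    ⟨apply_mem_S hφ x, hZ.2 P (hP.trans inf_le_right) φ (hinv.1 P hφ) x⟩⟩
  have hr : θR.range = img θ R := range_resHom hRS
  let E' := factorSystem hZ₀ hk hr
  have hE' : E.IsFactorSystem Z₀ θR E' := factorSystem_spec hZ₀ hk hr
  haveI : Finite S' := hF'.2.2.1 ▸ Finite.of_surjective _ θ.rangeRestrict_surjective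
  have hR' : img θ R ≤ S' := (img_le_range R).trans hF'.2.2.1.le
  have hlift : ∀ {P' : Subgroup Ω'}, P' ≤ img θ R → ∀ {y : Ω'}, y ∈ P' →
      ∃ x : ↥(preimg θR P'), θ ⟨x, hRS (preimg_le P' x.2)⟩ = y := by
    intro P' hP' y hy
    obtain ⟨s, hs⟩ := hr.ge (hP' hy)
    exact ⟨⟨s, mem_preimg.2 ⟨s.2, hs ▸ hy⟩⟩, hs⟩
  refine ⟨E', factor_saturated hZ₀ hE' p (isPGroup_of_le hS hRS) hEs,
    factor_saturated hZ hF' p hS hF, ?_, ?_, ?_, ?_⟩
  · intro P' φ' hφ'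
    have hP' : P' ≤ img θ R := le_of_mem_hom hφ'
    obtain ⟨φ, hφ, hi⟩ := exists_lift_hom hE' hφ'
    obtain ⟨ψ, hψ, hψi⟩ := induces_of_mem hZ hF' p hS hF (hinv.1 _ hφ)
    refine restrict_mem_of_eq hψ (fun y hy => ?_) fun y => ?_
    · obtain ⟨x, rfl⟩ := hlift hP' hy
      exact apply_mem_img (ι := θ) (x := ⟨x, hRS (preimg_le P' x.2)⟩) x.2
    · obtain ⟨y, hy⟩ := y
      obtain ⟨x, rfl⟩ := hlift hP' hy
      exact (induced_apply hi x (hP := preimg_le P' x.2) (hP' := hy) (hφ := apply_mem_S hφ x)).trans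
        (induced_apply hψi x (hP := hRS (preimg_le P' x.2))
          (hφ := hRS (apply_mem_S hφ x))).symm
  · refine ⟨hR', fun P' hP' φ' hφ' y => ?_⟩
    obtain ⟨φ, hφ, hi⟩ := exists_lift_hom hF' hφ'
    obtain ⟨s, hs⟩ := hF'.2.2.1.ge (hR' (hP' y.2))
    have hsP : (s : Ω) ∈ preimg θ P' := mem_preimg.2 ⟨s.2, hs ▸ y.2⟩
    obtain ⟨r, hr', z, hz, hrz⟩ := hmul s (mem_preimg.2 ⟨s.2, hs ▸ hP' y.2⟩)
    have hzP : z ∈ preimg θ P' := ker_le_preimg hF'.1 hF'.2.1 P' hz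
    have hrP : r ∈ preimg θ P' := by
      have h := mul_mem hsP (inv_mem hzP)
      rwa [hrz, mul_inv_cancel_right] at h
    have hy : y = ⟨θ ⟨r, hRS hr'⟩, (mem_preimg.1 hrP).2⟩ := Subtype.ext (by
      rw [← hs, show s = (⟨r, hRS hr'⟩ : S) * ⟨z, hF'.1 hz⟩ from Subtype.ext hrz, map_mul,
        (hF'.2.1 ⟨z, hF'.1 hz⟩).2 hz, mul_one])
    rw [hy, induced_apply hi ⟨r, hrP⟩ (hφ := apply_mem_S hφ _)]
    exact apply_mem_img (x := (⟨_, apply_mem_S hφ _⟩ : S)) (map_mem_of_stronglyClosed hR hφ (x := ⟨r, hrP⟩) hr')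
  · intro P' hP' φ' hφ' a ha
    obtain ⟨ψ, hψ, hψi⟩ := exists_lift_hom hF' ((autGroup_carrier hR').1 ha)
    have hRP : R ≤ preimg θ (img θ R) := fun x hx =>
      mem_preimg.2 ⟨hRS hx, apply_mem_img (ι := θ) (x := ⟨x, hRS hx⟩) hx⟩
    have hψR : ∀ x : R, ψ (Subgroup.inclusion hRP x) ∈ R := fun x =>
      map_mem_of_stronglyClosed hR hψ x.2
    have hψr : (ψ.comp (Subgroup.inclusion hRP)).range = R := by
      refine eq_of_le_of_card_le hRS ?_ (card_range (restrict_mem hψ hRP)).ge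
      rintro _ ⟨x, rfl⟩
      exact hψR x
    let α := autOfRange _ (F.injective_of_mem (restrict_mem hψ hRP)) hψr
    have hα : ∀ (x : R) (hx : θ ⟨x, hRS x.2⟩ ∈ img θ R),
        θ ⟨((α x : R) : Ω), hRS (α x).2⟩ = ((a ⟨θ ⟨x, hRS x.2⟩, hx⟩ : img θ R) : Ω') :=
      fun x hx => (induced_apply hψi (Subgroup.inclusion hRP x)
        (hφ := apply_mem_S hψ _)).symm
    obtain ⟨φ, hφ, hi⟩ := exists_lift_hom hE' hφ'
    have hPR : preimg θR P' ≤ R := preimg_le P'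
    obtain ⟨χ, hχ, hχe⟩ := hinv.2.2.1 _ hPR φ hφ α (autOfRange_mem (restrict_mem hψ hRP) hψr)
    let P₂ := ((preimg θR P').subgroupOf R).map (R.subtype.comp α.toMonoidHom)
    have hker : Z₀ ≤ P₂ := fun z hz => by
      refine ⟨α⁻¹ ⟨z, hz.1⟩, mem_preimg.2 ⟨SetLike.coe_mem _, ?_⟩, ?_⟩
      · have h1 : θR (α⁻¹ ⟨z, hz.1⟩) = 1 := by
          refine (hk _).2 ⟨SetLike.coe_mem _, ?_⟩
          exact map_mem_of_stronglyClosed hZ ((autGroup_carrier hRS).1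
            (inv_mem (autOfRange_mem (restrict_mem hψ hRP) hψr))) (x := ⟨z, hz.1⟩) hz.2
        exact h1 ▸ one_mem _
      · exact congrArg Subtype.val (MulAut.apply_inv_self _ α ⟨z, hz.1⟩)
    have himg : img θR P₂ = (P'.subgroupOf (img θ R)).map
        ((img θ R).subtype.comp a.toMonoidHom) := by
      ext y
      constructor
      · rintro ⟨w, hw, rfl⟩
        obtain ⟨x, hx, hxw⟩ := (hw : (w : Ω) ∈ P₂)
        obtain rfl : α x = w := Subtype.ext hxw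
        refine ⟨⟨θ ⟨x, hRS x.2⟩, hP' (preimg_res_mem hx)⟩, preimg_res_mem hx, ?_⟩
        exact (hα x _).symm
      · rintro ⟨⟨_, hy⟩, hyP, rfl⟩
        obtain ⟨x, rfl⟩ := hlift hP' hyP
        refine ⟨α ⟨x, hPR x.2⟩, Subgroup.mem_subgroupOf.2 ⟨⟨x, hPR x.2⟩, x.2, rfl⟩, ?_⟩
        exact hα ⟨x, hPR x.2⟩ _
    obtain ⟨χ', hχ', hχi⟩ := exists_factor_hom hZ₀ hE' hχ hker himg
    refine ⟨χ', hχ', fun y hφy hay => ?_⟩
    obtain ⟨y, hy⟩ := y
    obtain ⟨x, rfl⟩ := hlift hP' hy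
    let xR : R := ⟨x, hPR x.2⟩
    let fx : R := ⟨φ x, apply_mem_S hφ x⟩
    have hxP₂ : ((α xR : R) : Ω) ∈ P₂ := ⟨xR, x.2, rfl⟩
    have e1 : χ ⟨_, hxP₂⟩ = ((α fx : R) : Ω) := hχe x (apply_mem_S hφ x) hxP₂
    have e2 : φ' ⟨_, hy⟩ = θ ⟨fx, hRS fx.2⟩ :=
      induced_apply hi x (hP := hPR x.2) (hφ := apply_mem_S hφ x)
    refine ((apply_congr χ' ?_).trans (induced_apply hχi ⟨_, hxP₂⟩ (hP := (α xR).2)
      (hP' := himg.le (apply_mem_img (x := α xR) hxP₂)) (hφ := e1 ▸ (α fx).2))).trans ?_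
    · exact (hα xR _).symm
    · refine (congrArg θ (Subtype.ext ?_)).trans ((hα fx (e2 ▸ hφy)).trans
        (congrArg (fun w : img θ R => ((a w : img θ R) : Ω')) (Subtype.ext e2.symm)))
      exact e1
  · intro P' hP' φ' hφ'
    obtain ⟨φ, hφ, hi⟩ := exists_lift_hom hF' hφ'
    have hPR : preimg θR P' ≤ R := preimg_le P'
    have hPP : preimg θR P' ≤ preimg θ P' := fun x hx =>
      mem_preimg.2 ⟨hRS (hPR hx), preimg_res_mem hx⟩
    obtain ⟨α, hα, φ₀, hφ₀, he⟩ := hinv.2.2.2 _ hPR _ (restrict_mem hφ hPP)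
    obtain ⟨a₀, ha₀, hai⟩ := induces_of_mem hZ hF' p hS hF ((autGroup_carrier hRS).1 hα)
    have har : a₀.range = img θ R := by
      refine eq_of_le_of_card_le hR' ?_ (card_range ha₀).ge
      rintro _ ⟨⟨_, r, hr', rfl⟩, rfl⟩
      exact Set.mem_of_eq_of_mem (induced_apply hai ⟨r, hr'⟩
        (hφ := hRS (α ⟨r, hr'⟩).2))
        (apply_mem_img (x := (⟨_, hRS (α ⟨r, hr'⟩).2⟩ : S)) (α ⟨r, hr'⟩).2)
    have hker : Z₀ ≤ preimg θR P' := ker_le_preimg inf_le_left hk P'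
    obtain ⟨φ₀', hφ₀', hi₀⟩ := exists_factor_hom hZ₀ hE' hφ₀ hker
      (img_preimg (ι := θR) (hP'.trans hr.ge))
    refine ⟨autOfRange a₀ (F'.injective_of_mem ha₀) har, autOfRange_mem ha₀ har, φ₀', hφ₀',
      fun y hy' => ?_⟩
    obtain ⟨y, hy⟩ := y
    obtain ⟨x, rfl⟩ := hlift hP' hy
    let fx : R := ⟨φ₀ x, apply_mem_S hφ₀ x⟩
    have e2 : φ₀' ⟨_, hy⟩ = θ ⟨fx, hRS fx.2⟩ :=
      induced_apply hi₀ x (hP := hPR x.2) (hφ := apply_mem_S hφ₀ x)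
    have e3 : φ' ⟨_, hy⟩ = θ ⟨((α fx : R) : Ω), hRS (α fx).2⟩ :=
      (induced_apply hi (Subgroup.inclusion hPP x) (hP := hRS (hPR x.2))
        (hφ := apply_mem_S hφ _)).trans (congrArg θ (Subtype.ext (he x fx.2)))
    refine e3.trans (((apply_congr a₀ e2).trans (induced_apply hai fx (hP' := e2 ▸ hy'))).symm)

end CfsgLib.Meet
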