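import Cfsg.Agent.Fusion.Meet.Residual

/-!
The layer of a saturated fusion system exists.
-/

set_option autoImplicit false
set_option linter.style.haveILetI false

open Cfsg Cfsg.FusionSystem CfsgLib.Fusion

namespace CfsgLib.Meet

universe u

variable {Ω : Type u} [Group Ω] {S : Subgroup Ω} {F : FusionSystem S} {p : ℕ} [Fact p.Prime]
  [Finite S]

/-- The residual of a weakly normal subsystem lies in every weakly normal subsystem with at least
the same support, when the support is minimal for a property stable under intersections. -/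
theorem exists_least (hS : IsPGroup p S) (hF : F.IsSaturated p) (Pr : Subgroup Ω → Prop)
    (hPr : Pr S) (hinf : ∀ A B, Pr A → Pr B → Pr (A ⊓ B)) :
    ∃ (T : Subgroup Ω) (E : FusionSystem T), E.IsNormalIn F p ∧ Pr T ∧
      ∀ (R : Subgroup Ω) (D : FusionSystem R), D.IsWeaklyNormalIn F p → Pr R →
        E.IsSubsystemOf D := by
  classical
  have hex : ∃ n : ℕ, ∃ (T : Subgroup Ω) (D : FusionSystem T), D.IsWeaklyNormalIn F p ∧ Pr T ∧
      Nat.card T = n := ⟨_, S, F, CompExists.isWeaklyNormal_self hF, hPr, rfl⟩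
  obtain ⟨T, D, hD, hT, hTn⟩ := Nat.find_spec hex
  have hTS : T ≤ S := hD.2.2.2.1.1
  haveI : Finite T := finite_of_le hTS
  obtain ⟨E, hE⟩ := exists_pPrimeResidual p (isPGroup_of_le hS hTS) hD.1
  refine ⟨T, E, pPrimeResidual_normal hS hD hE, hT, fun R D' hD' hR => ?_⟩
  obtain ⟨K, hK, -, hKD'⟩ := exists_weaklyNormal_meet hS hF hD hD'
  have hmin := Nat.find_min' hex ⟨T ⊓ R, K, hK, hinf T R hT hR, rfl⟩
  have heq : T ⊓ R = T := eq_of_le_of_card_le hTS inf_le_left (hTn.le.trans hmin)
  revert K hK hKD'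
  rw [heq]
  intro K hK hKD'
  exact fun P φ hφ => hKD' P (pPrimeResidual_le_weaklyNormal hS hD hK hE P hφ)

/-- **The layer exists.** -/
theorem exists_layer (hS : IsPGroup p S) (hF : F.IsSaturated p) :
    ∃ (T : Subgroup Ω) (E : FusionSystem T), E.IsLayerOf F p := by
  obtain ⟨T, E, hE, hT, hle⟩ := exists_least hS hF
    (fun A => ∀ (U : Subgroup Ω) (C : FusionSystem U), C.IsComponentIn F p → U ≤ A)
    (fun U C hC => (subnormal_le hC.1).1) fun A B hA hB U C hC => le_inf (hA U C hC) (hB U C hC)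
  exact ⟨T, E, hE, fun U C hC => component_le hC hS hE.1 (hT U C hC),
    fun R D hD hDC => hle R D hD.1 fun U C hC => le_of_subsystem (hDC U C hC)⟩

end CfsgLib.Meet
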