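import Cfsg.Agent.Fusion.Meet.Main
import Cfsg.Agent.Fusion.ComponentExists
import Cfsg.Agent.Fusion.PPrime.Meet
import Cfsg.Agent.Fusion.SolvIndex.SameLimit

/-!
A quasisimple system is its own `p'`-residual, and a quasisimple subnormal subsystem lies in every
weakly normal subsystem whose support contains its support.
-/

set_option autoImplicit false
set_option linter.style.haveILetI false
set_option linter.unusedSectionVars false

open Cfsg Cfsg.FusionSystem CfsgLib.Fusion CfsgLib.FocCent CfsgLib.NormCent CfsgLib.NormExt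

namespace CfsgLib.Meet

universe u

variable {Ω : Type u} [Group Ω] {S : Subgroup Ω} {F : FusionSystem S} {p : ℕ} [Fact p.Prime]

/-- A `p`-element is in the subgroup generated by the elements of `p`-power order. -/
theorem mem_closure_pPower {X : Type*} [Group X] {x : X} {k : ℕ} (h : x ^ p ^ k = 1) :
    x ∈ Subgroup.closure {α : X | ∃ k : ℕ, orderOf α = p ^ k} := by
  obtain ⟨i, -, hi⟩ := (Nat.dvd_prime_pow Fact.out).1 (orderOf_dvd_of_pow_eq_one h)
  exact Subgroup.subset_closure ⟨i, hi⟩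

/-- A quasisimple system is its own `p'`-residual. -/
theorem isPPrimeResidual_self [Finite S] (hS : IsPGroup p S) (hq : F.Quasisimple p)
    {D : FusionSystem S} (hD : F.IsPPrimeResidual p D) : D = F := by
  obtain ⟨hF, -, hsimple⟩ := hq
  obtain ⟨hDs, ⟨hDF, hidx⟩, -⟩ := hD
  let Z := F.center
  let θ : S →* S ⧸ Z.subgroupOf S := QuotientGroup.mk' _
  have hk : ∀ s : S, θ s = 1 ↔ (s : Ω) ∈ Z := fun s => QuotientGroup.eq_one_iff s
  have hr : θ.range = ⊤ := MonoidHom.range_eq_top.2 (QuotientGroup.mk'_surjective _)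
  have hZ : F.StronglyClosed Z :=
    stronglyClosed_of_isNormal (isNormal_of_isCentral isCentral_center)
  have hZD : D.StronglyClosed Z := ⟨hZ.1, fun R hR φ hφ x => hZ.2 R hR φ (hDF R hφ) x⟩
  let E := factorSystem hZ hk hr
  have hE : F.IsFactorSystem Z θ E := factorSystem_spec hZ hk hr
  let E₀ := factorSystem hZD hk hr
  have hE₀ : D.IsFactorSystem Z θ E₀ := factorSystem_spec hZD hk hr
  haveI : Finite (⊤ : Subgroup (S ⧸ Z.subgroupOf S)) := inferInstance
  have hT : IsPGroup p (⊤ : Subgroup (S ⧸ Z.subgroupOf S)) :=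
    (hS.of_surjective θ (QuotientGroup.mk'_surjective _)).to_subgroup ⊤
  obtain ⟨hEs, hne, hEn⟩ := hsimple E hE
  have hE₀s := factor_saturated hZD hE₀ p hS hDs
  have hsub : E₀.IsSubsystemOf E := by
    rintro P' φ' ⟨hP', φ, hφ, h⟩
    exact ⟨hP', φ, hDF _ hφ, h⟩
  have hidx₀ : E₀.HasPrimeToPIndexIn E p := by
    refine ⟨hsub, fun P' hP' => Subgroup.map_le_iff_le_comap.2 ((Subgroup.closure_le _).2 ?_)⟩
    rintro β ⟨k, hk'⟩
    show (β : MulAut P') ∈ E₀.autGroup P'
    let P := preimg θ P'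
    have hPS : P ≤ S := preimg_le P'
    haveI : Finite P := finite_of_le hPS
    haveI : Finite (MulAut P) := finite_mulAut
    obtain ⟨φ, hφ, hind⟩ := exists_lift_hom hE ((autGroup_carrier hP').1 β.2)
    have hrange : φ.range = P := by
      rw [range_lift hZ hE hP' hφ hind, range_subtype_comp]
    let α := autOfRange φ (F.injective_of_mem hφ) hrange
    have hα : α ∈ F.autGroup P := autOfRange_mem hφ hrange
    have hβp : (β : MulAut P') ^ p ^ k = 1 := by
      rw [← hk', ← Subgroup.orderOf_coe, pow_orderOf_eq_one]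
    obtain ⟨i, j, hi, ⟨m, hm⟩, hij⟩ := exists_parts p α
    have hαj : α ^ j ∈ D.autGroup P :=
      hidx P hPS ⟨⟨α ^ j, pow_mem hα j⟩, mem_closure_pPower (Subtype.ext hm), rfl⟩
    -- the induced powers
    have key : ∀ (n : ℕ) (x : P) (hx : θ ⟨x, hPS x.2⟩ ∈ P'),
        ((((β : MulAut P') ^ n) ⟨θ ⟨x, hPS x.2⟩, hx⟩ : P') : S ⧸ Z.subgroupOf S) =
          θ ⟨(α ^ n) x, hPS ((α ^ n) x).2⟩ := by
      intro n
      induction n with
      | zero => intro x hx; rfl
      | succ n ih =>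
        intro x hx
        have hx' : θ ⟨(α ^ n) x, hPS ((α ^ n) x).2⟩ ∈ P' := by
          rw [← ih x hx]
          exact SetLike.coe_mem _
        have h1 := induced_apply hind ((α ^ n) x) (hP := hPS ((α ^ n) x).2)
          (hP' := hx') (hφ := apply_mem_S hφ _)
        have h2 : (⟨θ ⟨(α ^ n) x, hPS ((α ^ n) x).2⟩, hx'⟩ : P') =
            ((β : MulAut P') ^ n) ⟨θ ⟨x, hPS x.2⟩, hx⟩ := Subtype.ext (ih x hx).symm
        rw [h2] at h1
        simp only [pow_succ', MulAut.mul_apply]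
        exact h1
    obtain ⟨φ₀', hφ₀', hind₀⟩ : ∃ φ' ∈ E₀.Hom P', InducedAlong θ (P.subtype.comp (α ^ j).toMonoidHom) φ' :=
      exists_factor_hom hZD hE₀ ((autGroup_carrier hPS).1 hαj) (factor_preimg_le hE P')
        (img_preimg (le_range_factor hE hP'))
    have hpow : ((β : MulAut P') ^ j) = β := by
      have hi1 : (β : MulAut P') ^ i = 1 := by
        refine orderOf_eq_one_iff.1 (Nat.eq_one_of_dvd_coprimes (hi.pow_right k) ?_
          (orderOf_dvd_of_pow_eq_one (by rw [← pow_mul, mul_comm, pow_mul, hβp, one_pow])))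
        refine orderOf_dvd_of_pow_eq_one ?_
        rw [← pow_mul]
        refine MulEquiv.ext fun y => Subtype.ext ?_
        obtain ⟨s, hs⟩ := hr.ge (Subgroup.mem_top (y : S ⧸ Z.subgroupOf S))
        have hsP : (s : Ω) ∈ P := mem_preimg.2 ⟨s.2, hs ▸ y.2⟩
        have hy : y = ⟨θ ⟨(⟨s, hsP⟩ : P), hPS hsP⟩, hs ▸ y.2⟩ := Subtype.ext hs.symm
        rw [hy, key (i * orderOf (α ^ i)) ⟨s, hsP⟩]
        simp [pow_mul, pow_orderOf_eq_one]
      have hjj : (β : MulAut P') ^ (j + i) = β := by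
        refine MulEquiv.ext fun y => Subtype.ext ?_
        obtain ⟨s, hs⟩ := hr.ge (Subgroup.mem_top (y : S ⧸ Z.subgroupOf S))
        have hsP : (s : Ω) ∈ P := mem_preimg.2 ⟨s.2, hs ▸ y.2⟩
        have hy : y = ⟨θ ⟨(⟨s, hsP⟩ : P), hPS hsP⟩, hs ▸ y.2⟩ := Subtype.ext hs.symm
        rw [hy, key (j + i) ⟨s, hsP⟩]
        have h1 := key 1 ⟨s, hsP⟩ (hs ▸ y.2)
        rw [pow_one] at h1
        rw [h1]
        simp only [pow_add, hij, pow_one]
      rwa [pow_add, hi1, mul_one] at hjj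
    rw [← hpow]
    refine (autGroup_carrier hP').2 ?_
    have he : φ₀' = P'.subtype.comp ((β : MulAut P') ^ j).toMonoidHom := by
      refine MonoidHom.ext fun y => ?_
      obtain ⟨s, hs⟩ := hr.ge (Subgroup.mem_top (y : S ⧸ Z.subgroupOf S))
      have hsP : (s : Ω) ∈ P := mem_preimg.2 ⟨s.2, hs ▸ y.2⟩
      have hy : y = ⟨θ ⟨(⟨s, hsP⟩ : P), hPS hsP⟩, hs ▸ y.2⟩ := Subtype.ext hs.symm
      rw [hy, induced_apply hind₀ ⟨s, hsP⟩ (hφ := hPS ((α ^ j) ⟨s, hsP⟩).2)]
      exact (key j ⟨s, hsP⟩ _).symm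
    exact he ▸ hφ₀'
  -- simplicity
  obtain ⟨R, hR⟩ := exists_pPrimeResidual p hT hEs
  have hRn : R.IsNormalIn E p := pPrimeResidual_normal hT (CompExists.isWeaklyNormal_self hEs) hR
  have hRE : ∀ P', R.Hom P' = E.Hom P' := by
    rcases hEn _ R hRn with h | ⟨-, h⟩
    · exact absurd h hne
    · exact h
  have heq : ∀ P', E.Hom P' ⊆ E₀.Hom P' := fun P' φ' hφ' => by
    rw [← hRE] at hφ'
    exact hR.2.2 E₀ hE₀s hidx₀ P' hφ'
  have hall : ∀ P : Subgroup Ω, P ≤ S → Z ≤ P → F.autGroup P ≤ D.autGroup P := by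
    intro P hPS hZP α hα
    haveI : Finite P := finite_of_le hPS
    have hαF := (autGroup_carrier hPS).1 hα
    obtain ⟨φ', hφ', hind⟩ := exists_factor_hom hZ hE hαF hZP rfl
    obtain ⟨ψ, hψ, hψi⟩ := exists_lift_hom hE₀ (heq _ hφ')
    have hpre : preimg θ (img θ P) = P := preimg_img hk hPS hZP
    let χ : P →* Ω := ψ.comp (Subgroup.inclusion hpre.ge)
    have hχ : χ ∈ D.Hom P := restrict_mem hψ hpre.ge
    have hval : ∀ x : P, (⟨χ x, apply_mem_S hχ x⟩ : S)⁻¹ * ⟨α x, hPS (α x).2⟩ ∈ Z.subgroupOf S := by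
      intro x
      rw [Subgroup.mem_subgroupOf, ← hk, map_mul, map_inv, inv_mul_eq_one]
      refine (induced_apply hψi (Subgroup.inclusion hpre.ge x) (hP := hPS x.2)
        (hP' := apply_mem_img x.2) (hφ := apply_mem_S hχ x)).symm.trans ?_
      exact induced_apply hind x
    have hχr : χ.range = P := by
      refine eq_of_le_of_card_le hPS ?_ (card_range hχ).ge
      rintro _ ⟨x, rfl⟩
      have h1 : (χ x)⁻¹ * ((α x : P) : Ω) ∈ Z := Subgroup.mem_subgroupOf.1 (hval x)
      have h2 := mul_mem (α x).2 (P.inv_mem (hZP h1))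
      rwa [mul_inv_rev, inv_inv, mul_inv_cancel_left] at h2
    let a := autOfRange χ (D.injective_of_mem hχ) hχr
    have ha : a ∈ D.autGroup P := autOfRange_mem hχ hχr
    have haF : a ∈ F.autGroup P := (autGroup_carrier hPS).2 (hDF P ((autGroup_carrier hPS).1 ha))
    let κ := a⁻¹ * α
    have hκF : κ ∈ F.autGroup P := mul_mem (inv_mem haF) hα
    have hκ' := (autGroup_carrier hPS).1 hκF
    have hfix : ∀ w : P, (w : Ω) ∈ Z → κ w = w := fun w hw =>
      Subtype.ext (isCentral_fix isCentral_center hκ' w hw)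
    have hdisp : ∀ w : P, (w : Ω)⁻¹ * ((κ w : P) : Ω) ∈ Z := by
      intro w
      let q : P := (a w)⁻¹ * α w
      have hq : (q : Ω) ∈ Z := Subgroup.mem_subgroupOf.1 (hval w)
      have hinv : a⁻¹ q = q := Subtype.ext (isCentral_fix isCentral_center
        ((autGroup_carrier hPS).1 (inv_mem haF)) q hq)
      have : w⁻¹ * κ w = q := by
        rw [← hinv]
        simp [κ, q, MulAut.mul_apply, map_mul]
      exact Set.mem_of_eq_of_mem (congrArg Subtype.val this) hq
    obtain ⟨k, hk'⟩ := exists_pow_eq_one_of_fix hS hZP hPS hfix hdisp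
    have hκD : κ ∈ D.autGroup P :=
      hidx P hPS ⟨⟨κ, hκF⟩, mem_closure_pPower (Subtype.ext hk'), rfl⟩
    have h := mul_mem ha hκD
    rwa [mul_inv_cancel_left] at h
  have hle := alperin_saturated p hS hF D fun P hP => by
    rcases hP with rfl | hP
    · exact hall P le_rfl center_le_S
    · refine hall P hP.1.1 fun z hz => hP.1.2 P (isConj_refl hP.1.1)
        ⟨center_le_S hz, fun x hx => ?_⟩
      exact F.center_le_centralizer hz x (hP.1.1 hx)
  exact ext_hom fun P => Set.Subset.antisymm (hDF P) (hle P)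

/-- A quasisimple system lies in every weakly normal subsystem over the whole group. -/
theorem quasisimple_le_weaklyNormal [Finite S] (hS : IsPGroup p S) (hq : F.Quasisimple p)
    {E : FusionSystem S} (hE : E.IsWeaklyNormalIn F p) : F.IsSubsystemOf E := by
  obtain ⟨D, hD⟩ := exists_pPrimeResidual p hS hq.1
  have h := isPPrimeResidual_self hS hq hD
  subst h
  exact hD.2.2 E hE.1 (SolvIndex.primeToP_of_weaklyNormal hS hE)

theorem subnormal_le {T : Subgroup Ω} {C : FusionSystem T} (h : C.IsSubnormalIn F p) :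
    T ≤ S ∧ C.IsSubsystemOf F := by
  induction h with
  | refl F p => exact ⟨le_rfl, fun _ => subset_rfl⟩
  | step _ hD ih =>
    exact ⟨ih.1.trans hD.1.2.2.2.1.1, fun P φ hφ => hD.1.2.2.1 P (ih.2 P hφ)⟩

/-- **A component lies in every weakly normal subsystem whose support contains its support.** -/
theorem component_le {T : Subgroup Ω} {C : FusionSystem T} (hC : C.IsComponentIn F p)
    [Finite S] (hS : IsPGroup p S) {R : Subgroup Ω} {G : FusionSystem R}
    (hG : G.IsWeaklyNormalIn F p) (hTR : T ≤ R) : C.IsSubsystemOf G := by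
  obtain ⟨hsub, hq⟩ := hC
  suffices key : ∀ {S₀ : Subgroup Ω} {F₀ : FusionSystem S₀} {q : ℕ}, C.IsSubnormalIn F₀ q →
      q = p → ∀ (_ : Finite S₀), IsPGroup p S₀ → ∀ {R : Subgroup Ω} {G : FusionSystem R},
      G.IsWeaklyNormalIn F₀ p → T ≤ R → C.IsSubsystemOf G from
    key hsub rfl ‹_› hS hG hTR
  intro S₀ F₀ q h
  clear hsub hG hS
  induction h with
  | refl F₁ q =>
    intro _ _ hS₀ R G hG hTR
    have hR : R = _ := le_antisymm hG.2.2.2.1.1 hTR
    subst hR
    exact quasisimple_le_weaklyNormal hS₀ hq hG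
  | @step U S' C' D F₁ q hCD hDF ih =>
    intro hqp _ hS₀ R G hG hTR
    subst hqp
    have hUS : U ≤ S' := hDF.1.2.2.2.1.1
    haveI : Finite U := finite_of_le hUS
    obtain ⟨K, hK, hKD, hKG⟩ := exists_weaklyNormal_meet hS₀ hDF.1.2.1 hDF.1 hG
    have hKn := SolvIndex.weaklyNormal_of_between (isPGroup_of_le hS₀ hUS) hDF.1.1 hDF.1.2.2.1 hKD hK
    exact fun P φ hφ => hKG P
      (ih hq rfl inferInstance (isPGroup_of_le hS₀ hUS) hKn (le_inf (subnormal_le hCD).1 hTR) P hφ)

end CfsgLib.Meet
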