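import Cfsg.Agent.Fusion.Meet.FixExt
import Cfsg.Agent.Fusion.Meet.FactorImage
import Cfsg.Agent.Fusion.Meet.Residual
import Cfsg.Agent.Fusion.Meet.Layer
import Cfsg.Agent.Fusion.CoreCentralizesComponents

/-!
A component lies in a weakly normal subsystem or centralizes it.
-/

set_option autoImplicit false
set_option linter.style.haveILetI false
set_option linter.unusedSectionVars false

open Cfsg Cfsg.FusionSystem CfsgLib.Fusion CfsgLib.FocCent CfsgLib.NormCent CfsgLib.NormExt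

namespace CfsgLib.Meet

universe u

variable {Ω : Type u} [Group Ω] {S T U R : Subgroup Ω} {F : FusionSystem S} {D : FusionSystem U}
  {C : FusionSystem T} {p : ℕ} [Fact p.Prime] [Finite S] (hS : IsPGroup p S)

include hS in
/-- In a quasisimple system a weakly normal subsystem is central or over the whole group. -/
theorem center_or_top (hq : F.Quasisimple p) {G : FusionSystem R} (hG : G.IsWeaklyNormalIn F p) :
    R ≤ F.center ∨ R = S := by
  obtain ⟨hF, hyp, hsimp⟩ := id hq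
  let θ := QuotientGroup.mk' ((F.center).subgroupOf S)
  have hk : ∀ s : S, θ s = 1 ↔ (s : Ω) ∈ F.center := fun s => by
    rw [QuotientGroup.mk'_apply, QuotientGroup.eq_one_iff, Subgroup.mem_subgroupOf]
  have hr : θ.range = ⊤ := MonoidHom.range_eq_top.2 (QuotientGroup.mk'_surjective _)
  have hcZ : F.center ≤ S := center_le_S
  have hZ : F.StronglyClosed F.center :=
    stronglyClosed_of_isNormal (isNormal_of_isCentral isCentral_center)
  let F' := factorSystem hZ hk hr
  have hF' : F.IsFactorSystem F.center θ F' := factorSystem_spec hZ hk hr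
  obtain ⟨-, -, hnorm⟩ := hsimp F' hF'
  have hRS : R ≤ S := hG.2.2.2.1.1
  have hmul : ∀ x ∈ preimg θ (img θ R), ∃ r ∈ R, ∃ z ∈ F.center, x = r * z := by
    intro x hx
    obtain ⟨hxS, r, hr', hre⟩ := mem_preimg.1 hx
    refine ⟨r, hr', (r : Ω)⁻¹ * x, ?_, (mul_inv_cancel_left _ _).symm⟩
    exact (hk (r⁻¹ * ⟨x, hxS⟩)).1 (by rw [map_mul, map_inv, hre, inv_mul_cancel])
  obtain ⟨E', hE'⟩ := exists_weaklyNormal_image hS hZ hF' hG hmul
  haveI : Finite (⊤ : Subgroup (S ⧸ (F.center).subgroupOf S)) := finite_factor hF'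
  have hp' := isPGroup_factor hF' p hS
  haveI : Finite (img θ R) := finite_of_le (le_top : img θ R ≤ ⊤)
  obtain ⟨E₀, hE₀⟩ := exists_pPrimeResidual p (isPGroup_of_le hp' le_top) hE'.1
  rcases hnorm _ _ (pPrimeResidual_normal hp' hE' hE₀) with h | ⟨h, -⟩
  · refine Or.inl fun r hr' => (hk ⟨r, hRS hr'⟩).1 (Subgroup.mem_bot.1 ?_)
    rw [← h]
    exact apply_mem_img (ι := θ) (x := ⟨r, hRS hr'⟩) hr'
  · refine Or.inr (le_antisymm hRS (hyp.ge.trans ((Subgroup.closure_le _).2 ?_)))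
    rintro _ ⟨P, ⟨α, hα⟩, x, hP, -, rfl⟩
    obtain ⟨r, hr', z, hz, hxrz⟩ := hmul x (mem_preimg.2 ⟨hP x.2, by rw [h]; trivial⟩)
    obtain ⟨ψ, hψ, he, hf⟩ := isCentral_center.2 P _ ((autGroup_carrier hP).1 hα)
    have hzm : z ∈ P ⊔ F.center := Subgroup.mem_sup_right hz
    have hrm : r ∈ P ⊔ F.center := by
      have h1 := mul_mem (Subgroup.mem_sup_left x.2 : (x : Ω) ∈ P ⊔ F.center) (inv_mem hzm)
      rwa [hxrz, mul_inv_cancel_right] at h1
    have h2 : ψ ⟨r, hrm⟩ ∈ R := map_mem_of_stronglyClosed hG.2.2.2.1 hψ (x := ⟨r, hrm⟩) hr'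
    have h3 : ((α x : P) : Ω) = ψ ⟨r, hrm⟩ * z := by
      refine (he x).symm.trans ?_
      rw [show Subgroup.inclusion le_sup_left x = (⟨r, hrm⟩ : ↥(P ⊔ F.center)) * ⟨z, hzm⟩ from
        Subtype.ext hxrz, map_mul]
      exact congrArg (_ * ·) ((apply_congr ψ rfl).trans (hf ⟨z, hz⟩))
    show (x : Ω)⁻¹ * ((α x : P) : Ω) ∈ R
    rw [h3, hxrz]
    have hn := mul_mem (inv_mem hr') h2
    have hc : z * ((r : Ω)⁻¹ * ψ ⟨r, hrm⟩) = (r : Ω)⁻¹ * ψ ⟨r, hrm⟩ * z :=
      ((F.center_le_centralizer hz) _ (hRS hn)).symm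
    convert hn using 1
    rw [mul_inv_rev, mul_assoc, ← mul_assoc (r : Ω)⁻¹, ← hc, inv_mul_cancel_left]

include hS in
/-- Automorphisms of order prime to `p` of a system centralizing `U ⊓ R` inside a normal
subsystem over `U` extend fixing `R`. -/
theorem fixExt_of_centralizes (hD : D.IsNormalIn F p) (hR : F.StronglyClosed R)
    (hCD : C.IsSubsystemOf D) (hIH : ∀ P, C.Hom P ⊆ D.centralizerHom (U ⊓ R) P) :
    ∀ {P : Subgroup Ω}, P ≤ T → ∀ {a : MulAut P}, a ∈ C.autGroup P →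
      (orderOf a).Coprime p → FixExt F R P a := by
  obtain ⟨⟨-, hF, hinv⟩, -⟩ := id hD
  have hUS : U ≤ S := hinv.2.1.1
  haveI : Finite U := finite_of_le hUS
  have hTU : T ≤ U := le_of_subsystem hCD
  intro P hP a ha hco
  obtain ⟨-, -, -, ψ, hψ, he, hf⟩ := hIH P ((autGroup_carrier hP).1 ha)
  let Q := P ⊔ (U ⊓ R)
  have hQU : Q ≤ U := sup_le (hP.trans hTU) inf_le_left
  haveI : Finite Q := finite_of_le hQU
  haveI : Finite (MulAut Q) := finite_mulAut
  have hψr : ψ.range = Q := by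
    refine eq_of_le_of_card_le hQU ?_ (card_range hψ).ge
    rw [range_eq_sup]
    refine sup_le ?_ ?_
    · rintro _ ⟨⟨y, hy⟩, hyP, rfl⟩
      exact Subgroup.mem_sup_left (Set.mem_of_eq_of_mem (he ⟨y, hyP⟩) (a ⟨y, hyP⟩).2)
    · rintro _ ⟨⟨y, hy⟩, hyW, rfl⟩
      exact Subgroup.mem_sup_right (Set.mem_of_eq_of_mem (hf ⟨y, hyW⟩) hyW)
  let A := autOfRange ψ (D.injective_of_mem hψ) hψr
  have hAa : Agree le_sup_left A a := fun x => he x
  have hAf : A ∈ fixAut (U ⊓ R) Q := fun x hx => Subtype.ext (hf ⟨x, hx⟩)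
  obtain ⟨m, hm1, hm2⟩ := ConstrainedNormal.exists_pow_coprime p A
  have hAm : Agree le_sup_left (A ^ m) a := by
    have h := hAa.pow m
    rwa [hm2 a hco (orderOf_dvd_of_pow_eq_one
      ((hAa.pow _).eq_one (pow_orderOf_eq_one A)))] at h
  exact (fixExt_of_fix hS hD hR le_sup_right hQU (pow_mem (autOfRange_mem hψ hψr) m) hm1
    (pow_mem hAf m)).restrict hAm

include hS in
/-- A system commuting with `R` and centralizing `U ⊓ R` centralizes `R`. -/
theorem centralizes_of_comm (hD : D.IsNormalIn F p) (hR : F.StronglyClosed R)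
    (hCs : C.IsSaturated p) (hCD : C.IsSubsystemOf D)
    (hIH : ∀ P, C.Hom P ⊆ D.centralizerHom (U ⊓ R) P) (hTC : T ≤ centralizerIn S R)
    (P₀ : Subgroup Ω) : C.Hom P₀ ⊆ F.centralizerHom R P₀ := by
  have hTS : T ≤ S := fun x hx => (hTC hx).1
  have hRS : R ≤ S := hR.1
  haveI : Finite T := finite_of_le hTS
  have hext := fun {P : Subgroup Ω} => fixExt_of_centralizes hS hD hR hCD hIH (P := P)
  -- the maps fix `R`
  let C₂ := fixSystem C F R hRS hTC
  suffices h : C ≤ C₂ from fun φ hφ => (h P₀ hφ).2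
  have hT : IsPGroup p T := isPGroup_of_le hS hTS
  refine alperin_saturated p hT hCs C₂ fun P hP => ?_
  have hPn : C.IsFullyNormalized P := by
    rcases hP with rfl | hP
    exacts [isFullyNormalized_S, hP.2.1]
  have hPT := hPn.1
  have hPS := hPT.trans hTS
  haveI : Finite P := finite_of_le hPS
  haveI : Finite (MulAut P) := finite_mulAut
  obtain ⟨⟨-, Sy, hSy⟩, -⟩ := good_of_fullyNormalized p hT hCs hPn
  intro α hα
  suffices h : (⊤ : Subgroup (C.autGroup P)) ≤ (C₂.autGroup P).subgroupOf (C.autGroup P) from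
    Subgroup.mem_subgroupOf.1 (h (Subgroup.mem_top ⟨α, hα⟩))
  refine le_of_sylow_coprime p Sy le_top (fun a ha => ?_) fun a _ hco => ?_
  · rw [hSy] at ha
    exact Subgroup.mem_subgroupOf.2
      (autInducedBy_le_autGroup hPT (Subgroup.mem_subgroupOf.1 ha))
  obtain ⟨f, hf, hfx, hfR⟩ := hext hPT a.2 (by rwa [Subgroup.orderOf_coe])
  obtain ⟨φ, hφ, hφe⟩ := hf
  refine Subgroup.mem_subgroupOf.2 ((autGroup_carrier hPT).2
    ⟨(autGroup_carrier hPT).1 a.2, ?_, hPT.trans hTC,
      fun x => hTC (hPT ((a : MulAut P) x).2), φ, hφ,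
      fun x => (hφe _).trans (hfx x), fun r => (hφe _).trans (hfR r r.2)⟩)
  exact restrict_mem_of_eq hφ le_sup_left fun x => ((hφe _).trans (hfx x)).symm

include hS in
/-- A system centralizing `U ⊓ R` inside a normal subsystem over `U` centralizes `R`. -/
theorem centralizes_closed (hD : D.IsNormalIn F p) (hR : F.StronglyClosed R)
    (hCs : C.IsSaturated p) (hyp : C.hyperfocalSubgroup p = T) (hCD : C.IsSubsystemOf D)
    (hIH : ∀ P, C.Hom P ⊆ D.centralizerHom (U ⊓ R) P) (P₀ : Subgroup Ω) :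
    C.Hom P₀ ⊆ F.centralizerHom R P₀ := by
  obtain ⟨⟨-, hF, hinv⟩, -⟩ := id hD
  have hUS : U ≤ S := hinv.2.1.1
  haveI : Finite U := finite_of_le hUS
  have hTU : T ≤ U := le_of_subsystem hCD
  have hTS : T ≤ S := hTU.trans hUS
  haveI : Finite T := finite_of_le hTS
  have hRS : R ≤ S := hR.1
  have hext := fun {P : Subgroup Ω} => fixExt_of_centralizes hS hD hR hCD hIH (P := P)
  -- `T` centralizes `R`
  have hTC : T ≤ centralizerIn S R := by
    rw [← hyp, FusionSystem.hyperfocalSubgroup, Subgroup.closure_le]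
    rintro _ ⟨P, ⟨α, hα⟩, x, hPT, hres, rfl⟩
    have hUn := stronglyClosed_normal_in_S hinv.2.1
    have hmem : FixExt F R P α := by
      suffices h : ∀ b : C.autGroup P, b ∈ pResidual p (C.autGroup P) →
          FixExt F R P (b : MulAut P) from h _ hres
      haveI : Finite P := finite_of_le (hPT.trans hTS)
      haveI : Finite (MulAut P) := finite_mulAut
      intro b hb
      induction hb using Subgroup.closure_induction with
      | mem c hc => exact hext hPT c.2 (by rw [Subgroup.orderOf_coe]; exact hc)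
      | one => exact FixExt.one (hPT.trans hTS) hRS
      | mul c d _ _ h1 h2 => exact h1.mul h2
      | inv c _ h =>
        obtain ⟨k, hk⟩ : ∃ k : ℕ, (c : MulAut P)⁻¹ = (c : MulAut P) ^ k :=
          ⟨orderOf (c : MulAut P) - 1, inv_eq_of_mul_eq_one_left (by
            rw [← pow_succ, Nat.sub_add_cancel (orderOf_pos _), pow_orderOf_eq_one])⟩
        rw [InvMemClass.coe_inv, hk]
        clear hk
        induction k with
        | zero => rw [pow_zero]; exact FixExt.one (hPT.trans hTS) hRS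
        | succ n ih => rw [pow_succ]; exact ih.mul h
    obtain ⟨f, hf, hfx, hfR⟩ := hmem
    refine mem_centralizerIn.2 ⟨mul_mem (inv_mem (hTS (hPT x.2))) (hTS (hPT (α x).2)),
      fun r hr => ?_⟩
    let y : Ω := ((α x : P) : Ω)
    have hxU := hTU (hPT x.2)
    have hxS := hUS hxU
    have hw : (x : Ω) * r * (x : Ω)⁻¹ ∈ R :=
      conj_mem_of_stronglyClosed hR hxS hr
    have h1 : f ((x : Ω) * r * (x : Ω)⁻¹) = y * r * y⁻¹ := by
      rw [hf.map_conj (Subgroup.mem_sup_left x.2) (Subgroup.mem_sup_right hr), hfx x, hfR r hr]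
    rw [hfR _ hw] at h1
    show r * ((x : Ω)⁻¹ * y) = (x : Ω)⁻¹ * y * r
    calc r * ((x : Ω)⁻¹ * y) = (x : Ω)⁻¹ * ((x : Ω) * r * (x : Ω)⁻¹) * y := by group
      _ = (x : Ω)⁻¹ * (y * r * y⁻¹) * y := by rw [h1]
      _ = (x : Ω)⁻¹ * y * r := by group
  exact centralizes_of_comm hS hD hR hCs hCD hIH hTC P₀

include hS in
/-- **A component lies in a weakly normal subsystem or centralizes it.** -/
theorem component_dichotomy (hC : C.IsComponentIn F p) {G : FusionSystem R}
    (hG : G.IsWeaklyNormalIn F p) :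
    T ≤ R ∨ ∀ P, C.Hom P ⊆ F.centralizerHom R P := by
  obtain ⟨hsub, hq⟩ := hC
  suffices key : ∀ {S₀ : Subgroup Ω} {F₀ : FusionSystem S₀} {q : ℕ}, C.IsSubnormalIn F₀ q →
      q = p → ∀ (_ : Finite S₀), IsPGroup p S₀ → ∀ {R : Subgroup Ω} {G : FusionSystem R},
      G.IsWeaklyNormalIn F₀ p → T ≤ R ∨ ∀ P, C.Hom P ⊆ F₀.centralizerHom R P from
    key hsub rfl ‹_› hS hG
  intro S₀ F₀ q h
  clear hsub hG hS
  induction h with
  | refl F₁ q =>
    intro _ _ hS₀ R G hG
    rcases center_or_top hS₀ hq hG with h | h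
    · exact Or.inr fun P => CoreComp.hom_le_centralizerHom_of_central h P
    · exact Or.inl h.ge
  | @step U S' C' D F₁ q hCD hDF ih =>
    intro hqp _ hS₀ R G hG
    subst hqp
    have hUS : U ≤ S' := hDF.1.2.2.2.1.1
    haveI : Finite U := finite_of_le hUS
    obtain ⟨K, hK, hKD, -⟩ := exists_weaklyNormal_meet hS₀ hDF.1.2.1 hDF.1 hG
    have hKn := SolvIndex.weaklyNormal_of_between (isPGroup_of_le hS₀ hUS) hDF.1.1 hDF.1.2.2.1
      hKD hK
    rcases ih hq rfl inferInstance (isPGroup_of_le hS₀ hUS) hKn with h | h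
    · exact Or.inl (h.trans inf_le_right)
    · exact Or.inr fun P => centralizes_closed hS₀ hDF hG.2.2.2.1 hq.1 hq.2.1
        (subnormal_le hCD).2 h P

include hS in
/-- A component is a component of every weakly normal subsystem over a large enough group. -/
theorem component_of_le (hC : C.IsComponentIn F p) {G : FusionSystem R}
    (hG : G.IsWeaklyNormalIn F p) (hTR : T ≤ R) : C.IsComponentIn G p := by
  obtain ⟨hsub, hq⟩ := hC
  refine ⟨?_, hq⟩
  suffices key : ∀ {S₀ : Subgroup Ω} {F₀ : FusionSystem S₀} {q : ℕ}, C.IsSubnormalIn F₀ q →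
      q = p → ∀ (_ : Finite S₀), IsPGroup p S₀ → ∀ {R : Subgroup Ω} {G : FusionSystem R},
      G.IsWeaklyNormalIn F₀ p → T ≤ R → C.IsSubnormalIn G p from
    key hsub rfl ‹_› hS hG hTR
  intro S₀ F₀ q h
  clear hsub hG hS
  induction h with
  | refl F₁ q =>
    intro _ _ hS₀ R G hG hTR
    have hR : R = _ := le_antisymm hG.2.2.2.1.1 hTR
    subst hR
    rw [ext_hom (E := G) fun P => Set.Subset.antisymm (hG.2.2.1 P)
      (quasisimple_le_weaklyNormal hS₀ hq hG P)]
    exact IsSubnormalIn.refl _ _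
  | @step U S' C' D F₁ q hCD hDF ih =>
    intro hqp _ hS₀ R G hG hTR
    subst hqp
    have hUS : U ≤ S' := hDF.1.2.2.2.1.1
    have hRS : R ≤ S' := hG.2.2.2.1.1
    haveI : Finite U := finite_of_le hUS
    haveI : Finite R := finite_of_le hRS
    obtain ⟨K, hK, hKD, hKG⟩ := exists_weaklyNormal_meet hS₀ hDF.1.2.1 hDF.1 hG
    have hUp := isPGroup_of_le hS₀ hUS
    have hRp := isPGroup_of_le hS₀ hRS
    have hKn := SolvIndex.weaklyNormal_of_between hUp hDF.1.1 hDF.1.2.2.1 hKD hK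
    have hKg := SolvIndex.weaklyNormal_of_between hRp hG.1 hG.2.2.1 hKG hK
    haveI : Finite ↥(U ⊓ R) := finite_of_le (inf_le_left.trans hUS)
    obtain ⟨E, hE⟩ := exists_pPrimeResidual q (isPGroup_of_le hUp inf_le_left) hK.1
    have hED : E.IsWeaklyNormalIn D q := (pPrimeResidual_normal hUp hKn hE).1
    exact IsSubnormalIn.step (ih hq rfl inferInstance hUp hED (le_inf (subnormal_le hCD).1 hTR))
      (pPrimeResidual_normal hRp hKg hE)

end CfsgLib.Meet
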