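import Cfsg.Agent.Fusion.Meet.CProd
import Cfsg.Agent.Fusion.Meet.Dichotomy
import Cfsg.Agent.Fusion.Meet.Constricted
import Cfsg.Agent.S5128

/-!
A central product of two commuting normal subsystems is normal.
-/

set_option autoImplicit false
set_option linter.style.haveILetI false
set_option linter.unusedSectionVars false

open Cfsg Cfsg.FusionSystem CfsgLib.Fusion CfsgLib.FocCent CfsgLib.NormCent CfsgLib.NormExt

namespace CfsgLib.Meet

universe u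

variable {Ω : Type u} [Group Ω] {S T₁ T₂ T : Subgroup Ω} {F : FusionSystem S}
  {E₁ : FusionSystem T₁} {E₂ : FusionSystem T₂} {D : FusionSystem T} {p : ℕ}

variable [Finite S] [Fact p.Prime] (hS : IsPGroup p S) (h₁ : E₁.IsNormalIn F p)
  (h₂ : E₂.IsNormalIn F p) (hcp : CPData E₁ E₂ D) (hDs : D.IsSaturated p)

include hS h₁ in
/-- A normal subsystem centralizes a commuting strongly closed subgroup meeting its centre. -/
theorem le_centralizerHom_of_comm {R : Subgroup Ω} (hR : F.StronglyClosed R)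
    (hcomm : ∀ a ∈ T₁, ∀ b ∈ R, a * b = b * a) (hc : T₁ ⊓ R ≤ E₁.center) (P : Subgroup Ω) :
    E₁.Hom P ⊆ F.centralizerHom R P := by
  have hT₁ : T₁ ≤ S := h₁.1.2.2.2.1.1
  haveI : Finite T₁ := finite_of_le hT₁
  exact centralizes_of_comm hS h₁ hR h₁.1.1 (fun _ => subset_rfl)
    (fun P => CoreComp.hom_le_centralizerHom_of_central hc P)
    (fun a ha => mem_centralizerIn.2 ⟨hT₁ ha, fun b hb => (hcomm a ha b hb).symm⟩) P

include hS h₁ h₂ hcp in
/-- Maps of the first factor extend fixing the second. -/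
theorem exists_ext_fix {P : Subgroup Ω} {f : Ω → Ω} (hf : Mor E₁ P f) :
    ∃ g, Mor F (P ⊔ T₂) g ∧ (∀ x ∈ P, g x = f x) ∧ ∀ b ∈ T₂, g b = b := by
  obtain ⟨φ, hφ, e⟩ := hf
  obtain ⟨-, -, -, ψ, hψ, he, hfx⟩ :=
    le_centralizerHom_of_comm hS h₁ h₂.1.2.2.2.1 hcp.comm hcp.center_left P hφ
  obtain ⟨g, hg, hge⟩ := Mor.of_mem hψ
  exact ⟨g, hg, fun x hx => ((hge ⟨x, Subgroup.mem_sup_left hx⟩).trans (he ⟨x, hx⟩)).trans
    (e ⟨x, hx⟩), fun b hb => (hge ⟨b, Subgroup.mem_sup_right hb⟩).trans (hfx ⟨b, hb⟩)⟩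

include hS h₁ h₂ hcp in
/-- The central product lies in `F`. -/
theorem cprod_sub : D.IsSubsystemOf F := by
  intro P φ hφ
  obtain ⟨f, hf, e⟩ := Mor.of_mem hφ
  obtain ⟨f₁, f₂, hf₁, hf₂, he⟩ := hcp.casesMor hf
  obtain ⟨g₁, hg₁, hg₁e, hg₁f⟩ := exists_ext_fix hS h₁ h₂ hcp hf₁
  obtain ⟨g₂, hg₂, hg₂e, hg₂f⟩ := exists_ext_fix hS h₂ h₁ hcp.symm hf₂
  let P₁ := Subgroup.closure (proj₁ T₁ T₂ P)
  let P₂ := Subgroup.closure (proj₂ T₁ T₂ P)
  have hc : ∀ x ∈ P₁ ⊔ P₂, g₁ x ∈ P₂ ⊔ T₁ := fun x hx => by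
    refine mor_sup_mem hg₁ le_sup_left (closure_proj₂_le.trans le_sup_right)
      (fun y hy => Subgroup.mem_sup_right ?_) (fun y hy => Subgroup.mem_sup_left ?_) hx
    · rw [hg₁e y hy]
      exact hf₁.mem_S hy
    · rwa [hg₁f y (closure_proj₂_le hy)]
  have hg := (hg₁.mono (sup_le_sup_left closure_proj₂_le P₁)).comp hg₂ hc
  have hle : P ≤ P₁ ⊔ P₂ := le_hat hcp.comm ((le_of_mem_hom hφ).trans hcp.sup.le)
  obtain ⟨ψ, hψ, hψe⟩ := hg.mono hle
  refine restrict_mem_of_eq hψ le_rfl fun x => ((hψe x).trans ?_).symm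
  obtain ⟨a, ha, b, hb, hab⟩ := hcp.exists_ab (le_of_mem_hom hφ x.2)
  have hab' : a * b ∈ P := hab ▸ x.2
  have ha' := mem_hat_left ha hb hab'
  have hb' := mem_hat_right ha hb hab'
  show g₂ (g₁ x) = φ x
  rw [← e x, hab, he a ha b hb hab',
    hg₁.map_mul (Subgroup.mem_sup_left ha') (Subgroup.mem_sup_right hb), hg₁e a ha', hg₁f b hb,
    hg₂.map_mul (Subgroup.mem_sup_right (hf₁.mem_S ha')) (Subgroup.mem_sup_left hb'),
    hg₂f _ (hf₁.mem_S ha'), hg₂e b hb']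

include hS h₁ h₂ hcp in
theorem cprod_stronglyClosed : F.StronglyClosed T := by
  rw [hcp.sup]
  exact Cfsg.Agent.S5128.result p hS F h₁.1.2.1 T₁ T₂ h₁.1.2.2.2.1 h₂.1.2.2.2.1

omit [Finite S] [Fact p.Prime] in
/-- Members contain the intersection of the factors. -/
theorem inf_le_of_sc {E₁ : FusionSystem T₁} {E₂ : FusionSystem T₂} {D : FusionSystem T}
    (hcp : CPData E₁ E₂ D) {Q : Subgroup Ω} (hQ : SelfCentralizingIn F T Q) (hQS : Q ≤ S) :
    T₁ ⊓ T₂ ≤ Q := fun z hz => centralizer_le_of_sc hQ hQS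
  ⟨hcp.left_le hz.1, fun x hx => by
    obtain ⟨u, hu, v, hv, rfl⟩ := hcp.exists_ab (hQ.1 hx)
    rw [mul_assoc, ← hcp.comm z hz.1 v hv, ← mul_assoc, hcp.comm u hu z hz.2, mul_assoc]⟩

/-- The automorphisms inner modulo each factor and trivial on their intersection. -/
def modInner (T₁ T₂ Q : Subgroup Ω) : Subgroup (MulAut Q) :=
  fixAut (T₁ ⊓ T₂) Q ⊓
    (((Inn Q) ⊔ modStab T₂ Q) ⊓ ((Inn Q) ⊔ modStab T₁ Q))

include hS h₁ h₂ hcp in
/-- Automorphisms of a fully normalized member extend to a larger member unless it is a product. -/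
theorem exists_step {Q : Subgroup Ω} (hQ : SelfCentralizingIn F T Q) (hQn : F.IsFullyNormalized Q)
    (hne : hat T₁ T₂ Q ≠ Q) {a : MulAut Q} (ha : a ∈ F.autGroup Q) :
    ∃ Y g, Y ≤ T ∧ Q < Y ∧ Mor F Y g ∧ ∀ x : Q, g x = ((a x : Q) : Ω) := by
  classical
  have hF := h₁.1.2.1
  have hT := cprod_stronglyClosed hS h₁ h₂ hcp
  have hQT : Q ≤ T := hQ.1
  have hQS : Q ≤ S := hQn.1
  have hT₁ := h₁.1.2.2.2.1
  have hT₂ := h₂.1.2.2.2.1
  have hW := stronglyClosed_meet hT₁ hT₂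
  haveI : Finite Q := finite_of_le hQS
  haveI : Finite (MulAut Q) := finite_mulAut
  let A := modInner T₁ T₂ Q
  have hstab : ∀ {X : Subgroup Ω}, F.StronglyClosed X → ∀ {c : MulAut Q}, c ∈ F.autGroup Q →
      ∀ x : Q, (x : Ω) ∈ X → ((c x : Q) : Ω) ∈ X := fun {X} hX {c} hc x hx =>
    map_mem_of_stronglyClosed hX ((autGroup_carrier hQS).1 hc) hx
  have hTn : ∀ (X : Subgroup Ω), F.StronglyClosed X → ∀ s ∈ S, ∀ x ∈ X, s * x * s⁻¹ ∈ X :=
    fun X hX s hs x hx => conj_mem_of_stronglyClosed hX hs hx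
  -- `A` is normalized by `Aut_F(Q)`
  have hnorm : ∀ {b : MulAut Q}, b ∈ F.autGroup Q → ∀ c ∈ A, b * c * b⁻¹ ∈ A := by
    intro b hb c hc
    have key : ∀ {X : Subgroup Ω}, F.StronglyClosed X → ∀ {d : MulAut Q},
        d ∈ Inn Q ⊔ modStab X Q → b * d * b⁻¹ ∈ Inn Q ⊔ modStab X Q := by
      intro X hX d hd
      suffices h : Inn Q ⊔ modStab X Q ≤
          (Inn Q ⊔ modStab X Q).comap (MulAut.conj b).toMonoidHom from h hd
      refine sup_le ?_ fun e he => ?_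
      · rintro _ ⟨q, rfl⟩
        refine Subgroup.mem_sup_left ⟨b q, ?_⟩
        refine MulEquiv.ext fun x => ?_
        show b q * x * (b q)⁻¹ = b (MulAut.conj q (b⁻¹ x))
        rw [MulAut.conj_apply, map_mul, map_mul, map_inv, MulAut.apply_inv_self]
      · exact Subgroup.mem_sup_right (modStab_conj (hstab hX hb) he)
    exact ⟨fixAut_conj (hstab hW (inv_mem hb)) hc.1, key hT₂ hc.2.1, key hT₁ hc.2.2⟩
  -- its trace in `Aut_F(Q)` is a `p`-group
  let N : Subgroup (F.autGroup Q) := A.subgroupOf (F.autGroup Q)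
  have hNn : N.Normal := ⟨fun c hc b => Subgroup.mem_subgroupOf.2
    (hnorm b.2 c (Subgroup.mem_subgroupOf.1 hc))⟩
  have hInn : IsPGroup p (Inn Q) := by
    intro c
    obtain ⟨q, hq⟩ := c.2
    obtain ⟨k, hk⟩ := isPGroup_of_le hS hQS q
    refine ⟨k, Subtype.ext ?_⟩
    rw [Subgroup.coe_pow, ← hq, ← map_pow, hk, map_one]
    rfl
  have hpow : ∀ {X : Subgroup Ω}, F.StronglyClosed X → ∀ {d : MulAut Q},
      d ∈ Inn Q ⊔ modStab X Q → ∃ k : ℕ, d ^ p ^ k ∈ modStab X Q := by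
    intro X hX d hd
    have hn : Inn Q ≤ Subgroup.normalizer ((modStab X Q : Subgroup (MulAut Q)) : Set (MulAut Q)) := by
      rintro _ ⟨q, rfl⟩
      refine mem_normalizer_of_conj_mem' fun e he => modStab_conj (fun x hx => ?_) he
      exact hTn X hX q (hQS q.2) x hx
    have hd' : d ∈ ((Inn Q ⊔ modStab X Q : Subgroup (MulAut Q)) : Set (MulAut Q)) := hd
    rw [Subgroup.coe_mul_of_left_le_normalizer_right _ _ hn] at hd'
    obtain ⟨i, hi, m, hm, rfl⟩ := hd'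
    obtain ⟨k, hk⟩ := hInn ⟨i, hi⟩
    have hk' : i ^ p ^ k = 1 := congrArg Subtype.val hk
    have key : ∀ n : ℕ, ∃ m' ∈ modStab X Q, (i * m) ^ n = i ^ n * m' := by
      intro n
      induction n with
      | zero => exact ⟨1, one_mem _, by simp⟩
      | succ n ih =>
        obtain ⟨m', hm', he⟩ := ih
        refine ⟨(i⁻¹ * m' * i) * m, mul_mem ?_ hm, ?_⟩
        · exact (Subgroup.mem_normalizer_iff''.1 (hn hi) m').1 hm'
        · rw [pow_succ, he, pow_succ]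
          group
    obtain ⟨m', hm', he⟩ := key (p ^ k)
    exact ⟨k, by rw [he, hk', one_mul]; exact hm'⟩
  have hNp : IsPGroup p N := by
    rintro ⟨⟨c, hcF⟩, hc⟩
    have hcA : c ∈ A := Subgroup.mem_subgroupOf.1 hc
    obtain ⟨i, hi⟩ := hpow hT₂ hcA.2.1
    obtain ⟨j, hj⟩ := hpow hT₁ hcA.2.2
    have hd₁ : c ^ p ^ (i + j) ∈ modStab T₂ Q := by
      rw [pow_add, pow_mul]
      exact pow_mem hi _
    have hd₂ : c ^ p ^ (i + j) ∈ modStab T₁ Q := by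
      rw [add_comm, pow_add, pow_mul]
      exact pow_mem hj _
    have hW' : T₁ ⊓ T₂ ≤ Q := inf_le_of_sc hcp hQ hQS
    have hfix : c ^ p ^ (i + j) ∈ fixAut (T₁ ⊓ T₂) Q := pow_mem hcA.1 _
    obtain ⟨k, hk⟩ := exists_pow_eq_one_of_fix hS hW' hQS hfix fun x => ⟨hd₂ x, hd₁ x⟩
    refine ⟨i + j + k, Subtype.ext (Subtype.ext ?_)⟩
    show c ^ p ^ (i + j + k) = 1
    rw [pow_add p (i + j) k, pow_mul]
    exact hk
  obtain ⟨⟨-, Sy, hSy⟩, hrec⟩ := good_of_fullyNormalized p hS hF hQn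
  have hNS : N ≤ (Sy : Subgroup (F.autGroup Q)) :=
    (CfsgLib.Solvable.le_pCore p hNn hNp).trans (CfsgLib.Fitting.pCore_le_sylow Sy)
  -- the elements of `T` inducing members of `A`
  let N' : Subgroup Ω := (A.comap (conjAut T Q)).map (normalizerIn T Q).subtype
  have hN'T : N' ≤ T := fun _ ⟨w, _, e⟩ => e ▸ w.2.1
  have hext : ∀ g ∈ N', g ∈ S ∧ g ∈ Subgroup.normalizer (Q : Set Ω) ∧
      ∃ h ∈ S, ∀ x ∈ Q, ∀ f : Ω → Ω, (∀ y : Q, f y = ((a y : Q) : Ω)) →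
        f (g * x * g⁻¹) = h * f x * h⁻¹ := by
    rintro _ ⟨⟨g, hg⟩, hgA, rfl⟩
    refine ⟨hT.1 hg.1, hg.2, ?_⟩
    have hcF : conjAut T Q ⟨g, hg⟩ ∈ F.autGroup Q :=
      autInducedBy_le_autGroup hQS (mem_autInducedBy.2 ⟨g, hT.1 hg.1, fun _ => rfl⟩)
    have h1 : (⟨a * conjAut T Q ⟨g, hg⟩ * a⁻¹, mul_mem (mul_mem ha hcF) (inv_mem ha)⟩ :
        F.autGroup Q) ∈ (Sy : Subgroup (F.autGroup Q)) :=
      hNS (Subgroup.mem_subgroupOf.2 (hnorm ha _ hgA))
    rw [hSy, Subgroup.mem_subgroupOf] at h1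
    obtain ⟨h, hh, hhe⟩ := mem_autInducedBy.1 h1
    refine ⟨h, hh, fun x hx f hf => ?_⟩
    have h2 := hhe (a ⟨x, hx⟩)
    rw [MulAut.mul_apply, MulAut.mul_apply, MulAut.inv_apply_self] at h2
    have hgx : g * x * g⁻¹ ∈ Q := (Subgroup.mem_normalizer_iff.1 hg.2 x).1 hx
    show f (g * x * g⁻¹) = h * f x * h⁻¹
    rw [hf ⟨_, hgx⟩, hf ⟨x, hx⟩]
    exact h2
  obtain ⟨fa, hfa, hfai, hfae⟩ := exists_mor_of_aut hQS ha
  obtain ⟨g, hg, hge⟩ := receptive_mor (N := N') hrec hfa hfai fun w hw => by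
    obtain ⟨h1, h2, h, hh, he⟩ := hext w hw
    exact ⟨h1, h2, h, hh, fun x hx => he x hx fa hfae⟩
  refine ⟨N' ⊔ Q, g, sup_le hN'T hQT, ?_, hg, fun x => (hge x x.2).trans (hfae x)⟩
  refine lt_of_le_of_ne le_sup_right fun heq => hne (le_antisymm ?_ ?_)
  · -- otherwise `Q` is a product
    by_contra hnle
    let H := hat T₁ T₂ Q
    have hQH : Q ≤ H := le_hat hcp.comm (hQT.trans hcp.sup.le)
    have hHT : H ≤ T := hat_le.trans hcp.sup.ge
    haveI : Finite T := finite_of_le hT.1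
    have hlt := lt_normalizerIn p (isPGroup_of_le hS hT.1) hHT (lt_of_le_not_ge hQH hnle)
    refine hlt.not_ge fun s hs => ?_
    have hsT : s ∈ normalizerIn T Q := ⟨hHT hs.1, hs.2⟩
    rw [heq]
    refine Subgroup.mem_sup_left ⟨⟨s, hsT⟩, ?_, rfl⟩
    obtain ⟨u, hu, v, hv, hsuv⟩ := exists_mul_of_comm
      (fun x hx y hy => hcp.comm x (closure_proj₁_le hx) y (closure_proj₂_le hy)) hs.1
    have hu₁ : u ∈ T₁ := closure_proj₁_le hu
    have hv₂ : v ∈ T₂ := closure_proj₂_le hv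
    have key : ∀ {A B : Subgroup Ω}, F.StronglyClosed B → ∀ {u v : Ω}, u ∈ A → v ∈ B → s = u * v →
        (∃ v' ∈ B, u * v' ∈ Q) → conjAut T Q ⟨s, hsT⟩ ∈ Inn Q ⊔ modStab B Q := by
      intro A B hB u v _ hv hsuv ⟨v', hv', huv'⟩
      let q : Q := ⟨u * v', huv'⟩
      have : conjAut T Q ⟨s, hsT⟩ = MulAut.conj q * ((MulAut.conj q)⁻¹ * conjAut T Q ⟨s, hsT⟩) :=
        (mul_inv_cancel_left _ _).symm
      rw [this]
      refine mul_mem (Subgroup.mem_sup_left ⟨q, rfl⟩) (Subgroup.mem_sup_right fun x => ?_)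
      have hxS : (x : Ω) ∈ S := hQS x.2
      have e : (((MulAut.conj q)⁻¹ * conjAut T Q ⟨s, hsT⟩) x : Q) =
          q⁻¹ * conjAut T Q ⟨s, hsT⟩ x * q := by
        rw [MulAut.mul_apply, ← map_inv, MulAut.conj_apply, inv_inv]
      rw [e]
      show (x : Ω)⁻¹ * ((u * v')⁻¹ * (s * (x : Ω) * s⁻¹) * (u * v')) ∈ B
      rw [hsuv]
      have hw : v'⁻¹ * v ∈ B := B.mul_mem (B.inv_mem hv') hv
      have h3 := B.mul_mem (hTn B hB _ (S.inv_mem hxS) _ hw) (B.inv_mem hw)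
      simpa [mul_assoc] using h3
    refine ⟨fun x hx => Subtype.ext ?_, ?_, ?_⟩
    · show s * (x : Ω) * s⁻¹ = x
      rw [hsuv, mul_assoc u v, ← hcp.comm _ hx.1 v hv₂, ← mul_assoc, hcp.comm u hu₁ _ hx.2]
      group
    · have hu' : ∀ y ∈ Subgroup.closure (proj₁ T₁ T₂ Q), ∃ v' ∈ T₂, y * v' ∈ Q := fun y hy => by
        induction hy using Subgroup.closure_induction with
        | mem y hy => exact hy.2
        | one => exact ⟨1, one_mem _, by simp⟩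
        | mul y z hy hz ihy ihz =>
          obtain ⟨b, hb, hyb⟩ := ihy
          obtain ⟨c, hc, hzc⟩ := ihz
          refine ⟨b * c, T₂.mul_mem hb hc, ?_⟩
          have := Q.mul_mem hyb hzc
          rwa [mul_assoc y b, ← mul_assoc b z, ← hcp.comm z (closure_proj₁_le hz) b hb,
            mul_assoc z b, ← mul_assoc] at this
        | inv y hy ihy =>
          obtain ⟨b, hb, hyb⟩ := ihy
          refine ⟨b⁻¹, T₂.inv_mem hb, ?_⟩
          have := Q.inv_mem hyb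
          rwa [mul_inv_rev, ← hcp.comm _ (T₁.inv_mem (closure_proj₁_le hy)) _ (T₂.inv_mem hb)]
            at this
      exact key hT₂ hu₁ hv₂ hsuv (hu' u hu)
    · have hv' : ∀ y ∈ Subgroup.closure (proj₂ T₁ T₂ Q), ∃ u' ∈ T₁, y * u' ∈ Q := fun y hy => by
        induction hy using Subgroup.closure_induction with
        | mem y hy =>
          obtain ⟨hy₂, u', hu', h⟩ := hy
          exact ⟨u', hu', by rwa [← hcp.comm u' hu' y hy₂]⟩
        | one => exact ⟨1, one_mem _, by simp⟩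
        | mul y z hy hz ihy ihz =>
          obtain ⟨b, hb, hyb⟩ := ihy
          obtain ⟨c, hc, hzc⟩ := ihz
          refine ⟨b * c, T₁.mul_mem hb hc, ?_⟩
          have := Q.mul_mem hyb hzc
          rwa [mul_assoc y b, ← mul_assoc b z, hcp.comm b hb z (closure_proj₂_le hz),
            mul_assoc z b, ← mul_assoc] at this
        | inv y hy ihy =>
          obtain ⟨b, hb, hyb⟩ := ihy
          refine ⟨b⁻¹, T₁.inv_mem hb, ?_⟩
          have := Q.inv_mem hyb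
          rwa [mul_inv_rev, hcp.comm _ (T₁.inv_mem hb) _ (T₂.inv_mem (closure_proj₂_le hy))]
            at this
      exact key hT₁ hv₂ hu₁ (hsuv.trans (hcp.comm u hu₁ v hv₂)) (hv' v hv)
  · exact le_hat hcp.comm (hQT.trans hcp.sup.le)
where
  mem_normalizer_of_conj_mem' {G : Type u} [Group G] [Finite G] {H : Subgroup G} {g : G}
      (h : ∀ x ∈ H, g * x * g⁻¹ ∈ H) : g ∈ Subgroup.normalizer (H : Set G) :=
    mem_normalizer_of_conj_mem (S := (⊤ : Subgroup G)) le_top h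

include hS h₁ h₂ hcp in
/-- **Maps on members extend to the products of their projections.** -/
theorem exists_hat_ext {P : Subgroup Ω} (hP : SelfCentralizingIn F T P) {f : Ω → Ω}
    (hf : Mor F P f) : ∃ g, Mor F (hat T₁ T₂ P) g ∧ ∀ x ∈ P, g x = f x := by
  induction hm : Nat.card T - Nat.card P using Nat.strong_induction_on generalizing P f with
  | _ m IH =>
  subst hm
  have hT := cprod_stronglyClosed hS h₁ h₂ hcp
  have hT₁ := h₁.1.2.2.2.1
  have hT₂ := h₂.1.2.2.2.1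
  have hF := h₁.1.2.1
  haveI : Finite T := finite_of_le hT.1
  have hTp := isPGroup_of_le hS hT.1
  have hPT := hP.1
  by_cases hne : hat T₁ T₂ P = P
  · exact ⟨f, hne.symm ▸ hf, fun _ _ => rfl⟩
  have hPlt : P < T := lt_of_le_of_ne hPT fun e => hne (le_antisymm
    ((hat_le.trans hcp.sup.ge).trans e.ge) (le_hat hcp.comm (hPT.trans hcp.sup.le)))
  have hbig : ∀ {R Y : Subgroup Ω}, SelfCentralizingIn F T R → Nat.card R = Nat.card P →
      R < Y → Y ≤ T → ∀ {g : Ω → Ω}, Mor F Y g →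
        ∃ k, Mor F (hat T₁ T₂ R) k ∧ ∀ x ∈ R, k x = g x := by
    intro R Y hR hc hlt hYT g hg
    obtain ⟨k, hk, hke⟩ := IH _ (by
      have h1 := card_lt_of_lt (hYT.trans hT.1) hlt
      have h2 := card_le_of_le hT.1 hYT
      omega) (hR.mono hlt.le hYT) hg rfl
    exact ⟨k, hk.mono (hat_mono hlt.le), fun x hx => hke x (hlt.le hx)⟩
  -- images of the products
  have himg : ∀ {R Q : Subgroup Ω} {k : Ω → Ω}, SelfCentralizingIn F T R → R ≤ T →
      Mor F (hat T₁ T₂ R) k → Im k R Q → ∀ x ∈ hat T₁ T₂ R, k x ∈ hat T₁ T₂ Q := by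
    intro R Q k hR hRT hk hi x hx
    have hle : R ≤ hat T₁ T₂ R := le_hat hcp.comm (hRT.trans hcp.sup.le)
    obtain ⟨φ, hφk, e⟩ := hk
    have h : hat T₁ T₂ R ≤ ((hat T₁ T₂ Q).comap φ).map (hat T₁ T₂ R).subtype := by
      refine sup_le ((Subgroup.closure_le _).2 ?_) ((Subgroup.closure_le _).2 ?_)
      · rintro a ⟨ha, b, hb, hab⟩
        have ha' : a ∈ hat T₁ T₂ R := Subgroup.mem_sup_left (mem_hat_left ha hb hab)
        have hb' : b ∈ hat T₁ T₂ R := Subgroup.mem_sup_right (mem_hat_right ha hb hab)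
        refine ⟨⟨a, ha'⟩, ?_, rfl⟩
        show φ ⟨a, ha'⟩ ∈ hat T₁ T₂ Q
        refine Subgroup.mem_sup_left (mem_hat_left (b := φ ⟨b, hb'⟩) ?_ ?_ ?_)
        · exact map_mem_of_stronglyClosed hT₁ hφk (x := ⟨a, ha'⟩) ha
        · exact map_mem_of_stronglyClosed hT₂ hφk (x := ⟨b, hb'⟩) hb
        · rw [← map_mul, show φ (⟨a, ha'⟩ * ⟨b, hb'⟩) = k (a * b) from e _]
          exact hi.mem hab
      · rintro b ⟨hb, a, ha, hab⟩
        have ha' : a ∈ hat T₁ T₂ R := Subgroup.mem_sup_left (mem_hat_left ha hb hab)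
        have hb' : b ∈ hat T₁ T₂ R := Subgroup.mem_sup_right (mem_hat_right ha hb hab)
        refine ⟨⟨b, hb'⟩, ?_, rfl⟩
        show φ ⟨b, hb'⟩ ∈ hat T₁ T₂ Q
        refine Subgroup.mem_sup_right (mem_hat_right (a := φ ⟨a, ha'⟩) ?_ ?_ ?_)
        · exact map_mem_of_stronglyClosed hT₁ hφk (x := ⟨a, ha'⟩) ha
        · exact map_mem_of_stronglyClosed hT₂ hφk (x := ⟨b, hb'⟩) hb
        · rw [← map_mul, show φ (⟨a, ha'⟩ * ⟨b, hb'⟩) = k (a * b) from e _]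
          exact hi.mem hab
    obtain ⟨w, hw, rfl⟩ := h hx
    exact Set.mem_of_eq_of_mem (e w).symm hw
  obtain ⟨Q, hPQ, hQn⟩ := exists_fullyNormalized F (hPT.trans hT.1)
  have hQ := hP.of_isConj hT hPQ
  obtain ⟨hfa, hrec⟩ := good_of_fullyNormalized p hS hF hQn
  have hto : ∀ {R : Subgroup Ω}, SelfCentralizingIn F T R → Nat.card R = Nat.card P →
      F.IsConj R Q → ∃ u k, Mor F R u ∧ Im u R Q ∧ Mor F (hat T₁ T₂ R) k ∧ ∀ x ∈ R, k x = u x := by
    intro R hR hc hconj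
    obtain ⟨η, hη, -, hmap⟩ := exists_map_normalizer p hS hfa hrec hconj
    obtain ⟨u, hu, hue⟩ := Mor.of_mem hη
    have hRN : R ≤ normalizerIn S R := le_normalizerIn (hR.1.trans hT.1)
    have hlt : R < normalizerIn T R := lt_normalizerIn p hTp le_rfl
      (lt_of_le_of_ne hR.1 fun e => (card_lt_of_lt hT.1 hPlt).ne (by rw [← hc, e]))
    obtain ⟨k, hk, hke⟩ := hbig hR hc hlt (normalizerIn_le_S R)
      (hu.mono (inf_le_inf_right _ hT.1))
    refine ⟨u, k, hu.mono hRN, fun y => ?_, hk, hke⟩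
    rw [← hmap, mem_map_subgroupOf]
    constructor
    · rintro ⟨x, hx, hxR, e⟩
      exact ⟨x, hxR, (hue ⟨x, hx⟩).trans e⟩
    · rintro ⟨x, hx, e⟩
      exact ⟨x, hRN hx, hx, (hue ⟨x, hRN hx⟩).symm.trans e⟩
  obtain ⟨u, k, hu, hui, hk, hke⟩ := hto hP rfl hPQ
  obtain ⟨P', hP'⟩ := hf.exists_im (le_refl P)
  have hconj := hf.isConj le_rfl hP'
  have hP'c : Nat.card P' = Nat.card P := hf.card_im le_rfl hP'
  obtain ⟨u', k', hu', hu'i, hk', hk'e⟩ :=
    hto (hP.of_isConj hT hconj) hP'c (isConj_trans (isConj_symm hconj) hPQ)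
  have hP'T : P' ≤ T := (hP.of_isConj hT hconj).1
  -- the automorphism of `Q`
  obtain ⟨ui, hui', huii, huie, -⟩ := hu.exists_inv hui
  have hm : Mor F Q (fun x => u' (f (ui x))) :=
    ((hui'.comp hf fun x hx => huii.mem hx).comp hu' fun x hx => hP'.mem (huii.mem hx))
  obtain ⟨a, ha, hae⟩ := exists_aut_of_self hm le_rfl fun x hx =>
    hu'i.mem (hP'.mem (huii.mem hx))
  obtain ⟨ka, hka, hkae⟩ : ∃ ka, Mor F (hat T₁ T₂ Q) ka ∧
      ∀ x : Q, ka x = ((a x : Q) : Ω) := by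
    by_cases hneQ : hat T₁ T₂ Q = Q
    · obtain ⟨fa, hfa', -, hfae⟩ := exists_mor_of_aut hQn.1 ha
      exact ⟨fa, hneQ.symm ▸ hfa', hfae⟩
    obtain ⟨Y, g, hYT, hlt, hg, hge⟩ := exists_step hS h₁ h₂ hcp hQ hQn hneQ ha
    obtain ⟨ka, hka, hkae⟩ := hbig hQ (IsConj.card_eq hPQ) hlt hYT hg
    exact ⟨ka, hka, fun x => (hkae x x.2).trans (hge x)⟩
  have hQa : Im ka Q Q := fun y => ⟨fun hy => ⟨_, SetLike.coe_mem (a⁻¹ ⟨y, hy⟩), by
      rw [hkae, MulAut.apply_inv_self]⟩,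
    fun ⟨x, hx, e⟩ => e ▸ Set.mem_of_eq_of_mem (hkae ⟨x, hx⟩) (SetLike.coe_mem _)⟩
  have hki : Im k' P' Q := hu'i.congr fun x hx => hk'e x hx
  obtain ⟨V, hV⟩ := hk'.exists_im (le_refl _)
  obtain ⟨ki, hki', -, hkie, -⟩ := hk'.exists_inv hV
  have hVQ : V = hat T₁ T₂ Q := by
    have hP'sc := hP.of_isConj hT hconj
    have hW : T₁ ⊓ T₂ ≤ P' := inf_le_of_sc hcp hP'sc (hP'T.trans hT.1)
    have hle' : P' ≤ hat T₁ T₂ P' := le_hat hcp.comm (hP'T.trans hcp.sup.le)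
    have hWi : Im k' (T₁ ⊓ T₂) (T₁ ⊓ T₂) :=
      Fusion.im_self (stronglyClosed_meet hT₁ hT₂) hk' (hW.trans hle')
    refine le_antisymm (fun y hy => ?_) (sup_le ((Subgroup.closure_le _).2 ?_)
      ((Subgroup.closure_le _).2 ?_))
    · obtain ⟨x, hx, rfl⟩ := hV.surj hy
      exact himg hP'sc hP'T hk' hki x hx
    · rintro a ⟨ha, b, hb, hab⟩
      obtain ⟨x, hx, hxe⟩ := hki.surj hab
      obtain ⟨a', ha', b', hb', rfl⟩ := hcp.exists_ab (hP'T hx)
      have ha'' : a' ∈ hat T₁ T₂ P' := Subgroup.mem_sup_left (mem_hat_left ha' hb' hx)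
      have hb'' : b' ∈ hat T₁ T₂ P' := Subgroup.mem_sup_right (mem_hat_right ha' hb' hx)
      rw [hk'.map_mul ha'' hb''] at hxe
      have h1 : (k' a')⁻¹ * a = k' b' * b⁻¹ := by
        calc (k' a')⁻¹ * a = (k' a')⁻¹ * (a * b) * b⁻¹ := by group
          _ = k' b' * b⁻¹ := by rw [← hxe]; group
      have hz : (k' a')⁻¹ * a ∈ T₁ ⊓ T₂ :=
        ⟨T₁.mul_mem (T₁.inv_mem (mor_apply_mem hT₁ hk' ha'' ha')) ha,
          h1 ▸ T₂.mul_mem (mor_apply_mem hT₂ hk' hb'' hb') (T₂.inv_mem hb)⟩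
      obtain ⟨z, hz', hze⟩ := hWi.surj hz
      have h2 := hV.mem (Subgroup.mul_mem _ ha'' (hle' (hW hz')))
      rwa [hk'.map_mul ha'' (hle' (hW hz')), hze, mul_inv_cancel_left] at h2
    · rintro b ⟨hb, a, ha, hab⟩
      obtain ⟨x, hx, hxe⟩ := hki.surj hab
      obtain ⟨a', ha', b', hb', rfl⟩ := hcp.exists_ab (hP'T hx)
      have ha'' : a' ∈ hat T₁ T₂ P' := Subgroup.mem_sup_left (mem_hat_left ha' hb' hx)
      have hb'' : b' ∈ hat T₁ T₂ P' := Subgroup.mem_sup_right (mem_hat_right ha' hb' hx)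
      rw [hk'.map_mul ha'' hb''] at hxe
      have h1 : b * (k' b')⁻¹ = a⁻¹ * k' a' := by
        calc b * (k' b')⁻¹ = a⁻¹ * (a * b) * (k' b')⁻¹ := by group
          _ = a⁻¹ * k' a' := by rw [← hxe]; group
      have hz : b * (k' b')⁻¹ ∈ T₁ ⊓ T₂ :=
        ⟨h1 ▸ T₁.mul_mem (T₁.inv_mem ha) (mor_apply_mem hT₁ hk' ha'' ha'),
          T₂.mul_mem hb (T₂.inv_mem (mor_apply_mem hT₂ hk' hb'' hb'))⟩
      obtain ⟨z, hz', hze⟩ := hWi.surj hz
      have h2 := hV.mem (Subgroup.mul_mem _ (hle' (hW hz')) hb'')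
      rwa [hk'.map_mul (hle' (hW hz')) hb'', hze, inv_mul_cancel_right] at h2
  subst hVQ
  refine ⟨fun x => ki (ka (k x)), (hk.comp hka fun x hx => himg hP hPT hk
    (hui.congr fun z hz => hke z hz) x hx).comp hki' fun x hx => himg hQ hQ.1 hka hQa _
      (himg hP hPT hk (hui.congr fun z hz => hke z hz) x hx), fun x hx => ?_⟩
  show ki (ka (k x)) = f x
  rw [hke x hx, hkae ⟨u x, hui.mem hx⟩, hae]
  show ki (u' (f (ui (u x)))) = f x
  rw [huie x hx, ← hk'e _ (hP'.mem hx),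
    hkie _ (le_hat hcp.comm (hP'T.trans hcp.sup.le) (hP'.mem hx))]

end CfsgLib.Meet
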