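import Cfsg.Agent.Fusion.Meet.InvMap
import Cfsg.Agent.Fusion.PPrime.Twist
import Cfsg.Agent.Fusion.NormalCentralizer

/-!
The family of automorphism groups underlying the meet of two weakly normal subsystems: generated by
the elements of order prime to `p` common to both that extend trivially modulo the subgroup, and by
transported conjugations by elements of the intersection of the supports.
-/

set_option autoImplicit false
set_option linter.style.haveILetI false
set_option linter.unusedSectionVars false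

open Cfsg Cfsg.FusionSystem CfsgLib.Fusion CfsgLib.FocCent CfsgLib.NormCent CfsgLib.NormExt

namespace CfsgLib.Meet

variable {Ω : Type*} [Group Ω] {S T₁ T₂ : Subgroup Ω} {F : FusionSystem S}
  {M : FusionSystem T₁} {N : FusionSystem T₂} {p : ℕ}

theorem stronglyClosed_meet {A B : Subgroup Ω} (hA : F.StronglyClosed A)
    (hB : F.StronglyClosed B) : F.StronglyClosed (A ⊓ B) :=
  ⟨inf_le_left.trans hA.1, fun R hR φ hφ x =>
    ⟨hA.2 R (hR.trans inf_le_left) φ hφ x, hB.2 R (hR.trans inf_le_right) φ hφ x⟩⟩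

theorem mor_apply_mem {R U : Subgroup Ω} (hR : F.StronglyClosed R) {f : Ω → Ω} (hf : Mor F U f)
    {x : Ω} (hx : x ∈ U) (hxR : x ∈ R) : f x ∈ R := by
  obtain ⟨φ, hφ, e⟩ := hf
  exact Set.mem_of_eq_of_mem (e ⟨x, hx⟩).symm (map_mem_of_stronglyClosed hR hφ hxR)

/-- The automorphisms transported into those extending trivially modulo the subgroup. -/
def modP (F : FusionSystem S) (P : Subgroup Ω) : Subgroup (MulAut P) :=
  Subgroup.closure {a | ∃ (Q : Subgroup Ω) (hQ : F.IsFullyCentralized Q) (e : P ≃* Q),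
    IsoIn F e ∧ MulAut.congr e a ∈ modAut F hQ.1}

variable [Finite S] [Fact p.Prime] (hS : IsPGroup p S) (hF : F.IsSaturated p)

include hS hF in
/-- `modAut` is carried to `modAut` by isomorphisms between fully centralized subgroups. -/
theorem modAut_congr {Q Q' : Subgroup Ω} (hQ : F.IsFullyCentralized Q)
    (hQ' : F.IsFullyCentralized Q') {e : Q ≃* Q'} (he : IsoIn F e) {a : MulAut Q}
    (ha : a ∈ modAut F hQ.1) : MulAut.congr e a ∈ modAut F hQ'.1 := by
  have hV : Q ⊔ centralizerIn S Q ≤ S := sup_le hQ.1 (centralizerIn_le_S Q)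
  obtain ⟨ψ, hψ, hψe⟩ := saturated_extend p hS hF (P := Q) he (by rw [range_coe]; exact hQ')
    (N := Q ⊔ centralizerIn S Q) (sup_le (le_extender he) (centralizerIn_le_extender Q _))
  have hm : (Q.subgroupOf (Q ⊔ centralizerIn S Q)).map ψ = Q' :=
    (map_eq_range_of_eq le_sup_left hψe).trans (range_coe e)
  have hle : ((centralizerIn S Q).subgroupOf (Q ⊔ centralizerIn S Q)).map ψ ≤
      centralizerIn S Q' := by
    rintro y hy
    obtain ⟨x, hx, hxC, rfl⟩ := mem_map_subgroupOf.1 hy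
    have h1 := map_mem_centralizerIn hψ (P := Q) le_sup_left hxC hx
    rwa [hm] at h1
  have hC : ((centralizerIn S Q).subgroupOf (Q ⊔ centralizerIn S Q)).map ψ =
      centralizerIn S Q' := by
    refine eq_of_le_of_card_le (centralizerIn_le_S Q') hle ?_
    rw [Subgroup.card_map_of_injective (F.injective_of_mem hψ),
      Nat.card_congr (Subgroup.subgroupOfEquivOfLe le_sup_right).toEquiv]
    exact hQ.2 Q' he.isConj
  exact modAut_map hQ.1 hQ'.1 hψ le_rfl hm hC e (fun x => (hψe x x.2 _).symm) ha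

include hS hF in
theorem mem_modP {P Q : Subgroup Ω} (hQ : F.IsFullyCentralized Q) {e : P ≃* Q}
    (he : IsoIn F e) {a : MulAut P} : a ∈ modP F P ↔ MulAut.congr e a ∈ modAut F hQ.1 := by
  refine ⟨fun ha => ?_, fun ha => Subgroup.subset_closure ⟨Q, hQ, e, he, ha⟩⟩
  suffices h : modP F P ≤ (modAut F hQ.1).comap (MulAut.congr e).toMonoidHom from h ha
  refine (Subgroup.closure_le _).2 ?_
  rintro b ⟨Q', hQ', e', he', hb⟩
  have h1 := modAut_congr hS hF hQ' hQ (he'.symm.trans he) hb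
  rwa [congr_congr, congr_symm_congr] at h1

theorem modP_equiv {P Q : Subgroup Ω} {e : P ≃* Q} (he : IsoIn F e) {a : MulAut P}
    (ha : a ∈ modP F P) : MulAut.congr e a ∈ modP F Q := by
  suffices h : modP F P ≤ (modP F Q).comap (MulAut.congr e).toMonoidHom from h ha
  refine (Subgroup.closure_le _).2 ?_
  rintro b ⟨Q', hQ', e', he', hb⟩
  refine Subgroup.subset_closure ⟨Q', hQ', e.symm.trans e', he.symm.trans he', ?_⟩
  show MulAut.congr (e.symm.trans e') (MulAut.congr e b) ∈ _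
  rwa [congr_congr, congr_symm_congr]

include hS hF in
theorem mem_modP_self {P : Subgroup Ω} (hP : F.IsFullyCentralized P) {a : MulAut P} :
    a ∈ modP F P ↔ a ∈ modAut F hP.1 := by
  rw [mem_modP hS hF hP (isoIn_refl hP.1), congr_refl]

include hS hF in
/-- A map on the normalizer carrying a subgroup to a fully normalized one. -/
theorem exists_mor_normalizer {P : Subgroup Ω} (hP : P ≤ S) :
    ∃ (Q : Subgroup Ω) (f : Ω → Ω), F.IsFullyNormalized Q ∧ Mor F (normalizerIn S P) f ∧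
      Im f P Q := by
  obtain ⟨Q, hPQ, hQ⟩ := exists_fullyNormalized F hP
  have hg := good_of_fullyNormalized p hS hF hQ
  obtain ⟨φ, hφ, -, hm⟩ := exists_map_normalizer p hS hg.1 hg.2 hPQ
  obtain ⟨f, hf, hfe⟩ := Mor.of_mem hφ
  refine ⟨Q, f, hQ, hf, fun y => ?_⟩
  rw [← hm, mem_map_subgroupOf]
  constructor
  · rintro ⟨x, hx, hxP, rfl⟩
    exact ⟨x, hxP, hfe ⟨x, hx⟩⟩
  · rintro ⟨x, hx, rfl⟩
    exact ⟨x, le_normalizerIn hP hx, hx, (hfe _).symm⟩

include hS hF in
/-- Conjugations by elements of a strongly closed subgroup containing the centralizers lie in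
`modP`. -/
theorem conj_mem_modP {R : Subgroup Ω} (hR : F.StronglyClosed R) {P : Subgroup Ω}
    (hP : SelfCentralizingIn F R P) {r : Ω} (hr : r ∈ R) {c : MulAut P}
    (hc : ∀ x : P, ((c x : P) : Ω) = r * x * r⁻¹) : c ∈ modP F P := by
  have hPS : P ≤ S := hP.1.trans hR.1
  obtain ⟨Q, f, hQ, hf, hfi⟩ := exists_mor_normalizer hS hF hPS
  have hQc := fullyCentralized_of_fullyNormalized p hS hF hQ
  obtain ⟨e, he, hee⟩ := exists_isoIn hf (le_normalizerIn hPS) hfi
  obtain ⟨φ, hφ, hφe⟩ := hf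
  rw [mem_modP hS hF hQc he]
  have h := conj_mem_modAut p hS hF hR hPS hQc
    (centralizer_le_of_sc (hP.of_isConj hR he.isConj) hQc.1) hφ e
    (fun x => (hee x).trans (hφe (Subgroup.inclusion (le_normalizerIn hPS) x)).symm) hr hc
    (g := 1) (one_mem _)
  simpa only [one_mul, inv_one, mul_one] using h

/-- The generators of order prime to `p`. -/
def cop (F : FusionSystem S) (M : FusionSystem T₁) (N : FusionSystem T₂) (p : ℕ)
    (P : Subgroup Ω) : Set (MulAut P) :=
  {a | (orderOf a).Coprime p ∧ a ∈ M.autGroup P ∧ a ∈ N.autGroup P ∧ a ∈ modP F P}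

/-- The transported conjugations by elements of `R`. -/
def trans (F : FusionSystem S) (R : Subgroup Ω) (P : Subgroup Ω) : Set (MulAut P) :=
  {a | ∃ (P' : Subgroup Ω) (e : P' ≃* P) (r : Ω) (c : MulAut P'), IsoIn F e ∧
    r ∈ normalizerIn R P' ∧ (∀ x : P', ((c x : P') : Ω) = r * x * r⁻¹) ∧ MulAut.congr e c = a}

/-- The family. -/
def fam (F : FusionSystem S) (M : FusionSystem T₁) (N : FusionSystem T₂) (p : ℕ)
    (P : Subgroup Ω) : Subgroup (MulAut P) :=
  Subgroup.closure (cop F M N p P ∪ trans F (T₁ ⊓ T₂) P)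

variable (hM : M.IsInvariantIn F) (hN : N.IsInvariantIn F)

/-- A transported conjugation lies in an invariant subsystem over a group containing the
conjugating element. -/
theorem trans_le_aut {T : Subgroup Ω} {E : FusionSystem T} (hE : E.IsInvariantIn F)
    {R : Subgroup Ω} (hRT : R ≤ T) {P : Subgroup Ω} (hPT : P ≤ T) {a : MulAut P}
    (ha : a ∈ trans F R P) : a ∈ E.autGroup P := by
  obtain ⟨P', e, r, c, he, hr, hc, rfl⟩ := ha
  have hP'T : P' ≤ T := by
    obtain ⟨f, hf, hfi, -⟩ := he.symm.exists_mor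
    intro y hy
    obtain ⟨x, hx, rfl⟩ := hfi.surj hy
    exact mor_T hE hPT hf hx
  obtain ⟨f, hf, hfi, hfe⟩ := he.exists_mor
  exact autGroup_transfer hE hP'T hf hfi e (fun x => (hfe x).symm)
    (autInducedBy_le_autGroup hP'T (mem_autInducedBy.2 ⟨r, hRT hr.1, hc⟩))

include hM in
theorem fam_le_left {P : Subgroup Ω} (hP : P ≤ T₁ ⊓ T₂) : fam F M N p P ≤ M.autGroup P :=
  (Subgroup.closure_le _).2 fun _ ha =>
    ha.elim (fun h => h.2.1) (trans_le_aut hM inf_le_left (hP.trans inf_le_left))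

include hN in
theorem fam_le_right {P : Subgroup Ω} (hP : P ≤ T₁ ⊓ T₂) : fam F M N p P ≤ N.autGroup P :=
  (Subgroup.closure_le _).2 fun _ ha =>
    ha.elim (fun h => h.2.2.1) (trans_le_aut hN inf_le_right (hP.trans inf_le_right))

include hM in
theorem fam_le_F {P : Subgroup Ω} (hP : P ≤ T₁ ⊓ T₂) : fam F M N p P ≤ F.autGroup P :=
  fun a ha => by
    have hPM := hP.trans (inf_le_left : T₁ ⊓ T₂ ≤ T₁)
    exact (autGroup_carrier (hPM.trans hM.2.1.1)).2
      (hM.1 P ((autGroup_carrier hPM).1 (fam_le_left hM hP ha)))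

include hS hF hM hN in
theorem fam_le_modP {P : Subgroup Ω} (hP : SelfCentralizingIn F (T₁ ⊓ T₂) P) :
    fam F M N p P ≤ modP F P := by
  refine (Subgroup.closure_le _).2 fun a ha => ha.elim (fun h => h.2.2.2) ?_
  rintro ⟨P', e, r, c, he, hr, hc, rfl⟩
  have hR := stronglyClosed_meet hM.2.1 hN.2.1
  exact modP_equiv he (conj_mem_modP hS hF hR (hP.of_isConj hR he.symm.isConj) hr.1 hc)

theorem autGroup_equiv {T : Subgroup Ω} {E : FusionSystem T} (hE : E.IsInvariantIn F)
    {P Q : Subgroup Ω} (hPT : P ≤ T) {e : P ≃* Q} (he : IsoIn F e) {a : MulAut P}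
    (ha : a ∈ E.autGroup P) : MulAut.congr e a ∈ E.autGroup Q := by
  obtain ⟨f, hf, hfi, hfe⟩ := he.exists_mor
  exact autGroup_transfer hE hPT hf hfi e (fun x => (hfe x).symm) ha

include hM hN in
theorem cop_equiv {P Q : Subgroup Ω} (hP : P ≤ T₁ ⊓ T₂) {e : P ≃* Q} (he : IsoIn F e)
    {a : MulAut P} (ha : a ∈ cop F M N p P) : MulAut.congr e a ∈ cop F M N p Q :=
  ⟨by rw [MulEquiv.orderOf_eq]; exact ha.1, autGroup_equiv hM (hP.trans inf_le_left) he ha.2.1,
    autGroup_equiv hN (hP.trans inf_le_right) he ha.2.2.1, modP_equiv he ha.2.2.2⟩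

include hM hN in
theorem fam_equiv {P Q : Subgroup Ω} (hP : P ≤ T₁ ⊓ T₂) {e : P ≃* Q} (he : IsoIn F e)
    {a : MulAut P} (ha : a ∈ fam F M N p P) : MulAut.congr e a ∈ fam F M N p Q := by
  suffices h : fam F M N p P ≤ (fam F M N p Q).comap (MulAut.congr e).toMonoidHom from h ha
  refine (Subgroup.closure_le _).2 ?_
  rintro b (hb | ⟨P', e', r, c, he', hr, hc, rfl⟩)
  · exact Subgroup.subset_closure (Or.inl (cop_equiv hM hN hP he hb))
  · exact Subgroup.subset_closure
      (Or.inr ⟨P', e'.trans e, r, c, he'.trans he, hr, hc, congr_congr _ _ _⟩)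

theorem trans_mem_fam {P : Subgroup Ω} {a : MulAut P} (ha : a ∈ trans F (T₁ ⊓ T₂) P) :
    a ∈ fam F M N p P :=
  Subgroup.subset_closure (Or.inr ha)

theorem cop_mem_fam {P : Subgroup Ω} {a : MulAut P} (ha : a ∈ cop F M N p P) :
    a ∈ fam F M N p P :=
  Subgroup.subset_closure (Or.inl ha)

theorem conj_mem_trans {R P : Subgroup Ω} (hPS : P ≤ S) {r : Ω} (hr : r ∈ R) {c : MulAut P}
    (hc : ∀ x : P, ((c x : P) : Ω) = r * x * r⁻¹) : c ∈ trans F R P :=
  ⟨P, MulEquiv.refl P, r, c, isoIn_refl hPS, ⟨hr, mem_normalizer_of_aut hc⟩, hc, congr_refl c⟩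

theorem inn_le_fam {P : Subgroup Ω} (hPS : P ≤ S) : autInducedBy (T₁ ⊓ T₂) P ≤ fam F M N p P :=
  fun a ha => by
    obtain ⟨r, hr, hc⟩ := mem_autInducedBy.1 ha
    exact trans_mem_fam (conj_mem_trans hPS hr hc)

end CfsgLib.Meet
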