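import Cfsg.Agent.Fusion.Meet.NormalProd
import Cfsg.Agent.Fusion.ImageTransport

/-!
Invariant families of components of a weakly normal subsystem generate normal subsystems.
-/

set_option autoImplicit false
set_option linter.style.haveILetI false
set_option linter.unusedSectionVars false

open Cfsg Cfsg.FusionSystem CfsgLib.Fusion CfsgLib.FocCent CfsgLib.NormCent CfsgLib.NormExt
open CfsgLib.FusionImage (im_of_invariant im_injective exists_im_res normal_im component_im resHom)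

namespace CfsgLib.Meet

universe u

variable {Ω : Type u} [Group Ω] {S U : Subgroup Ω} {F : FusionSystem S} {G : FusionSystem U}
  {p : ℕ} [Fact p.Prime] [Finite S] (hS : IsPGroup p S)

include hS in
/-- **The normal subsystem generated by an invariant family of components.** -/
theorem exists_char (hG : G.IsWeaklyNormalIn F p) (Q : Subgroup Ω → Prop)
    (hQ : ∀ α ∈ F.autGroup U, ∀ X ≤ U, Q X → Q (img (U.subtype.comp α.toMonoidHom) X)) :
    ∃ (R : Subgroup Ω) (E : FusionSystem R), E.IsNormalIn F p ∧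
      (∀ (X : Subgroup Ω) (D : FusionSystem X), D.IsComponentIn G p → Q X → X ≤ R) ∧
      ∀ (V : Subgroup Ω) (K : FusionSystem V), K.IsWeaklyNormalIn G p →
        (∀ (X : Subgroup Ω) (D : FusionSystem X), D.IsComponentIn G p → Q X → X ≤ V) →
          E.IsSubsystemOf K := by
  obtain ⟨hGs, hF, hinv⟩ := id hG
  have hUS := hinv.2.1.1
  haveI : Finite U := finite_of_le hUS
  have hUp := isPGroup_of_le hS hUS
  obtain ⟨R, E₀, hE₀, hR, hmin⟩ := exists_least hUp hGs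
    (fun A => ∀ (X : Subgroup Ω) (D : FusionSystem X), D.IsComponentIn G p → Q X → X ≤ A)
    (fun X D hD _ => (subnormal_le hD.1).1)
    fun A B ha hb X D hD hX => le_inf (ha X D hD hX) (hb X D hD hX)
  obtain ⟨⟨hEs, -, hEG, hRc, hEinv, hEfr⟩, -⟩ := id hE₀
  have hRU : R ≤ U := hRc.1
  have hRS : R ≤ S := hRU.trans hUS
  haveI : Finite R := finite_of_le hRS
  have hval : ∀ (α : MulAut U) (x : U), (U.subtype.comp α.toMonoidHom) x = ((α x : U) : Ω) :=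
    fun _ _ => rfl
  -- the images of the least subsystem contain it
  have himg : ∀ α ∈ F.autGroup U, ∃ E' : FusionSystem (img (U.subtype.comp α.toMonoidHom) R),
      E₀.IsFactorSystem ⊥ (resHom (U.subtype.comp α.toMonoidHom) hRU) E' ∧
        E₀.IsSubsystemOf E' := by
    intro α hα
    have hI := im_of_invariant hinv hα
    obtain ⟨E', hE'⟩ := exists_im_res hRU E₀ (im_injective hI)
    refine ⟨E', hE', hmin _ E' (normal_im hUp hI hE₀ hRU hE').1 fun X D hD hX => ?_⟩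
    have hI' := im_of_invariant hinv (inv_mem hα)
    have hXU : X ≤ U := (subnormal_le hD.1).1
    obtain ⟨D', hD'⟩ := exists_im_res hXU D (im_injective hI')
    have hle := hR _ D' (component_im hUp hD hI' hXU hD') (hQ α⁻¹ (inv_mem hα) X hXU hX)
    intro x hx
    refine ⟨α⁻¹ ⟨x, hXU hx⟩, hle (apply_mem_img (ι := U.subtype.comp (α⁻¹ : MulAut U).toMonoidHom)
      (x := ⟨x, hXU hx⟩) hx), ?_⟩
    rw [hval, MulAut.apply_inv_self]
  have hmap : ∀ α ∈ F.autGroup U, ∀ x : U, (x : Ω) ∈ R → ((α x : U) : Ω) ∈ R := by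
    intro α hα x hx
    obtain ⟨E', -, hsub⟩ := himg α⁻¹ (inv_mem hα)
    obtain ⟨y, hy, hyx⟩ := le_of_subsystem hsub hx
    have e : x = α⁻¹ y := Subtype.ext hyx.symm
    rw [e, MulAut.apply_inv_self]
    exact hy
  have key : ∀ α ∈ F.autGroup U, ∀ {P : Subgroup Ω} {φ : P →* Ω}, φ ∈ E₀.Hom P →
      ∀ P' : Subgroup Ω, (∀ y ∈ P', ∃ x : U, (x : Ω) ∈ P ∧ ((α x : U) : Ω) = y) →
      ∃ ψ ∈ E₀.Hom P', ∀ (x : P) (hx : (x : Ω) ∈ U) (hφx : φ x ∈ U)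
        (h : ((α ⟨x, hx⟩ : U) : Ω) ∈ P'), ψ ⟨_, h⟩ = ((α ⟨φ x, hφx⟩ : U) : Ω) := by
    intro α hα P φ hφ P' hP'
    obtain ⟨E', hE', hsub⟩ := himg α⁻¹ (inv_mem hα)
    obtain ⟨ψ, hψ, hi⟩ := exists_lift_hom hE' (hsub P hφ)
    have hP : P ≤ R := le_of_mem_hom hφ
    have hle : P' ≤ preimg (resHom (U.subtype.comp (α⁻¹ : MulAut U).toMonoidHom) hRU) P := by
      intro y hy
      obtain ⟨x, hxP, rfl⟩ := hP' y hy
      refine mem_preimg.2 ⟨hmap α hα x (hP hxP), ?_⟩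
      show ((α⁻¹ (α x) : U) : Ω) ∈ P
      rwa [MulAut.inv_apply_self]
    refine ⟨ψ.comp (Subgroup.inclusion hle), restrict_mem hψ hle, fun x hx hφx h => ?_⟩
    have hαx : ((α ⟨x, hx⟩ : U) : Ω) ∈ R := hmap α hα _ (hP x.2)
    have hψm : ψ (Subgroup.inclusion hle ⟨_, h⟩) ∈ R := apply_mem_S hψ _
    have e0 : ((α⁻¹ (⟨((α ⟨x, hx⟩ : U) : Ω), hRU hαx⟩ : U) : U) : Ω) = x := by
      rw [show (⟨((α ⟨x, hx⟩ : U) : Ω), hRU hαx⟩ : U) = α ⟨x, hx⟩ from Subtype.ext rfl,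
        MulAut.inv_apply_self]
    have e1 := induced_apply hi (Subgroup.inclusion hle ⟨_, h⟩) (hP := hαx) (hφ := hψm)
      (hP' := Set.mem_of_eq_of_mem e0 x.2)
    have e2 : φ x = ((α⁻¹ ⟨_, hRU hψm⟩ : U) : Ω) := (apply_congr φ e0.symm).trans e1
    rw [show (⟨φ x, hφx⟩ : U) = α⁻¹ ⟨_, hRU hψm⟩ from Subtype.ext e2, MulAut.apply_inv_self]
    rfl
  -- restriction of the automorphisms of the big support
  have hres : ∀ α ∈ F.autGroup U, ∃ γ ∈ F.autGroup R,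
      ∀ x : R, ((γ x : R) : Ω) = ((α ⟨x, hRU x.2⟩ : U) : Ω) := by
    intro α hα
    obtain ⟨f, hf, -, hfe⟩ := exists_mor_of_aut hUS hα
    obtain ⟨γ, hγ, hγe⟩ := exists_aut_of_self hf hRU fun x hx =>
      Set.mem_of_eq_of_mem (hfe ⟨x, hRU hx⟩) (hmap α hα _ hx)
    exact ⟨γ, hγ, fun x => (hγe x).trans (hfe ⟨x, hRU x.2⟩)⟩
  have hEF : E₀.IsWeaklyNormalIn F p := by
    refine ⟨hEs, hF, fun P φ hφ => hinv.1 P (hEG P hφ), ⟨hRS, fun P hP φ hφ x => ?_⟩, ?_, ?_⟩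
    · obtain ⟨α, hα, φ₀, hφ₀, he⟩ := hinv.2.2.2 P (hP.trans hRU) φ hφ
      rw [he x (apply_mem_S hφ₀ x)]
      exact hmap α hα _ (hRc.2 P hP φ₀ hφ₀ x)
    · intro P hP φ hφ β hβ
      obtain ⟨α, hα, β₀, hβ₀, he⟩ := hinv.2.2.2 R hRU _ ((autGroup_carrier hRS).1 hβ)
      obtain ⟨γ, hγ, hγe⟩ := hres α hα
      have hb : ∀ x : R, (((γ⁻¹ * β) x : R) : Ω) = β₀ x := by
        intro x
        have h1 : β x = γ ⟨β₀ x, hRc.2 R le_rfl β₀ hβ₀ x⟩ := Subtype.ext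
          ((he x (apply_mem_S hβ₀ x)).trans (hγe ⟨_, hRc.2 R le_rfl β₀ hβ₀ x⟩).symm)
        rw [MulAut.mul_apply, h1, MulAut.inv_apply_self]
      have hβ₁ : γ⁻¹ * β ∈ G.autGroup R :=
        (autGroup_carrier hRU).2 (restrict_mem_of_eq hβ₀ le_rfl hb)
      have hγβ : ∀ x : R, ((β x : R) : Ω) = ((α ⟨_, hRU ((γ⁻¹ * β) x).2⟩ : U) : Ω) := by
        intro x
        rw [← hγe ((γ⁻¹ * β) x), MulAut.mul_apply, MulAut.apply_inv_self]
      obtain ⟨χ₁, hχ₁, hv⟩ := hEinv P hP φ hφ _ hβ₁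
      obtain ⟨ψ, hψ, hψv⟩ := key α hα hχ₁
        ((P.subgroupOf R).map (R.subtype.comp β.toMonoidHom)) (by
          rintro _ ⟨x, hx, rfl⟩
          exact ⟨⟨_, hRU ((γ⁻¹ * β) x).2⟩, ⟨x, hx, rfl⟩, (hγβ x).symm⟩)
      refine ⟨ψ, hψ, fun x hφx hβx => ?_⟩
      have hm : (((γ⁻¹ * β) ⟨x, hP x.2⟩ : R) : Ω) ∈
          (P.subgroupOf R).map (R.subtype.comp (γ⁻¹ * β : MulAut R).toMonoidHom) :=
        ⟨⟨x, hP x.2⟩, x.2, rfl⟩
      have h1 := hv x hφx hm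
      have h2 := hψv ⟨_, hm⟩ (hRU (SetLike.coe_mem _)) (hRU (apply_mem_S hχ₁ _))
        (Set.mem_of_eq_of_mem (hγβ ⟨x, hP x.2⟩).symm hβx)
      refine (apply_congr ψ (hγβ ⟨x, hP x.2⟩)).trans (h2.trans ?_)
      rw [hγβ ⟨φ x, hφx⟩]
      exact congrArg (fun z : U => ((α z : U) : Ω)) (Subtype.ext h1)
    · intro P hP φ hφ
      obtain ⟨α, hα, φ₁, hφ₁, he⟩ := hinv.2.2.2 P (hP.trans hRU) φ hφ
      obtain ⟨α₁, hα₁, φ₀, hφ₀, he₁⟩ := hEfr P hP φ₁ hφ₁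
      obtain ⟨γ, hγ, hγe⟩ := hres α hα
      refine ⟨γ * α₁, mul_mem hγ (autGroup_mono' hinv.1 _ hα₁), φ₀, hφ₀, fun x hx => ?_⟩
      rw [he x (apply_mem_S hφ₁ x), MulAut.mul_apply, hγe]
      exact congrArg (fun z : U => ((α z : U) : Ω)) (Subtype.ext (he₁ x hx))
  obtain ⟨E, hE⟩ := exists_pPrimeResidual p (isPGroup_of_le hS hRS) hEs
  exact ⟨R, E, pPrimeResidual_normal hS hEF hE, hR,
    fun V K hK hV P φ hφ => hmin V K hK hV P (hE.2.1.1 P hφ)⟩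

end CfsgLib.Meet
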