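import Cfsg.Agent.Fusion.Meet.Sylow
import Cfsg.Agent.Fusion.LocalModels
import Cfsg.Agent.Fusion.FactorPair
import Cfsg.Agent.Fusion.ClosedProduct
import Cfsg.Agent.Fusion.PPrime.Residual

/-!
Let `D` be normal in `F` over `U` and `R` strongly closed. An automorphism in `D` of order prime
to `p` fixing `U ⊓ R` pointwise, on a subgroup of `U` containing `U ⊓ R`, extends fixing `R`.
-/

set_option autoImplicit false
set_option linter.style.haveILetI false
set_option linter.unusedSectionVars false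

open Cfsg Cfsg.FusionSystem CfsgLib.Fusion CfsgLib.FocCent CfsgLib.NormCent CfsgLib.NormExt

namespace CfsgLib.Meet

universe u

variable {Ω : Type u} [Group Ω] {S U R : Subgroup Ω} {F : FusionSystem S} {D : FusionSystem U}
  {p : ℕ}

theorem mor_sup_mem {A B C V : Subgroup Ω} {f : Ω → Ω} (hf : Mor F V f) (hA : A ≤ V) (hB : B ≤ V)
    (h1 : ∀ x ∈ A, f x ∈ C) (h2 : ∀ x ∈ B, f x ∈ C) {x : Ω} (hx : x ∈ A ⊔ B) : f x ∈ C := by
  obtain ⟨φ, -, e⟩ := hf
  have h : A ⊔ B ≤ (C.comap φ).map V.subtype := sup_le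
    (fun y hy => ⟨⟨y, hA hy⟩, show φ ⟨y, hA hy⟩ ∈ C from Set.mem_of_eq_of_mem (e ⟨y, hA hy⟩) (h1 y hy), rfl⟩)
    (fun y hy => ⟨⟨y, hB hy⟩, show φ ⟨y, hB hy⟩ ∈ C from Set.mem_of_eq_of_mem (e ⟨y, hB hy⟩) (h2 y hy), rfl⟩)
  obtain ⟨w, hw, rfl⟩ := h hx
  exact Set.mem_of_eq_of_mem (e w).symm hw

/-- `a` extends to `P R` fixing `R` pointwise. -/
def FixExt (F : FusionSystem S) (R P : Subgroup Ω) (a : MulAut P) : Prop :=
  ∃ f, Mor F (P ⊔ R) f ∧ (∀ x : P, f x = ((a x : P) : Ω)) ∧ ∀ r ∈ R, f r = r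

theorem FixExt.one {P : Subgroup Ω} (hP : P ≤ S) (hR : R ≤ S) : FixExt F R P 1 :=
  ⟨id, Mor.id_mor (sup_le hP hR), fun _ => rfl, fun _ _ => rfl⟩

theorem FixExt.mul {P : Subgroup Ω} {a b : MulAut P} (ha : FixExt F R P a) (hb : FixExt F R P b) :
    FixExt F R P (a * b) := by
  obtain ⟨f, hf, hfa, hfR⟩ := ha
  obtain ⟨g, hg, hgb, hgR⟩ := hb
  refine ⟨f ∘ g, hg.comp hf fun x hx => ?_, fun x => ?_, fun r hr => ?_⟩
  · exact mor_sup_mem hg le_sup_left le_sup_right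
      (fun y hy => Subgroup.mem_sup_left (Set.mem_of_eq_of_mem (hgb ⟨y, hy⟩) (b ⟨y, hy⟩).2))
      (fun y hy => Subgroup.mem_sup_right ((hgR y hy).symm ▸ hy)) hx
  · show f (g x) = _
    rw [hgb, hfa]
    rfl
  · show f (g r) = r
    rw [hgR r hr, hfR r hr]

theorem FixExt.restrict {P X : Subgroup Ω} {b : MulAut X} {a : MulAut P} (hb : FixExt F R X b)
    {h : P ≤ X} (hag : Agree h b a) : FixExt F R P a := by
  obtain ⟨f, hf, hfb, hfR⟩ := hb
  exact ⟨f, hf.mono (sup_le_sup_right h R),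
    fun x => (hfb (Subgroup.inclusion h x)).trans (hag x), hfR⟩

theorem FixExt.pull [Finite S] (hR : F.StronglyClosed R) {P Q V : Subgroup Ω} {f : Ω → Ω}
    (hf : Mor F V f) (hV : P ⊔ R ≤ V) (hi : Im f P Q) {e : P ≃* Q}
    (he : ∀ x : P, ((e x : Q) : Ω) = f x) {a : MulAut P}
    (h : FixExt F R Q (MulAut.congr e a)) : FixExt F R P a := by
  obtain ⟨g, hg, hga, hgR⟩ := h
  have hR' : Im f R R := Fusion.im_self hR hf (le_sup_right.trans hV)
  obtain ⟨W, hW⟩ := hf.exists_im hV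
  have hWe : W = Q ⊔ R := by
    refine le_antisymm (fun y hy => ?_) (sup_le (fun y hy => ?_) fun y hy => ?_)
    · obtain ⟨x, hx, rfl⟩ := hW.surj hy
      exact mor_sup_mem hf (le_sup_left.trans hV) (le_sup_right.trans hV)
        (fun z hz => Subgroup.mem_sup_left (hi.mem hz))
        (fun z hz => Subgroup.mem_sup_right (hR'.mem hz)) hx
    · obtain ⟨x, hx, rfl⟩ := hi.surj hy
      exact hW.mem (Subgroup.mem_sup_left hx)
    · obtain ⟨x, hx, rfl⟩ := hR'.surj hy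
      exact hW.mem (Subgroup.mem_sup_right hx)
  subst hWe
  obtain ⟨k, hk, -, hkf, -⟩ := (hf.mono hV).exists_inv hW
  have hgQ : ∀ x ∈ Q ⊔ R, g x ∈ Q ⊔ R := fun x hx => mor_sup_mem hg le_sup_left le_sup_right
    (fun z hz => Subgroup.mem_sup_left
      (Set.mem_of_eq_of_mem (hga ⟨z, hz⟩) (MulAut.congr e a ⟨z, hz⟩).2))
    (fun z hz => Subgroup.mem_sup_right ((hgR z hz).symm ▸ hz)) hx
  refine ⟨fun x => k (g (f x)), ((hf.mono hV).comp hg fun x hx => hW.mem hx).comp hk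
    fun x hx => hgQ _ (hW.mem hx), fun x => ?_, fun r hr => ?_⟩
  · show k (g (f x)) = _
    rw [← he x, hga (e x), congr_apply_apply, he (a x), hkf _ (Subgroup.mem_sup_left (a x).2)]
  · show k (g (f r)) = r
    rw [hgR _ (hR'.mem hr), hkf _ (Subgroup.mem_sup_right hr)]

variable [Finite S] [Fact p.Prime] (hS : IsPGroup p S) (hD : D.IsNormalIn F p)
  (hR : F.StronglyClosed R)

omit [Fact p.Prime] in
theorem comm_mem_inf (hU : F.StronglyClosed U) (hR : F.StronglyClosed R) {x r : Ω} (hx : x ∈ U)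
    (hr : r ∈ R) : x⁻¹ * (r * x * r⁻¹) ∈ U ⊓ R := by
  refine ⟨U.mul_mem (U.inv_mem hx) (conj_mem_of_stronglyClosed hU (hR.1 hr) hx), ?_⟩
  have h1 := (Subgroup.mem_normalizer_iff''.1
    (stronglyClosed_normal_in_S hR (hU.1 hx)) r).1 hr
  simpa [mul_assoc] using R.mul_mem h1 (R.inv_mem hr)

omit [Fact p.Prime] in
theorem le_normalizerIn_of_between (hU : F.StronglyClosed U) (hR : F.StronglyClosed R)
    {P : Subgroup Ω} (hWP : U ⊓ R ≤ P) (hPU : P ≤ U) : R ≤ normalizerIn S P := fun r hr =>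
  ⟨hR.1 hr, mem_normalizer_of_conj_mem (hPU.trans hU.1) fun x hx => by
    simpa using P.mul_mem hx (hWP (comm_mem_inf hU hR (hPU hx) hr))⟩

/-- The subgroup of automorphisms fixing `W` pointwise. -/
def fixAut (W P : Subgroup Ω) : Subgroup (MulAut P) where
  carrier := {a | ∀ x : P, (x : Ω) ∈ W → a x = x}
  one_mem' _ _ := rfl
  mul_mem' {a b} ha hb x hx := by
    show a (b x) = x
    rw [hb x hx, ha x hx]
  inv_mem' {a} ha x hx := by
    conv_lhs => rw [← ha x hx]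
    exact MulAut.inv_apply_self _ _ _

theorem fixAut_conj {W P : Subgroup Ω} {A b : MulAut P}
    (hA : ∀ x : P, (x : Ω) ∈ W → ((A⁻¹ x : P) : Ω) ∈ W) (hb : b ∈ fixAut W P) :
    A * b * A⁻¹ ∈ fixAut W P := fun x hx => by
  show A (b (A⁻¹ x)) = x
  rw [hb _ (hA x hx), MulAut.apply_inv_self]

include hS hD hR in
/-- The extension at a fully normalized centric subgroup. -/
theorem fixExt_centric {X : Subgroup Ω} (hXn : F.IsFullyNormalized X) (hXc : D.IsCentric X)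
    (hWX : U ⊓ R ≤ X) {β : MulAut X} (hβ : β ∈ D.autGroup X) (hco : (orderOf β).Coprime p)
    (hfix : β ∈ fixAut (U ⊓ R) X) : FixExt F R X β := by
  obtain ⟨⟨hDs, hF, hinv⟩, -⟩ := id hD
  have hU := hinv.2.1
  have hXU : X ≤ U := hXc.1
  have hXS : X ≤ S := hXn.1
  let V := X ⊔ centralizerIn S X
  have hVS : V ≤ S := sup_le hXS (centralizerIn_le_S X)
  obtain ⟨L⟩ := exists_localGroup hS hF hXn
  obtain ⟨B, hB, hBβ, hBm⟩ := autGroup_le_modAut p hS hD hXc hXn hβ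
  have hUV : ∀ v : V, (v : Ω) ∈ U → (v : Ω) ∈ X := by
    intro v hv
    obtain ⟨x, hx, c, hc, hvc⟩ := exists_mul_sup v.2
    have hcU : c ∈ centralizerIn U X := ⟨by
      have h := U.mul_mem (U.inv_mem (hXU hx)) (hvc ▸ hv)
      rwa [inv_mul_cancel_left] at h, hc.2⟩
    rw [hvc]
    exact X.mul_mem hx (hXc.2 X (isConj_refl hXU) hcU)
  have hBU : B ∈ modStab U V := by
    intro v
    obtain ⟨x, hx, c, hc, hvc⟩ := exists_mul_sup v.2
    let cv : V := ⟨c, Subgroup.mem_sup_right hc⟩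
    have hv : v = Subgroup.inclusion le_sup_left ⟨x, hx⟩ * cv := Subtype.ext hvc
    rw [hv, map_mul, Subgroup.coe_mul, Subgroup.coe_mul, hBβ ⟨x, hx⟩]
    have h1 : (x : Ω)⁻¹ * ((β ⟨x, hx⟩ : X) : Ω) ∈ U :=
      hXU (X.mul_mem (X.inv_mem hx) (β ⟨x, hx⟩).2)
    have h2 : (c : Ω)⁻¹ * ((B cv : V) : Ω) ∈ U := hXU (hBm cv hc)
    have h3 := U.mul_mem ((Subgroup.mem_normalizer_iff''.1
      (stronglyClosed_normal_in_S hU hc.1) _).1 h1) h2
    simpa [mul_assoc, cv] using h3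
  obtain ⟨g₀, hg₀, hg₀β⟩ := L.onto B hB β hBβ
  obtain ⟨m, hm1, hm2⟩ := ConstrainedNormal.exists_pow_coprime p g₀
  let g := g₀ ^ m
  have hgβ : L.res g = β := by
    rw [map_pow, hg₀β]
    refine hm2 β hco (orderOf_dvd_of_pow_eq_one ?_)
    rw [← hg₀β, ← map_pow, pow_orderOf_eq_one, map_one]
  have hgU : L.ρ g ∈ modStab U V := by
    rw [map_pow, hg₀]
    exact pow_mem hBU m
  obtain ⟨K, hKn, hUK, hKco, hKU⟩ := exists_side L hS hF hXn hD.1 hXU
  have hgK : g ∈ K := hKco g hm1 (hgβ.symm ▸ hβ) hgU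
  -- the normal `p`-subgroup of the elements trivial on `U ⊓ R` and modulo it
  let N₂ : Subgroup L.G := ((fixAut (U ⊓ R) X ⊓ modStab (U ⊓ R) X).comap L.res) ⊓
    (modStab U V).comap L.ρ
  have hresW : ∀ (h : L.G) (x : X), (x : Ω) ∈ U ⊓ R → ((L.res h x : X) : Ω) ∈ U ⊓ R :=
    fun h x hx => map_mem_of_stronglyClosed (stronglyClosed_meet hU hR)
      ((autGroup_carrier hXS).1 (L.res_mem h)) hx
  have hρU : ∀ (h : L.G) (v : V), (v : Ω) ∈ U → ((L.ρ h v : V) : Ω) ∈ U := fun h v hv =>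
    map_mem_of_stronglyClosed hU ((autGroup_carrier hVS).1 (L.mem h)) hv
  have hN₂n : N₂.Normal := ⟨fun k hk h => by
    refine ⟨⟨?_, ?_⟩, ?_⟩
    · show L.res (h * k * h⁻¹) ∈ fixAut (U ⊓ R) X
      rw [map_mul, map_mul, map_inv]
      refine fixAut_conj (fun x hx => ?_) hk.1.1
      rw [← map_inv]
      exact hresW h⁻¹ x hx
    · show L.res (h * k * h⁻¹) ∈ modStab (U ⊓ R) X
      rw [map_mul, map_mul, map_inv]
      exact modStab_conj (hresW h) hk.1.2
    · show L.ρ (h * k * h⁻¹) ∈ modStab U V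
      rw [map_mul, map_mul, map_inv]
      exact modStab_conj (hρU h) hk.2⟩
  have hN₂p : IsPGroup p N₂ := by
    rintro ⟨k, hk⟩
    obtain ⟨i, hi⟩ := exists_pow_eq_one_of_fix hS hWX hXS (γ := L.res k) hk.1.1 hk.1.2
    have hk' : k ^ p ^ i ∈ N₂ := pow_mem hk _
    obtain ⟨j, hj⟩ := exists_pow_eq_one_of_fix hS (le_sup_left : X ≤ V) hVS
      (γ := L.ρ (k ^ p ^ i)) (fun v hv => Subtype.ext (by
        have h := L.agree (k ^ p ^ i) ⟨v, hv⟩
        rw [map_pow L.res, hi] at h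
        exact h))
      (fun v => hUV (v⁻¹ * L.ρ (k ^ p ^ i) v) (hk'.2 v))
    have hk'' : (k ^ p ^ i) ^ p ^ j ∈ img L.ι V := by
      refine L.cent ?_
      rintro _ ⟨v, hv, rfl⟩
      have h := L.act ((k ^ p ^ i) ^ p ^ j) ⟨v, hv⟩
      rw [map_pow L.ρ, hj] at h
      exact eq_mul_inv_iff_mul_eq.1 h
    obtain ⟨v, -, hv⟩ := hk''
    obtain ⟨l, hl⟩ := (isPGroup_of_le hS (normalizerIn_le_S (S := S) X)) v
    refine ⟨i + j + l, Subtype.ext ?_⟩
    show k ^ p ^ (i + j + l) = 1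
    rw [pow_add, pow_add, pow_mul, pow_mul, ← hv, ← map_pow, hl, map_one]
  obtain ⟨Sy, hSy⟩ := L.syl
  have hN₂S : N₂ ≤ L.ι.range := by
    rw [← hSy]
    exact (CfsgLib.Solvable.le_pCore p hN₂n hN₂p).trans (CfsgLib.Fitting.pCore_le_sylow Sy)
  -- `g` centralizes the image of `R`
  have hRN : R ≤ normalizerIn S X := le_normalizerIn_of_between hU hR hWX hXU
  have hcomm : ∀ r (hr : r ∈ R), g * L.ι ⟨r, hRN hr⟩ * g⁻¹ = L.ι ⟨r, hRN hr⟩ := by
    intro r hr
    let c : L.G := L.ι ⟨r, hRN hr⟩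
    let k : L.G := g * c * g⁻¹ * c⁻¹
    have hγ : L.res c ∈ modStab (U ⊓ R) X := fun x => by
      rw [L.res_ι]
      exact comm_mem_inf hU hR (hXU x.2) hr
    have hk₁ : L.res k ∈ fixAut (U ⊓ R) X := by
      have : L.res k = β * (L.res c * β⁻¹ * (L.res c)⁻¹) := by
        simp [k, map_mul, map_inv, hgβ, mul_assoc]
      rw [this]
      exact mul_mem hfix (fixAut_conj (fun x hx => by rw [← map_inv]; exact hresW c⁻¹ x hx)
        (inv_mem hfix))
    have hk₂ : L.res k ∈ modStab (U ⊓ R) X := by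
      have : L.res k = β * L.res c * β⁻¹ * (L.res c)⁻¹ := by
        simp [k, map_mul, map_inv, hgβ]
      rw [this]
      refine mul_mem (modStab_conj (fun x hx => ?_) hγ) (inv_mem hγ)
      rw [hfix x hx]
      exact hx
    have hk₃ : L.ρ k ∈ modStab U V := by
      have : L.ρ k = L.ρ g * (L.ρ c * (L.ρ g)⁻¹ * (L.ρ c)⁻¹) := by
        simp [k, map_mul, map_inv, mul_assoc]
      rw [this]
      exact mul_mem hgU (modStab_conj (hρU c) (inv_mem hgU))
    obtain ⟨⟨s, hsN⟩, hs⟩ := hN₂S (⟨⟨hk₁, hk₂⟩, hk₃⟩ : k ∈ N₂)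
    have hkK : k ∈ K := by
      have : k = g * (c * g⁻¹ * c⁻¹) := by simp [k, mul_assoc]
      rw [this]
      exact mul_mem hgK (hKn.conj_mem _ (inv_mem hgK) c)
    have hsU : s ∈ U := hKU ⟨s, hsN⟩ (hs ▸ hkK)
    have hgc : g * c * g⁻¹ = L.ι (⟨s, hsN⟩ * ⟨r, hRN hr⟩) := by
      rw [map_mul, hs]
      simp [k, c]
    obtain ⟨φ, hφN, hφ, hφe⟩ := L.hom (Subgroup.zpowers r)
      (Subgroup.zpowers_le.2 (hRN hr)) g fun x => by
        obtain ⟨i, hi⟩ := Subgroup.mem_zpowers_iff.1 x.2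
        rw [show (⟨(x : Ω), Subgroup.zpowers_le.2 (hRN hr) x.2⟩ : ↥(normalizerIn S X)) =
          ⟨r, hRN hr⟩ ^ i from Subtype.ext (by simp [hi]), map_zpow, ← conj_zpow]
        exact zpow_mem (hgc ▸ ⟨_, rfl⟩) i
    have hsr : s * r ∈ R := by
      have h1 : φ ⟨r, Subgroup.mem_zpowers r⟩ ∈ R :=
        map_mem_of_stronglyClosed hR hφ (x := ⟨r, Subgroup.mem_zpowers r⟩) hr
      have h2 := congrArg Subtype.val (L.inj ((hφe ⟨r, Subgroup.mem_zpowers r⟩).trans hgc))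
      exact Set.mem_of_eq_of_mem (Eq.symm h2) h1
    have hsW : s ∈ U ⊓ R := ⟨hsU, by simpa using R.mul_mem hsr (R.inv_mem hr)⟩
    -- `g` fixes `ι s`
    have hfixs : g * k * g⁻¹ = k := by
      have h := L.act g ⟨s, Subgroup.mem_sup_left (hWX hsW)⟩
      have e : ((L.ρ g ⟨s, Subgroup.mem_sup_left (hWX hsW)⟩ : V) : Ω) = s := by
        have e1 := L.agree g ⟨s, hWX hsW⟩
        rw [hgβ, hfix ⟨s, hWX hsW⟩ hsW] at e1
        exact e1
      rw [← hs]
      exact h.symm.trans (congrArg L.ι (Subtype.ext e))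
    have hk : g * k = k * g := mul_inv_eq_iff_eq_mul.1 hfixs
    have hiter : ∀ n : ℕ, g ^ n * c * (g ^ n)⁻¹ = k ^ n * c := by
      intro n
      induction n with
      | zero => simp
      | succ n ih =>
        calc g ^ (n + 1) * c * (g ^ (n + 1))⁻¹ = g * (g ^ n * c * (g ^ n)⁻¹) * g⁻¹ := by group
          _ = (g * k ^ n * g⁻¹) * (g * c * g⁻¹) := by rw [ih]; group
          _ = k ^ n * (g * c * g⁻¹) := by
            rw [(show Commute g (k ^ n) from Commute.pow_right hk n).eq, mul_inv_cancel_right]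
          _ = k ^ (n + 1) * c := by simp [k, pow_succ, mul_assoc]
    have hk1 : k = 1 := by
      have h1 : k ^ orderOf g = 1 := by
        have := hiter (orderOf g)
        rw [pow_orderOf_eq_one, inv_one, one_mul, mul_one] at this
        exact (mul_eq_right.1 this.symm)
      obtain ⟨j, hj⟩ := hN₂p ⟨k, ⟨hk₁, hk₂⟩, hk₃⟩
      exact orderOf_eq_one_iff.1 (Nat.eq_one_of_dvd_coprimes (hm1.pow_right j)
        (orderOf_dvd_of_pow_eq_one h1)
        (orderOf_dvd_of_pow_eq_one (congrArg Subtype.val hj : k ^ p ^ j = 1)))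
    exact mul_inv_eq_one.1 hk1
  -- the map on `X R`
  have hZN : X ⊔ R ≤ normalizerIn S X := sup_le (le_normalizerIn hXS) hRN
  have himg : ∀ x : ↥(X ⊔ R), g * L.ι ⟨x, hZN x.2⟩ * g⁻¹ ∈ L.ι.range := by
    have hle : X ⊔ R ≤ ((L.ι.range).comap ((MulAut.conj g).toMonoidHom.comp L.ι)).map
        (normalizerIn S X).subtype := by
      refine sup_le (fun x hx => ⟨⟨x, le_normalizerIn hXS hx⟩, ?_, rfl⟩)
        (fun r hr => ⟨⟨r, hRN hr⟩, ?_, rfl⟩)
      · exact ⟨_, L.act g ⟨x, Subgroup.mem_sup_left hx⟩⟩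
      · exact ⟨_, (hcomm r hr).symm⟩
    intro x
    obtain ⟨w, hw, hwx⟩ := hle x.2
    have : w = ⟨x, hZN x.2⟩ := Subtype.ext hwx
    exact this ▸ hw
  obtain ⟨φ, hφN, hφ, hφe⟩ := L.hom _ hZN g himg
  obtain ⟨f, hf, hfe⟩ := Mor.of_mem hφ
  refine ⟨f, hf, fun x => ?_, fun r hr => ?_⟩
  · have h1 := hφe (Subgroup.inclusion le_sup_left x)
    have h2 := L.act g (Subgroup.inclusion le_sup_left x)
    have h3 := congrArg Subtype.val (L.inj (h1.trans h2.symm))
    refine (hfe (Subgroup.inclusion le_sup_left x)).trans (h3.trans ?_)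
    exact (L.agree g x).trans (by rw [hgβ])
  · have h1 := (hφe ⟨r, Subgroup.mem_sup_right hr⟩).trans (hcomm r hr)
    exact (hfe ⟨r, Subgroup.mem_sup_right hr⟩).trans (congrArg Subtype.val (L.inj h1))

include hS hD hR in
/-- **Extension fixing a strongly closed subgroup.** -/
theorem fixExt_of_fix {P : Subgroup Ω} (hWP : U ⊓ R ≤ P) (hPU : P ≤ U) {α : MulAut P}
    (hα : α ∈ D.autGroup P) (hco : (orderOf α).Coprime p) (hfix : α ∈ fixAut (U ⊓ R) P) :
    FixExt F R P α := by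
  obtain ⟨⟨hDs, hF, hinv⟩, -⟩ := id hD
  have hU := hinv.2.1
  have hW := stronglyClosed_meet hU hR
  haveI : Finite U := finite_of_le hU.1
  have hUp : IsPGroup p U := isPGroup_of_le hS hU.1
  -- to a fully normalized conjugate
  obtain ⟨Q, f, hQn, hf, hi⟩ := exists_mor_normalizer hS hF (hPU.trans hU.1)
  have hPN : P ≤ normalizerIn S P := le_normalizerIn (hPU.trans hU.1)
  have hQU : Q ≤ U := fun y hy => by
    obtain ⟨x, hx, rfl⟩ := hi.surj hy
    exact mor_apply_mem hU hf (hPN hx) (hPU hx)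
  have hWQ : U ⊓ R ≤ Q := fun y hy => by
    obtain ⟨x, hx, rfl⟩ := (Fusion.im_self hW hf (hWP.trans hPN)).surj hy
    exact hi.mem (hWP hx)
  obtain ⟨e, he, hee⟩ := exists_isoIn hf hPN hi
  refine FixExt.pull hR hf (sup_le hPN (le_normalizerIn_of_between hU hR hWP hPU)) hi hee ?_
  have hb := autGroup_equiv hinv hPU he hα
  have hbco : (orderOf (MulAut.congr e α)).Coprime p := by rwa [MulEquiv.orderOf_eq]
  have hbfix : MulAut.congr e α ∈ fixAut (U ⊓ R) Q := by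
    intro y hy
    obtain ⟨w, rfl⟩ := e.surjective y
    rw [congr_apply_apply]
    refine congrArg e (hfix w ?_)
    obtain ⟨x, hx, hxe⟩ := (Fusion.im_self hW hf (hWP.trans hPN)).surj hy
    rw [hee] at hxe
    exact hf.inj (hPN (hWP hx)) (hPN w.2) hxe ▸ hx
  generalize MulAut.congr e α = b at hb hbco hbfix
  clear hee he e
  -- to `X = Q C_U(Q)`
  have hQfn := fullyNormalized_sub p hS hF hU hinv.1 hQU hQn
  have hQfc := fullyCentralized_of_fullyNormalized p hUp hDs hQfn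
  let X := Q ⊔ centralizerIn U Q
  have hXU : X ≤ U := sup_le hQU (centralizerIn_le_S Q)
  haveI : Finite X := finite_of_le (hXU.trans hU.1)
  haveI : Finite (MulAut X) := finite_mulAut
  have hbD := (autGroup_carrier hQU).1 hb
  obtain ⟨ψ, hψ, hψe⟩ := saturated_extend p hUp hDs hbD
    (by rw [range_subtype_comp]; exact hQfc) (N := X)
    (sup_le (le_extender hbD) (centralizerIn_le_extender Q _))
  have hψm : (Q.subgroupOf X).map ψ = Q :=
    (map_eq_range_of_eq le_sup_left hψe).trans (range_subtype_comp b)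
  have hψr : ψ.range = X := by
    refine eq_of_le_of_card_le hXU ?_ (card_range hψ).ge
    rw [range_eq_sup, hψm]
    refine sup_le_sup_left (fun y hy => ?_) Q
    obtain ⟨w, hw, hwC, rfl⟩ := mem_map_subgroupOf.1 hy
    have h1 := map_mem_centralizerIn hψ (P := Q) le_sup_left hwC hw
    rwa [hψm] at h1
  let β₀ := autOfRange ψ (D.injective_of_mem hψ) hψr
  have hag₀ : Agree le_sup_left β₀ b := fun x => hψe x x.2 _
  obtain ⟨m, hm1, hm2⟩ := ConstrainedNormal.exists_pow_coprime p β₀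
  have hag : Agree le_sup_left (β₀ ^ m) b := by
    have h := hag₀.pow m
    rwa [hm2 b hbco (orderOf_dvd_of_pow_eq_one
      ((hag₀.pow _).eq_one (pow_orderOf_eq_one β₀)))] at h
  refine FixExt.restrict (X := X) ?_ hag
  have hβD : β₀ ^ m ∈ D.autGroup X := pow_mem (autOfRange_mem hψ hψr) m
  have hβfix : β₀ ^ m ∈ fixAut (U ⊓ R) X := fun x hx => Subtype.ext (by
    have h := hag ⟨x, hWQ hx⟩
    rw [hbfix ⟨x, hWQ hx⟩ hx] at h
    exact h)
  generalize β₀ ^ m = β at hβD hβfix hm1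
  have hWX : U ⊓ R ≤ X := hWQ.trans le_sup_left
  have hXfc : D.IsFullyCentralized X := by
    refine ⟨hXU, fun Y hY => ?_⟩
    obtain ⟨φ, hφ, rfl⟩ := hY
    let Y₀ := (Q.subgroupOf X).map φ
    have hc : centralizerIn U φ.range ≤ centralizerIn U Y₀ := fun z hz =>
      ⟨hz.1, fun y hy => hz.2 y (Subgroup.map_le_range _ _ hy)⟩
    obtain ⟨-, hsurj⟩ := card_le_card_map (A := centralizerIn U Q) (B := centralizerIn U Y₀)
      (centralizerIn_le_S Y₀) (D.injective_of_mem hφ) le_sup_right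
      fun g hg => map_mem_centralizerIn hφ le_sup_left hg _
    have hsub : centralizerIn U φ.range ≤ φ.range := fun z hz => by
      obtain ⟨g, hg, hge⟩ := hsurj (hQfc.2 Y₀ (isConj_map hφ le_sup_left)) z (hc hz)
      exact ⟨_, hge⟩
    have key : centralizerIn U φ.range ≤ ((centralizerIn U X).subgroupOf X).map φ := fun z hz => by
      obtain ⟨g, hge⟩ := hsub hz
      refine ⟨g, ⟨hXU g.2, fun y hy => ?_⟩, hge⟩
      have h1 := hz.2 (φ ⟨y, hy⟩) ⟨_, rfl⟩
      rw [← hge, ← map_mul, ← map_mul] at h1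
      exact congrArg Subtype.val (D.injective_of_mem hφ h1)
    have hle : ((centralizerIn U X).subgroupOf X).map φ ≤ U := by
      rintro _ ⟨g, -, rfl⟩
      exact apply_mem_S hφ g
    refine (card_le_of_le hle key).trans ?_
    haveI : Finite (centralizerIn U X) := finite_of_le (centralizerIn_le_S X)
    rw [Subgroup.card_map_of_injective (D.injective_of_mem hφ)]
    exact Nat.card_le_card_of_injective
        (fun w => (⟨((w : X) : Ω), w.2⟩ : centralizerIn U X))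
        fun w w' h => Subtype.ext (Subtype.ext (congrArg Subtype.val h :))
  have hXc : D.IsCentric X := Fusion.isCentric_of_fullyCentralized hXfc fun z hz =>
    Subgroup.mem_sup_right ⟨hz.1, fun y hy => hz.2 y (Subgroup.mem_sup_left hy)⟩
  -- to a fully normalized conjugate of `X`
  obtain ⟨X₂, f₂, hX₂n, hf₂, hi₂⟩ := exists_mor_normalizer hS hF (hXU.trans hU.1)
  have hXN : X ≤ normalizerIn S X := le_normalizerIn (hXU.trans hU.1)
  have hX₂U : X₂ ≤ U := fun y hy => by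
    obtain ⟨x, hx, rfl⟩ := hi₂.surj hy
    exact mor_apply_mem hU hf₂ (hXN hx) (hXU hx)
  have hWX₂ : U ⊓ R ≤ X₂ := fun y hy => by
    obtain ⟨x, hx, rfl⟩ := (Fusion.im_self hW hf₂ (hWX.trans hXN)).surj hy
    exact hi₂.mem (hWX hx)
  have hX₂c : D.IsCentric X₂ := isCentric_of_tcentric hinv.1
    ((tcentric_of_centric hinv hXc).image (hf₂.isConj hXN hi₂) hX₂U)
  obtain ⟨e, he, hee⟩ := exists_isoIn hf₂ hXN hi₂
  refine FixExt.pull hR hf₂ (sup_le hXN (le_normalizerIn_of_between hU hR hWX hXU)) hi₂ hee ?_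
  refine fixExt_centric hS hD hR hX₂n hX₂c hWX₂ (autGroup_equiv hinv hXU he hβD)
    (by rwa [MulEquiv.orderOf_eq]) fun y hy => ?_
  obtain ⟨w, rfl⟩ := e.surjective y
  rw [congr_apply_apply]
  refine congrArg e (hβfix w ?_)
  obtain ⟨x, hx, hxe⟩ := (Fusion.im_self hW hf₂ (hWX.trans hXN)).surj hy
  rw [hee] at hxe
  exact hf₂.inj (hXN (hWX hx)) (hXN w.2) hxe ▸ hx

end CfsgLib.Meet
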