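import Cfsg.Agent.Fusion.Meet.Layer
import Cfsg.Agent.Fusion.GenFitting
import Cfsg.Agent.Fusion.StrongInvariant

/-!
The central product of the core with the layer exists and is normal.
-/

set_option autoImplicit false
set_option linter.style.haveILetI false
set_option linter.unusedSectionVars false

open Cfsg Cfsg.FusionSystem CfsgLib.Fusion CfsgLib.FocCent

namespace CfsgLib.Meet

universe u

variable {Ω : Type u} [Group Ω] {S Q T U : Subgroup Ω} {F : FusionSystem S} {E : FusionSystem T}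
  {D : FusionSystem U} {p : ℕ}

theorem exists_ext_normal (hQn : F.IsNormal Q) {R : Subgroup Ω} {f : Ω → Ω} (hf : Mor F R f) :
    ∃ g, Mor F (R ⊔ Q) g ∧ (∀ x ∈ R, g x = f x) ∧ Im g Q Q := by
  obtain ⟨φ, hφ, hφe⟩ := hf
  obtain ⟨ψ, hψ, he, hm⟩ := hQn.2 R φ hφ
  obtain ⟨g, hg, hge⟩ := Mor.of_mem hψ
  refine ⟨g, hg, fun x hx => (hge ⟨x, Subgroup.mem_sup_left hx⟩).trans ((he ⟨x, hx⟩).trans
    (hφe ⟨x, hx⟩)), fun y => ?_⟩
  conv_lhs => rw [← hm]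
  rw [mem_map_subgroupOf]
  constructor
  · rintro ⟨x, hx, hxQ, rfl⟩
    exact ⟨x, hxQ, hge ⟨x, hx⟩⟩
  · rintro ⟨x, hx, rfl⟩
    exact ⟨x, Subgroup.mem_sup_right hx, hx, (hge ⟨x, Subgroup.mem_sup_right hx⟩).symm⟩

/-- A subgroup of `T` fixed by the subsystem inside a subgroup centralized by it is central. -/
theorem inf_central [Finite S] [Fact p.Prime] (hS : IsPGroup p S) (hE : E.IsWeaklyNormalIn F p)
    (hEQ : ∀ P : Subgroup Ω, E.Hom P ⊆ F.centralizerHom Q P) : E.IsCentral (Q ⊓ T) := by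
  haveI : Finite T := finite_of_le hE.2.2.2.1.1
  refine isCentral_of_fixed p (isPGroup_of_le hS hE.2.2.2.1.1) hE.1 inf_le_right fun x hx y hy => ?_
  obtain ⟨φ, hφ, hφy⟩ := hy
  obtain ⟨-, -, -, ψ, -, he, hf⟩ := hEQ _ hφ
  rw [← hφy, ← he ⟨x, Subgroup.mem_zpowers x⟩]
  exact (apply_congr ψ rfl).trans (hf ⟨x, hx.1⟩)

section existence

variable [Finite S] [Fact p.Prime]

theorem exists_centralProduct (hS : IsPGroup p S) (hQS : Q ≤ S) (hE : E.IsWeaklyNormalIn F p)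
    (hEQ : ∀ P : Subgroup Ω, E.Hom P ⊆ F.centralizerHom Q P) :
    ∃ (U : Subgroup Ω) (D : FusionSystem U), IsCentralProductOf (innerFusionSystem Q) E D := by
  have hTS : T ≤ S := hE.2.2.2.1.1
  have hTC : T ≤ centralizerIn S Q := (hEQ T (subtype_mem le_rfl)).2.1
  have hcomm : ∀ a ∈ Q, ∀ b ∈ T, a * b = b * a := fun a ha b hb => (hTC hb).2 a ha
  haveI : Finite Q := finite_of_le hQS
  haveI : Finite T := finite_of_le hTS
  haveI : Finite (Q.prod T) := Finite.of_equiv _ (Subgroup.prodEquiv Q T).symm.toEquiv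
  let θ : ↥(Q.prod T) →* Ω := MonoidHom.mk' (fun x => (x : Ω × Ω).1 * (x : Ω × Ω).2) fun x y => by
    show (x : Ω × Ω).1 * (y : Ω × Ω).1 * ((x : Ω × Ω).2 * (y : Ω × Ω).2) = _
    calc _ = (x : Ω × Ω).1 * ((y : Ω × Ω).1 * (x : Ω × Ω).2) * (y : Ω × Ω).2 := by group
      _ = _ := by rw [hcomm _ y.2.1 _ x.2.2]; group
  let Z := θ.ker.map (Q.prod T).subtype
  have hk : ∀ s : ↥(Q.prod T), θ s = 1 ↔ (s : Ω × Ω) ∈ Z := fun s =>
    ⟨fun h => ⟨s, h, rfl⟩, fun ⟨t, ht, e⟩ => by rwa [← Subtype.ext e]⟩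
  let D₀ := prodSystem (innerFusionSystem Q) E
  have hprod : IsProductSystem (innerFusionSystem Q) E D₀ := prodSystem_spec _ _
  have hEc := inf_central hS hE hEQ
  have hZ : D₀.IsCentral Z := by
    refine ⟨Subgroup.map_subtype_le _, fun P φ hφ => ?_⟩
    obtain ⟨hP, φ₁, ⟨-, q, hq, hqe⟩, φ₂, hφ₂, hpair⟩ := (hprod P φ).1 hφ
    obtain ⟨ψ₂, hψ₂, he₂, hf₂⟩ := hEc.2 _ φ₂ hφ₂
    have hZm : ∀ w ∈ Z, (w : Ω × Ω).1 ∈ Q ⊓ T ∧ (w : Ω × Ω).2 ∈ Q ⊓ T := by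
      rintro _ ⟨w, hw, rfl⟩
      have h1 : (w : Ω × Ω).1 * (w : Ω × Ω).2 = 1 := hw
      have h2 : (w : Ω × Ω).1 = ((w : Ω × Ω).2)⁻¹ := eq_inv_of_mul_eq_one_left h1
      have h3 : (w : Ω × Ω).2 = ((w : Ω × Ω).1)⁻¹ := eq_inv_of_mul_eq_one_right h1
      refine ⟨⟨w.2.1, ?_⟩, ?_, w.2.2⟩
      · show (w : Ω × Ω).1 ∈ T
        rw [h2]; exact T.inv_mem w.2.2
      · show (w : Ω × Ω).2 ∈ Q
        rw [h3]; exact Q.inv_mem w.2.1
    have hP' : P ⊔ Z ≤ Q.prod (P.map (MonoidHom.snd Ω Ω) ⊔ (Q ⊓ T)) :=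
      sup_le (fun w hw => ⟨(hP hw).1, Subgroup.mem_sup_left (snd_mem_map hw)⟩)
        fun w hw => ⟨(hZm w hw).1.1, Subgroup.mem_sup_right (hZm w hw).2⟩
    obtain ⟨ψ, hψ, hψe⟩ := GenFitting.pair_mem hprod hP' hq hψ₂
    refine ⟨ψ, hψ, fun w => ?_, fun w => ?_⟩
    · rw [hψe, hpair w (fst_mem_map w.2) (snd_mem_map w.2)]
      refine Prod.ext (hqe ⟨(w : Ω × Ω).1, fst_mem_map w.2⟩).symm ?_
      exact (apply_congr ψ₂ rfl).trans (he₂ ⟨_, snd_mem_map w.2⟩)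
    · rw [hψe]
      refine Prod.ext ?_ ((apply_congr ψ₂ rfl).trans (hf₂ ⟨_, (hZm _ w.2).2⟩))
      show q * (w : Ω × Ω).1 * q⁻¹ = _
      rw [hcomm q hq _ (hZm _ w.2).1.2, mul_inv_cancel_right]
  have hZsc := stronglyClosed_of_isNormal (isNormal_of_isCentral hZ)
  refine ⟨θ.range, factorSystem hZsc hk rfl, D₀, hprod, Z, θ, le_center hZ, ?_, ?_,
    fun x hx => mul_one x, fun y hy => one_mul y, factorSystem_spec hZsc hk rfl⟩
  · refine (Subgroup.eq_bot_iff_forall _).2 ?_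
    rintro ⟨a, b⟩ ⟨⟨w, hw, e⟩, -, hb⟩
    obtain rfl : b = 1 := Subgroup.mem_bot.1 hb
    have h1 : (w : Ω × Ω).1 * (w : Ω × Ω).2 = 1 := hw
    rw [show (w : Ω × Ω) = (a, 1) from e] at h1
    exact Prod.ext (by simpa using h1) rfl
  · refine (Subgroup.eq_bot_iff_forall _).2 ?_
    rintro ⟨a, b⟩ ⟨⟨w, hw, e⟩, ha, -⟩
    obtain rfl : a = 1 := Subgroup.mem_bot.1 ha
    have h1 : (w : Ω × Ω).1 * (w : Ω × Ω).2 = 1 := hw
    rw [show (w : Ω × Ω) = (1, b) from e] at h1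
    exact Prod.ext rfl (by simpa using h1)

end existence

/-! ### Maps of the central product -/

section maps

variable {D₀ : FusionSystem (Q.prod T)} {Z : Subgroup (Ω × Ω)} {θ : ↥(Q.prod T) →* Ω}
  (hprod : IsProductSystem (innerFusionSystem Q) E D₀)
  (hθ₁ : ∀ (x : Ω) (hx : ((x, 1) : Ω × Ω) ∈ Q.prod T), θ ⟨(x, 1), hx⟩ = x)
  (hθ₂ : ∀ (y : Ω) (hy : ((1, y) : Ω × Ω) ∈ Q.prod T), θ ⟨(1, y), hy⟩ = y)
  (hZ : Z ≤ D₀.center) (hfac : D₀.IsFactorSystem Z θ D)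

include hθ₁ hθ₂ in
theorem theta_pair {a b : Ω} (h : ((a, b) : Ω × Ω) ∈ Q.prod T) : θ ⟨(a, b), h⟩ = a * b :=
  GenFitting.theta_apply hθ₁ hθ₂ _

include hθ₁ hθ₂ in
theorem theta_comm {a b : Ω} (ha : a ∈ Q) (hb : b ∈ T) : a * b = b * a := by
  have h1 := map_mul θ (⟨((1 : Ω), b), one_mem _, hb⟩ : ↥(Q.prod T)) ⟨(a, (1 : Ω)), ha, one_mem _⟩
  simp only [GenFitting.theta_apply hθ₁ hθ₂] at h1
  simpa using h1

include hθ₁ hθ₂ hfac in
theorem exists_ab {x : Ω} (hx : x ∈ U) : ∃ a ∈ Q, ∃ b ∈ T, x = a * b := by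
  obtain ⟨w, rfl⟩ := hfac.2.2.1.ge hx
  exact ⟨_, w.2.1, _, w.2.2, GenFitting.theta_apply hθ₁ hθ₂ w⟩

include hθ₁ hθ₂ hfac in
theorem ab_mem {a b : Ω} (ha : a ∈ Q) (hb : b ∈ T) : a * b ∈ U :=
  mul_mem (GenFitting.core_le hθ₁ hfac ha) (GenFitting.layer_le hθ₂ hfac hb)

include hprod hθ₁ hθ₂ hfac in
theorem map_cases {P' : Subgroup Ω} {φ' : P' →* Ω} (hφ' : φ' ∈ D.Hom P') :
    ∃ q ∈ Q, ∃ (B : Subgroup Ω) (φ₂ : B →* Ω), φ₂ ∈ E.Hom B ∧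
      (∀ b ∈ B, b ∈ T ∧ ∃ a ∈ Q, a * b ∈ P') ∧
      ∀ a ∈ Q, ∀ b ∈ T, ∀ h : a * b ∈ P', ∃ hb : b ∈ B,
        φ' ⟨a * b, h⟩ = q * a * q⁻¹ * φ₂ ⟨b, hb⟩ := by
  obtain ⟨-, φ, hφ, hi, q, hq, φ₂, hφ₂, hw⟩ := GenFitting.hom_cases hprod hθ₁ hθ₂ hfac hφ'
  refine ⟨q, hq, _, φ₂, hφ₂, ?_, fun a ha b hb h => ?_⟩
  · rintro _ ⟨⟨a, b⟩, hw', rfl⟩
    obtain ⟨hab, hm⟩ := mem_preimg.1 hw'
    exact ⟨hab.2, a, hab.1, theta_pair hθ₁ hθ₂ hab ▸ hm⟩
  · have hwP : ((a, b) : Ω × Ω) ∈ preimg θ P' :=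
      mem_preimg.2 ⟨⟨ha, hb⟩, (theta_pair hθ₁ hθ₂ _).symm ▸ h⟩
    refine ⟨snd_mem_map hwP, ?_⟩
    have e := induced_apply hi ⟨_, hwP⟩ (hP := ⟨ha, hb⟩) (hφ := apply_mem_S hφ _)
      (hP' := (theta_pair hθ₁ hθ₂ _).symm ▸ h)
    refine ((apply_congr φ' (theta_pair hθ₁ hθ₂ (⟨ha, hb⟩ : ((a, b) : Ω × Ω) ∈ Q.prod T)).symm).trans
      e).trans ?_
    rw [GenFitting.theta_apply hθ₁ hθ₂, (hw _).1, (hw _).2]

include hprod hθ₁ hθ₂ hZ hfac in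
theorem map_mk [Finite (Q.prod T)] {P' : Subgroup Ω} (hP' : P' ≤ U) {q : Ω} (hq : q ∈ Q)
    {B : Subgroup Ω} {φ₂ : B →* Ω} (hφ₂ : φ₂ ∈ E.Hom B)
    (hB : ∀ a ∈ Q, ∀ b ∈ T, a * b ∈ P' → b ∈ B) :
    ∃ φ' ∈ D.Hom P', ∀ a ∈ Q, ∀ (b : Ω) (hb : b ∈ B) (h : a * b ∈ P'),
      φ' ⟨a * b, h⟩ = q * a * q⁻¹ * φ₂ ⟨b, hb⟩ := by
  have hZsc := stronglyClosed_of_isNormal
    (isNormal_of_isCentral (isCentral_mono isCentral_center hZ))
  have hle : preimg θ P' ≤ Q.prod B := by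
    rintro ⟨a, b⟩ hw
    obtain ⟨hab, hm⟩ := mem_preimg.1 hw
    exact ⟨hab.1, hB a hab.1 b hab.2 (theta_pair hθ₁ hθ₂ hab ▸ hm)⟩
  obtain ⟨φ, hφ, hφe⟩ := GenFitting.pair_mem hprod hle hq hφ₂
  obtain ⟨φ', hφ', hi⟩ := exists_factor_hom hZsc hfac hφ (factor_preimg_le hfac P')
    (img_preimg (hP'.trans hfac.2.2.1.ge))
  refine ⟨φ', hφ', fun a ha b hb h => ?_⟩
  have hbT : b ∈ T := le_of_mem_hom hφ₂ hb
  have hwP : ((a, b) : Ω × Ω) ∈ preimg θ P' :=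
    mem_preimg.2 ⟨⟨ha, hbT⟩, (theta_pair hθ₁ hθ₂ _).symm ▸ h⟩
  have e := induced_apply hi ⟨_, hwP⟩ (hP := ⟨ha, hbT⟩) (hφ := apply_mem_S hφ _)
    (hP' := (theta_pair hθ₁ hθ₂ _).symm ▸ h)
  refine ((apply_congr φ' (theta_pair hθ₁ hθ₂ (⟨ha, hbT⟩ : ((a, b) : Ω × Ω) ∈ Q.prod T)).symm).trans
    e).trans ?_
  rw [GenFitting.theta_apply hθ₁ hθ₂]
  simp only [hφe]

variable [Finite S] [Fact p.Prime] (hS : IsPGroup p S) (hQn : F.IsNormal Q)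
  (hEn : E.IsNormalIn F p) (hEQ : ∀ P : Subgroup Ω, E.Hom P ⊆ F.centralizerHom Q P)

include hθ₁ hθ₂ hfac hQn hEn in
theorem stronglyClosed_product : F.StronglyClosed U := by
  have hQU := GenFitting.core_le hθ₁ hfac
  refine ⟨GenFitting.le_of_both hθ₁ hθ₂ hfac hQn.1 hEn.1.2.2.2.1.1, fun R hR φ hφ x => ?_⟩
  obtain ⟨f, hf, hfe⟩ := Mor.of_mem hφ
  obtain ⟨g, hg, hge, hgQ⟩ := exists_ext_normal hQn hf
  obtain ⟨a, ha, b, hb, hab⟩ := exists_ab hθ₁ hθ₂ hfac (hR x.2)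
  have hbR : b ∈ R ⊔ Q := by
    have h1 : b = a⁻¹ * (x : Ω) := by rw [hab, inv_mul_cancel_left]
    rw [h1]
    exact mul_mem (inv_mem (Subgroup.mem_sup_right ha)) (Subgroup.mem_sup_left x.2)
  rw [← hfe, ← hge x x.2, hab, hg.map_mul (Subgroup.mem_sup_right ha) hbR]
  exact ab_mem hθ₁ hθ₂ hfac (hgQ.mem ha) (mor_apply_mem hEn.1.2.2.2.1 hg hbR hb)

include hprod hθ₁ hθ₂ hZ hfac hS hQn hEn hEQ in
theorem stronglyInvariant_product : StronglyInvariant F D := by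
  intro P C hPC hCU φ hφ hφC ψ hψ
  have hT := hEn.1.2.2.2.1
  haveI : Finite Q := finite_of_le hQn.1
  haveI : Finite T := finite_of_le hT.1
  haveI : Finite (Q.prod T) := Finite.of_equiv _ (Subgroup.prodEquiv Q T).symm.toEquiv
  obtain ⟨f, hf, hfe⟩ := Mor.of_mem hψ
  obtain ⟨g, hg, hge, hgQ⟩ := exists_ext_normal hQn hf
  obtain ⟨q, hq, B, φ₂, hφ₂, hB, hφe⟩ := map_cases hprod hθ₁ hθ₂ hfac hφ
  let C₀ : Subgroup Ω := (C ⊔ Q) ⊓ T
  have hQC : ∀ {a : Ω}, a ∈ Q → a ∈ C ⊔ Q := fun h => Subgroup.mem_sup_right h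
  have hBC : B ≤ C₀ := by
    intro b hb
    obtain ⟨hbT, a, ha, hab⟩ := hB b hb
    refine ⟨?_, hbT⟩
    have := mul_mem (inv_mem (hQC ha)) (Subgroup.mem_sup_left (T := Q) (hPC hab))
    rwa [inv_mul_cancel_left] at this
  have hφ₂C : ∀ b : B, φ₂ b ∈ C₀ := by
    rintro ⟨b, hb⟩
    obtain ⟨hbT, a, ha, hab⟩ := hB b hb
    obtain ⟨hb', he⟩ := hφe a ha b hbT hab
    refine ⟨?_, apply_mem_S hφ₂ _⟩
    have := mul_mem (inv_mem (hQC (mul_mem (mul_mem hq ha) (Q.inv_mem hq))))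
      (Subgroup.mem_sup_left (T := Q) (hφC ⟨a * b, hab⟩))
    rw [he, inv_mul_cancel_left] at this
    exact this
  obtain ⟨ψ₀, hψ₀, hψ₀e⟩ := hg.mono (W := C₀) inf_le_left
  obtain ⟨χ₂, hχ₂, hχ₂e⟩ := invariant_conj hEn.1.2.2 hBC inf_le_right hφ₂ hφ₂C hψ₀
  have hPU : P ≤ U := hPC.trans hCU
  have hψU : (P.subgroupOf C).map ψ ≤ U := by
    rintro _ ⟨x, -, rfl⟩
    exact (stronglyClosed_product hθ₁ hθ₂ hfac hQn hEn).2 C hCU ψ hψ x
  have hI : Im g (Q ⊓ T) (Q ⊓ T) := by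
    refine im_self hg (fun x hx => hQC hx.1) fun x hx => ⟨hgQ.mem hx.1, ?_⟩
    exact mor_apply_mem hT hg (hQC hx.1) hx.2
  -- the coordinates of an element of the image
  have hcoord : ∀ (a' : Ω), a' ∈ Q → ∀ b' ∈ T, a' * b' ∈ (P.subgroupOf C).map ψ →
      b' ∈ (B.subgroupOf C₀).map ψ₀ := by
    intro a' ha' b' hb' hm
    obtain ⟨x, hx, hxP, hxe⟩ := mem_map_subgroupOf.1 hm
    obtain ⟨a, ha, b, hb, hab⟩ := exists_ab hθ₁ hθ₂ hfac (hCU hx)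
    obtain ⟨hbB, -⟩ := hφe a ha b hb (hab ▸ hxP)
    have hbC := (hBC hbB).1
    have hgx : g a * g b = a' * b' := by
      rw [← hg.map_mul (hQC ha) hbC, ← hab, hge x hx, hfe ⟨x, hx⟩, hxe]
    have hz : a'⁻¹ * g a ∈ Q ⊓ T := by
      refine ⟨mul_mem (Q.inv_mem ha') (hgQ.mem ha), ?_⟩
      have : a'⁻¹ * g a = b' * (g b)⁻¹ := by
        rw [eq_mul_inv_iff_mul_eq, mul_assoc, hgx, inv_mul_cancel_left]
      rw [this]
      exact mul_mem hb' (T.inv_mem (mor_apply_mem hT hg hbC hb))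
    obtain ⟨z, hzm, hze⟩ := hI.surj hz
    have hab' : a * z⁻¹ * (z * b) ∈ P := by
      rw [show a * z⁻¹ * (z * b) = a * b by group, ← hab]
      exact hxP
    obtain ⟨hzb, -⟩ := hφe (a * z⁻¹) (mul_mem ha (Q.inv_mem hzm.1)) (z * b) (mul_mem hzm.2 hb) hab'
    refine mem_map_subgroupOf.2 ⟨z * b, hBC hzb, hzb, ?_⟩
    rw [hψ₀e, hg.map_mul (hQC hzm.1) hbC, hze]
    rw [show b' = a'⁻¹ * (a' * b') by group, ← hgx]
    group
  obtain ⟨χ, hχ, hχe⟩ := map_mk hprod hθ₁ hθ₂ hZ hfac hψU (hgQ.mem hq) hχ₂ hcoord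
  refine ⟨χ, hχ, fun x hx => ?_⟩
  obtain ⟨a, ha, b, hb, hab⟩ := exists_ab hθ₁ hθ₂ hfac (hPU x.2)
  obtain ⟨hbB, hφx⟩ := hφe a ha b hb (hab ▸ x.2)
  have hbC := (hBC hbB).1
  have e1 : ψ (Subgroup.inclusion hPC x) = g a * g b := by
    rw [← hfe (Subgroup.inclusion hPC x)]
    show f (x : Ω) = _
    rw [← hge _ (hPC x.2), hab, hg.map_mul (hQC ha) hbC]
  have hgb : g b ∈ (B.subgroupOf C₀).map ψ₀ :=
    mem_map_subgroupOf.2 ⟨b, hBC hbB, hbB, hψ₀e _⟩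
  refine ((apply_congr χ e1).trans (hχe (g a) (hgQ.mem ha) (g b) hgb (e1 ▸ hx))).trans ?_
  have e2 : χ₂ ⟨g b, hgb⟩ = g (φ₂ ⟨b, hbB⟩) := by
    have hb0 : ψ₀ (Subgroup.inclusion hBC ⟨b, hbB⟩) = g b := hψ₀e _
    exact ((apply_congr χ₂ hb0.symm).trans
      (hχ₂e ⟨b, hbB⟩ (hb0.symm ▸ hgb))).trans (hψ₀e ⟨_, hφ₂C ⟨b, hbB⟩⟩)
  rw [e2, ← hfe ⟨φ x, hφC x⟩]
  show _ = f (φ x)
  rw [← hge _ (hφC x), show φ x = φ ⟨a * b, hab ▸ x.2⟩ from apply_congr φ hab, hφx,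
    hg.map_mul (hQC (mul_mem (mul_mem hq ha) (Q.inv_mem hq))) (hφ₂C ⟨b, hbB⟩).1,
    hg.map_conj (hQC hq) (hQC ha)]

/-- An automorphism of `p`-power order of the whole group is inner. -/
theorem pElement_inner {V : Subgroup Ω} [Finite V] {G : FusionSystem V} (hV : IsPGroup p V)
    (hG : G.IsSaturated p) {y : MulAut V} (hy : y ∈ G.autGroup V) {k : ℕ} (hp : y ^ p ^ k = 1) :
    ∃ w ∈ V, ∀ v : V, ((y v : V) : Ω) = w * v * w⁻¹ := by
  haveI : Finite (MulAut V) := finite_mulAut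
  obtain ⟨⟨-, R, hR⟩, -⟩ := good_of_fullyNormalized p hV hG (isFullyNormalized_S (S := V))
  have hn : (R : Subgroup (G.autGroup V)).Normal := by
    rw [hR, ← inn_eq_autInducedBy]
    exact inn_subgroupOf_normal V
  obtain ⟨R', hR'⟩ := (isPGroup_zpowers (p := p) (k := k)
    (x := (⟨y, hy⟩ : G.autGroup V)) (Subtype.ext hp)).exists_le_sylow
  obtain ⟨g, hg⟩ := MulAction.exists_smul_eq (G.autGroup V) R R'
  haveI := hn
  rw [Sylow.smul_eq_of_normal (g := g) (P := R)] at hg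
  have h1 := hR' (Subgroup.mem_zpowers _)
  rw [← hg, hR] at h1
  exact mem_autInducedBy.1 (Subgroup.mem_subgroupOf.1 h1)

/-- The automorphism extends to `U C_S(U)` fixing `Q` and trivially modulo `Z(U)`. -/
def GoodE (F : FusionSystem S) (Q T U : Subgroup Ω) (e : MulAut T) : Prop :=
  ∃ β ∈ F.autGroup (U ⊔ centralizerIn S U),
    (∀ v : ↥(U ⊔ centralizerIn S U), (v : Ω) ∈ Q → β v = v) ∧
    (∀ (b : T) (v : ↥(U ⊔ centralizerIn S U)), (v : Ω) = b → ((β v : ↥(U ⊔ centralizerIn S U)) : Ω) =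
      ((e b : T) : Ω)) ∧
    ∀ v : ↥(U ⊔ centralizerIn S U), (v : Ω) ∈ centralizerIn S U →
      (v : Ω)⁻¹ * ((β v : ↥(U ⊔ centralizerIn S U)) : Ω) ∈ U ⊓ Subgroup.centralizer (U : Set Ω)

theorem goodE_mul (hUS : U ≤ S) (hTU : T ≤ U) {e₁ e₂ : MulAut T} (h₁ : GoodE F Q T U e₁)
    (h₂ : GoodE F Q T U e₂) : GoodE F Q T U (e₁ * e₂) := by
  obtain ⟨β₁, hβ₁, hQ₁, hT₁, hd₁⟩ := h₁
  obtain ⟨β₂, hβ₂, hQ₂, hT₂, hd₂⟩ := h₂
  refine ⟨β₁ * β₂, mul_mem hβ₁ hβ₂, fun v hv => ?_, fun b v hv => ?_, fun v hv => ?_⟩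
  · rw [MulAut.mul_apply, hQ₂ v hv, hQ₁ v hv]
  · exact hT₁ (e₂ b) (β₂ v) (hT₂ b v hv)
  · let d := (v : Ω)⁻¹ * ((β₂ v : ↥(U ⊔ centralizerIn S U)) : Ω)
    have hd : ((β₂ v : ↥(U ⊔ centralizerIn S U)) : Ω) ∈ centralizerIn S U := by
      have h := (centralizerIn S U).mul_mem hv
        (⟨hUS (hd₂ v hv).1, (hd₂ v hv).2⟩ : d ∈ centralizerIn S U)
      rwa [mul_inv_cancel_left] at h
    have h := mul_mem (hd₂ v hv) (hd₁ (β₂ v) hd)
    rw [MulAut.mul_apply]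
    simpa [mul_assoc] using h

include hθ₁ hθ₂ hfac hS hQn hEn hEQ in
theorem goodE_all {e : MulAut T} (he : e ∈ E.autGroup T) : GoodE F Q T U e := by
  have hT := hEn.1.2.2.2.1
  have hTS : T ≤ S := hT.1
  have hQU := GenFitting.core_le hθ₁ hfac
  have hTU := GenFitting.layer_le hθ₂ hfac
  have hUS : U ≤ S := GenFitting.le_of_both hθ₁ hθ₂ hfac hQn.1 hTS
  have hUn := stronglyClosed_product hθ₁ hθ₂ hfac hQn hEn
  haveI : Finite T := finite_of_le hTS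
  haveI : Finite (MulAut T) := finite_mulAut
  let V := U ⊔ centralizerIn S U
  have hVS : V ≤ S := sup_le hUS (centralizerIn_le_S U)
  haveI : Finite V := finite_of_le hVS
  obtain ⟨i, j, hi, ⟨k, hk⟩, hij⟩ := exists_parts p e
  rw [← hij]
  refine goodE_mul hUS hTU ?_ ?_
  · obtain ⟨t, ht, hte⟩ := pElement_inner (isPGroup_of_le hS hTS) hEn.1.1 (pow_mem he j) hk
    refine ⟨conjAut S V ⟨t, hTS ht, Subgroup.le_normalizer (Subgroup.mem_sup_left (hTU ht))⟩,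
      autInducedBy_le_autGroup hVS (mem_autInducedBy.2 ⟨t, hTS ht, fun _ => rfl⟩),
      fun v hv => Subtype.ext ?_, fun b v hv => ?_, fun v hv => ?_⟩
    · show t * (v : Ω) * t⁻¹ = v
      rw [← theta_comm hθ₁ hθ₂ hv ht, mul_inv_cancel_right]
    · show t * (v : Ω) * t⁻¹ = _
      rw [hte b, hv]
    · show (v : Ω)⁻¹ * (t * (v : Ω) * t⁻¹) ∈ _
      rw [hv.2 t (hTU ht), mul_inv_cancel_right, inv_mul_cancel]
      exact one_mem _
  let W := T ⊔ centralizerIn S T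
  have hWS : W ≤ S := sup_le hTS (centralizerIn_le_S T)
  haveI : Finite W := finite_of_le hWS
  haveI : Finite (MulAut W) := finite_mulAut
  obtain ⟨β, hβ, hβe, hβd⟩ := hEn.2 (e ^ i) (pow_mem he i)
  obtain ⟨n, hn1, hn2⟩ := ConstrainedNormal.exists_pow_coprime p β
  have hβe' : Agree (le_sup_left : T ≤ W) β (e ^ i) := hβe
  have hne : (e ^ i) ^ n = e ^ i :=
    hn2 _ hi (orderOf_dvd_of_pow_eq_one ((hβe'.pow _).eq_one (pow_orderOf_eq_one β)))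
  have hb : Agree (le_sup_left : T ≤ W) (β ^ n) (e ^ i) := by
    have h := hβe'.pow n
    rwa [hne] at h
  have hbd : ∀ v : W, (v : Ω) ∈ centralizerIn S T →
      (v : Ω)⁻¹ * (((β ^ n) v : W) : Ω) ∈ T ⊓ Subgroup.centralizer (T : Set Ω) := by
    clear hne hb hn1 hn2
    induction n with
    | zero => intro v _; simp
    | succ n ih =>
      intro v hv
      have := mul_mem (hβd v hv) (ih (β v) (map_cent hβe' hWS hv))
      simpa [pow_succ, mul_assoc] using this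
  have hQC : Q ≤ centralizerIn S T := fun a ha =>
    ⟨hQn.1 ha, fun b hb => (theta_comm hθ₁ hθ₂ ha hb).symm⟩
  have hQW : Q ≤ W := hQC.trans le_sup_right
  have hEc := inf_central hS hEn.1 hEQ
  have hQfix : ∀ v : W, (v : Ω) ∈ Q → (β ^ n) v = v := by
    intro v hv
    let d : W := v⁻¹ * (β ^ n) v
    have hdT : (d : Ω) ∈ T := (hbd v (hQC hv)).1
    have hdQ : (d : Ω) ∈ Q := mul_mem (Q.inv_mem hv) (map_mem_of_stronglyClosed
      (stronglyClosed_of_isNormal hQn) ((autGroup_carrier hWS).1 (pow_mem hβ n)) (x := v) hv)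
    have hfix : (β ^ n) d = d := by
      refine Subtype.ext ((hb ⟨_, hdT⟩).trans ?_)
      exact isCentral_fix hEc ((autGroup_carrier le_rfl).1 (pow_mem he i)) ⟨_, hdT⟩ ⟨hdQ, hdT⟩
    have hm : ∀ m : ℕ, ((β ^ n) ^ m) v = v * d ^ m := by
      intro m
      induction m with
      | zero => simp
      | succ m ih =>
        rw [pow_succ', MulAut.mul_apply, ih, map_mul, map_pow, hfix,
          show (β ^ n) v = v * d by simp [d], pow_succ', mul_assoc]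
    have h1 : d ^ orderOf (β ^ n) = 1 := by
      have := hm (orderOf (β ^ n))
      rw [pow_orderOf_eq_one, MulAut.one_apply] at this
      simpa using this.symm
    obtain ⟨l, hl⟩ := (isPGroup_of_le hS hWS) d
    have hd1 : d = 1 := orderOf_eq_one_iff.1 (Nat.eq_one_of_dvd_coprimes (hn1.pow_right l)
      (orderOf_dvd_of_pow_eq_one h1) (orderOf_dvd_of_pow_eq_one hl))
    have : v⁻¹ * (β ^ n) v = 1 := hd1
    exact (inv_mul_eq_one.1 this).symm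
  have hUW : U ≤ W := fun x hx => by
    obtain ⟨a, ha, b, hb', rfl⟩ := exists_ab hθ₁ hθ₂ hfac hx
    exact mul_mem (hQW ha) (Subgroup.mem_sup_left hb')
  have hVW : V ≤ W := sup_le hUW ((NormCent.centralizerIn_anti hTU).trans le_sup_right)
  obtain ⟨f, hf, -, hfe⟩ := exists_mor_of_aut hWS (pow_mem hβ n)
  have hfU : ∀ x ∈ U, f x ∈ U := fun x hx => mor_apply_mem hUn hf (hUW hx) hx
  obtain ⟨αU, -, hαUe⟩ := exists_aut_of_self hf hUW hfU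
  obtain ⟨γ, hγ⟩ := exists_agree hVW (β ^ n) fun x hx => by
    obtain ⟨u, hu, c, hc, hv⟩ := NormExt.exists_mul_sup hx
    rw [← hfe, hv, hf.map_mul (hUW hu) (hVW (Subgroup.mem_sup_right hc))]
    refine mul_mem (Subgroup.mem_sup_left (hfU u hu)) (Subgroup.mem_sup_right ?_)
    have hag : Agree hUW (β ^ n) αU := fun y => (hfe _).symm.trans (hαUe y).symm
    have h := map_cent hag hWS (x := ⟨c, hVW (Subgroup.mem_sup_right hc)⟩) hc
    rwa [← hfe] at h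
  refine ⟨γ, hγ.mem hWS (pow_mem hβ n), fun v hv => Subtype.ext ?_, fun b v hv => ?_, fun v hv => ?_⟩
  · rw [← hγ v, hQfix _ hv]
    rfl
  · rw [← hγ v, show Subgroup.inclusion hVW v = Subgroup.inclusion le_sup_left b from Subtype.ext hv]
    exact hb b
  · rw [← hγ v]
    have h := hbd (Subgroup.inclusion hVW v) (NormCent.centralizerIn_anti hTU hv)
    refine ⟨hTU h.1, fun u hu => ?_⟩
    obtain ⟨a, ha, b, hb', rfl⟩ := exists_ab hθ₁ hθ₂ hfac hu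
    have h2 := h.2 b hb'
    have h3 := theta_comm hθ₁ hθ₂ ha h.1
    simp only [Subgroup.coe_inclusion] at h2 h3
    rw [mul_assoc, h2, ← mul_assoc, h3, mul_assoc]

include hprod hθ₁ hθ₂ hZ hfac hS hQn hEn hEQ in
theorem product_normal : D.IsNormalIn F p := by
  have hT := hEn.1.2.2.2.1
  have hTS : T ≤ S := hT.1
  haveI : Finite Q := finite_of_le hQn.1
  haveI : Finite T := finite_of_le hTS
  haveI : Finite (Q.prod T) := Finite.of_equiv _ (Subgroup.prodEquiv Q T).symm.toEquiv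
  have hQU := GenFitting.core_le hθ₁ hfac
  have hTU := GenFitting.layer_le hθ₂ hfac
  have hUn := stronglyClosed_product hθ₁ hθ₂ hfac hQn hEn
  have hDF : D.IsSubsystemOf F := GenFitting.hom_le hprod hθ₁ hθ₂ hfac hQn.1 hEQ
  have hZsc := stronglyClosed_of_isNormal
    (isNormal_of_isCentral (isCentral_mono isCentral_center hZ))
  have hPp : IsPGroup p (Q.prod T) := by
    obtain ⟨a, ha⟩ := IsPGroup.iff_card.1 (isPGroup_of_le hS hQn.1)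
    obtain ⟨b, hb⟩ := IsPGroup.iff_card.1 (isPGroup_of_le hS hTS)
    refine IsPGroup.of_card (n := a + b) ?_
    rw [Nat.card_congr (Subgroup.prodEquiv Q T).toEquiv, Nat.card_prod, ha, hb, pow_add]
  have hDs : D.IsSaturated p := factor_saturated hZsc hfac p hPp
    (product_saturated p hprod (innerSystem_saturated p (isPGroup_of_le hS hQn.1)) hEn.1.1)
  have hsi := stronglyInvariant_product hprod hθ₁ hθ₂ hZ hfac hS hQn hEn hEQ
  refine ⟨⟨hDs, hEn.1.2.1, hDF, hUn, fun P hP φ hφ α hα => ?_,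
    fun P hP φ hφ => splits_of_stronglyInvariant hDF hsi p hS hEn.1.2.1 hUn P hP φ hφ⟩,
    fun α hα => ?_⟩
  · obtain ⟨χ, hχ, hχe⟩ := exists_aut_conj hDF hsi hα hφ
    exact ⟨χ, hχ, fun x _ hx => hχe x hx⟩
  -- the extension condition
  obtain ⟨q, hq, B, φ₂, hφ₂, hB, hφe⟩ := map_cases hprod hθ₁ hθ₂ hfac ((autGroup_carrier le_rfl).1 hα)
  obtain rfl : T = B := by
    refine le_antisymm (fun b hb => ?_) fun b hb => (hB b hb).1
    exact (hφe 1 (one_mem _) b hb (by rw [one_mul]; exact hTU hb)).1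
  have hr : φ₂.range = T := by
    refine eq_of_le_of_card_le hTS ?_ (card_range hφ₂).ge
    rintro _ ⟨x, rfl⟩
    exact apply_mem_S hφ₂ x
  obtain ⟨β, hβ, hβQ, hβT, hβd⟩ := goodE_all hθ₁ hθ₂ hfac hS hQn hEn hEQ
    (autOfRange_mem hφ₂ hr)
  let V := U ⊔ centralizerIn S U
  have hUS : U ≤ S := hUn.1
  have hVS : V ≤ S := sup_le hUS (centralizerIn_le_S U)
  have hqV : q ∈ normalizerIn S V :=
    ⟨hQn.1 hq, Subgroup.le_normalizer (Subgroup.mem_sup_left (hQU hq))⟩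
  refine ⟨conjAut S V ⟨q, hqV⟩ * β,
    mul_mem (autInducedBy_le_autGroup hVS (mem_autInducedBy.2 ⟨q, hQn.1 hq, fun _ => rfl⟩)) hβ,
    fun x => ?_, fun c hc => ?_⟩
  · obtain ⟨a, ha, b, hb, hab⟩ := exists_ab hθ₁ hθ₂ hfac x.2
    obtain ⟨_, he⟩ := hφe a ha b hb (hab ▸ x.2)
    have e1 : ((α x : U) : Ω) = q * a * q⁻¹ * φ₂ ⟨b, hb⟩ := by
      rw [← he]
      exact apply_congr (U.subtype.comp α.toMonoidHom) hab
    have haV : a ∈ V := Subgroup.mem_sup_left (hQU ha)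
    have hbV : b ∈ V := Subgroup.mem_sup_left (hTU hb)
    rw [e1, MulAut.mul_apply, show Subgroup.inclusion le_sup_left x = (⟨a, haV⟩ : V) * ⟨b, hbV⟩ from
      Subtype.ext hab, map_mul, hβQ ⟨a, haV⟩ ha]
    show q * (a * ((β ⟨b, hbV⟩ : V) : Ω)) * q⁻¹ = _
    rw [hβT ⟨b, hb⟩ ⟨b, hbV⟩ rfl]
    show q * (a * φ₂ ⟨b, hb⟩) * q⁻¹ = _
    have hc : q⁻¹ * φ₂ ⟨b, hb⟩ = φ₂ ⟨b, hb⟩ * q⁻¹ :=
      theta_comm hθ₁ hθ₂ (Q.inv_mem hq) (apply_mem_S hφ₂ _)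
    calc q * (a * φ₂ ⟨b, hb⟩) * q⁻¹ = q * a * (φ₂ ⟨b, hb⟩ * q⁻¹) := by group
      _ = q * a * q⁻¹ * φ₂ ⟨b, hb⟩ := by rw [← hc]; group
  · have h := hβd c hc
    have hβC : ((β c : V) : Ω) ∈ centralizerIn S U := by
      have h' := (centralizerIn S U).mul_mem hc
        (⟨hUS h.1, h.2⟩ : (c : Ω)⁻¹ * ((β c : V) : Ω) ∈ centralizerIn S U)
      rwa [mul_inv_cancel_left] at h'
    show (c : Ω)⁻¹ * (q * ((β c : V) : Ω) * q⁻¹) ∈ _
    rwa [hβC.2 q (hQU hq), mul_inv_cancel_right]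

end maps

/-- **The generalized Fitting subsystem exists and is normal.** -/
theorem genFitting_exists_normal [Finite S] [Fact p.Prime] (hS : IsPGroup p S)
    (hF : F.IsSaturated p) :
    (∃ (U : Subgroup Ω) (D : FusionSystem U), D.IsGeneralizedFittingOf F p) ∧
      ∀ (U : Subgroup Ω) (D : FusionSystem U), D.IsGeneralizedFittingOf F p →
        D.IsNormalIn F p := by
  have hQ : F.IsNormal F.core := isNormal_core
  have hEQ : ∀ {T : Subgroup Ω} {E : FusionSystem T}, E.IsLayerOf F p →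
      ∀ P : Subgroup Ω, E.Hom P ⊆ F.centralizerHom F.core P := fun hE P =>
    hE.2.2 _ _ (CoreComp.centSystem_normal p hS hF hQ)
      (fun V C hC R => CoreComp.quasisimple_centralizes p hS hC.1 hC.2 hQ R) P
  refine ⟨?_, fun U D hD => ?_⟩
  · obtain ⟨T, E, hE⟩ := exists_layer hS hF
    obtain ⟨U, D, hD⟩ := exists_centralProduct hS hQ.1 hE.1.1 (hEQ hE)
    exact ⟨U, D, T, E, hE, hD⟩
  · obtain ⟨T, E, hE, D₀, hprod, Z, θ, hZ, -, -, hθ₁, hθ₂, hfac⟩ := hD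
    exact product_normal hprod hθ₁ hθ₂ hZ hfac hS hQ hE.1 (hEQ hE)

end CfsgLib.Meet
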