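import Cfsg.Agent.Fusion.Meet.InvMap
import Cfsg.Agent.Fusion.GroupSystem

/-!
The system over `R` generated by an invariant family: twisting, splitting, and extensions inside a
member in which the automorphisms induced by `R` are Sylow.
-/

set_option autoImplicit false
set_option linter.style.haveILetI false
set_option linter.unusedSectionVars false
set_option maxHeartbeats 1000000

open Cfsg Cfsg.FusionSystem CfsgLib.Fusion CfsgLib.FocCent CfsgLib.NormCent CfsgLib.NormExt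

namespace CfsgLib.Meet

variable {Ω : Type*} [Group Ω] {S R : Subgroup Ω} {F : FusionSystem S} {p : ℕ}
  {A : ∀ P : Subgroup Ω, Subgroup (MulAut P)}

/-- The system over `R` generated by the family. -/
def genSystem (F : FusionSystem S) (A : ∀ P : Subgroup Ω, Subgroup (MulAut P)) {R : Subgroup Ω}
    (hR : F.StronglyClosed R) : FusionSystem R where
  Hom P := {φ | P ≤ R ∧ φ ∈ F.Hom P ∧ ∀ G : FusionSystem R,
    (∀ (Q : Subgroup Ω) (a : MulAut Q), SelfCentralizingIn F R Q → a ∈ A Q →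
      Q.subtype.comp a.toMonoidHom ∈ G.Hom Q) → φ ∈ G.Hom P}
  le_of_mem h := ⟨h.1, fun x => map_mem_of_stronglyClosed hR h.2.1 (h.1 x.2)⟩
  injective_of_mem h := F.injective_of_mem h.2.1
  conj_mem hP hg := ⟨hP, F.conj_mem (hP.trans hR.1) (hR.1 hg), fun G _ => G.conj_mem hP hg⟩
  comp_mem hφ hψ h := ⟨hφ.1, F.comp_mem hφ.2.1 hψ.2.1 h,
    fun G hG => G.comp_mem (hφ.2.2 G hG) (hψ.2.2 G hG) h⟩
  inv_mem {P φ} hφ := by
    obtain ⟨ψ, hψ, he⟩ := F.inv_mem hφ.2.1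
    refine ⟨ψ, ⟨?_, hψ, fun G hG => ?_⟩, he⟩
    · rintro _ ⟨x, rfl⟩
      exact map_mem_of_stronglyClosed hR hφ.2.1 (hφ.1 x.2)
    obtain ⟨ψ', hψ', he'⟩ := G.inv_mem (hφ.2.2 G hG)
    have h : ψ = ψ' := MonoidHom.ext fun y => by
      obtain ⟨_, x, rfl⟩ := y
      exact (he x).trans (he' x).symm
    exact h ▸ hψ'

theorem genSystem_sub (hR : F.StronglyClosed R) : (genSystem F A hR).IsSubsystemOf F :=
  fun _ _ h => h.2.1

theorem genSystem_le (hR : F.StronglyClosed R) {T : Subgroup Ω} (M : FusionSystem T) (hRT : R ≤ T)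
    (hM : ∀ (Q : Subgroup Ω) (a : MulAut Q), SelfCentralizingIn F R Q → a ∈ A Q → a ∈ M.autGroup Q)
    (hA : ∀ {P : Subgroup Ω}, SelfCentralizingIn F R P → A P ≤ F.autGroup P) :
    (genSystem F A hR).IsSubsystemOf M := by
  intro P φ hφ
  refine (hφ.2.2 (interSystem (genSystem F A hR) M hRT) fun Q a hQ ha => ⟨?_, ?_⟩).2
  · exact ⟨hQ.1, (autGroup_carrier (hQ.1.trans hR.1)).1 (hA hQ ha), fun G hG => hG Q a hQ ha⟩
  · exact (autGroup_carrier (hQ.1.trans hRT)).1 (hM Q a hQ ha)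

theorem mor_gen (h : IsInvBase F p R A) {Q : Subgroup Ω} (hQ : SelfCentralizingIn F R Q)
    {a : MulAut Q} (ha : a ∈ A Q) :
    ∃ f, Mor (genSystem F A h.closed) Q f ∧ Im f Q Q ∧ ∀ x : Q, f x = ((a x : Q) : Ω) :=
  exists_mor_of_aut hQ.1 (mem_aut_of_isoIn
    (show IsoIn (genSystem F A h.closed) a from
      ⟨hQ.1, (autGroup_carrier (hQ.1.trans h.closed.1)).1 (h.le hQ ha),
        fun _ hG => hG Q a hQ ha⟩))

theorem mor_genF (hR : F.StronglyClosed R) {U : Subgroup Ω} {f : Ω → Ω}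
    (hf : Mor (genSystem F A hR) U f) : Mor F U f := by
  obtain ⟨φ, hφ, e⟩ := hf
  exact ⟨φ, hφ.2.1, e⟩

theorem isoIn_genF (hR : F.StronglyClosed R) {P Q : Subgroup Ω} {e : P ≃* Q}
    (he : IsoIn (genSystem F A hR) e) : IsoIn F e := he.2.1

theorem mor_mem_R (hR : F.StronglyClosed R) {U : Subgroup Ω} {f : Ω → Ω} (hf : Mor F U f)
    {x : Ω} (hx : x ∈ U) (hxR : x ∈ R) : f x ∈ R := by
  obtain ⟨φ, hφ, e⟩ := hf
  exact Set.mem_of_eq_of_mem (e ⟨x, hx⟩).symm (map_mem_of_stronglyClosed hR hφ hxR)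

theorem mor_normalizerIn [Finite S] (hR : F.StronglyClosed R) {U A₀ B₀ : Subgroup Ω} {f : Ω → Ω}
    (hf : Mor F U f) (hAU : A₀ ≤ U) (hi : Im f A₀ B₀) {x : Ω} (hx : x ∈ U)
    (hxA : x ∈ normalizerIn R A₀) : f x ∈ normalizerIn R B₀ :=
  ⟨mor_mem_R hR hf hx hxA.1, (hf.mem_normalizerIn hAU hi hx hxA.2).2⟩

/-! ### Twisting by automorphisms of `R` -/

variable [Finite S]

theorem mor_gen_twist (h : IsInvBase F p R A) {α : MulAut R} (hα : α ∈ F.autGroup R)
    {U V : Subgroup Ω} {f : Ω → Ω} (hf : Mor (genSystem F A h.closed) U f)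
    (hV : Im (extAut α) U V) :
    Mor (genSystem F A h.closed) V (extAut α ∘ f ∘ extAut α⁻¹) := by
  classical
  have hR := h.closed
  let D := genSystem F A hR
  have hαF := mor_extAut (F := F) hR.1 hα
  let G : FusionSystem R :=
    { Hom := fun U => {φ | φ ∈ D.Hom U ∧ ∀ f : Ω → Ω, (∀ x : U, φ x = f x) →
        ∀ V : Subgroup Ω, Im (extAut α) U V → Mor D V (extAut α ∘ f ∘ extAut α⁻¹)}
      le_of_mem := fun h => D.le_of_mem h.1
      injective_of_mem := fun h => D.injective_of_mem h.1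
      conj_mem := fun {U r} hU hr => by
        refine ⟨D.conj_mem hU hr, fun f hf V hV => ?_⟩
        have hVR : V ≤ R := fun y hy => by
          obtain ⟨x, hx, rfl⟩ := hV.surj hy
          exact extAut_mem α (hU hx)
        refine (Mor.conj_mor hVR (extAut_mem α hr)).congr fun y hy => ?_
        obtain ⟨x, hx, rfl⟩ := hV.surj hy
        show extAut α (f (extAut α⁻¹ (extAut α x))) = _
        rw [extAut_inv_apply, ← hf ⟨x, hx⟩]
        exact hαF.map_conj hr (hU hx)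
      comp_mem := fun {U U' φ ψ} hφ hψ hm => by
        refine ⟨D.comp_mem hφ.1 hψ.1 hm, fun f hf V hV => ?_⟩
        obtain ⟨f₁, -, e₁⟩ := Mor.of_mem hφ.1
        obtain ⟨f₂, -, e₂⟩ := Mor.of_mem hψ.1
        obtain ⟨V', hV'⟩ := hαF.exists_im (le_of_mem_hom hψ.1)
        refine ((hφ.2 f₁ (fun x => (e₁ x).symm) V hV).comp
          (hψ.2 f₂ (fun x => (e₂ x).symm) V' hV') fun y hy => ?_).congr fun y hy => ?_
        · obtain ⟨x, hx, rfl⟩ := hV.surj hy
          show extAut α (f₁ (extAut α⁻¹ (extAut α x))) ∈ V'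
          rw [extAut_inv_apply, e₁ ⟨x, hx⟩]
          exact hV'.mem (hm _)
        · obtain ⟨x, hx, rfl⟩ := hV.surj hy
          show extAut α (f (extAut α⁻¹ (extAut α x))) =
            extAut α (f₂ (extAut α⁻¹ (extAut α (f₁ (extAut α⁻¹ (extAut α x))))))
          rw [extAut_inv_apply, extAut_inv_apply]
          congr 1
          rw [e₁ ⟨x, hx⟩, e₂ ⟨_, hm ⟨x, hx⟩⟩, ← hf ⟨x, hx⟩]
          rfl
      inv_mem := fun {U φ} hφ => by
        obtain ⟨ψ, hψ, he⟩ := D.inv_mem hφ.1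
        refine ⟨ψ, ⟨hψ, fun f hf V hV => ?_⟩, he⟩
        obtain ⟨f₁, hf₁, e₁⟩ := Mor.of_mem hφ.1
        have hUR : U ≤ R := le_of_mem_hom hφ.1
        obtain ⟨W, hW⟩ := hαF.exists_im hUR
        have hm := hφ.2 f₁ (fun x => (e₁ x).symm) W hW
        have him : Im (extAut α ∘ f₁ ∘ extAut α⁻¹) W V := by
          intro y
          constructor
          · intro hy
            obtain ⟨z, ⟨x, rfl⟩, rfl⟩ := hV.surj hy
            refine ⟨extAut α x, hW.mem x.2, ?_⟩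
            show extAut α (f₁ (extAut α⁻¹ (extAut α x))) = _
            rw [extAut_inv_apply, e₁]
          · rintro ⟨w, hw, rfl⟩
            obtain ⟨x, hx, rfl⟩ := hW.surj hw
            show extAut α (f₁ (extAut α⁻¹ (extAut α x))) ∈ V
            rw [extAut_inv_apply, e₁ ⟨x, hx⟩]
            exact hV.mem ⟨_, rfl⟩
        obtain ⟨g, hg, -, hg1, -⟩ := hm.exists_inv him
        refine hg.congr fun y hy => ?_
        obtain ⟨z, ⟨x, rfl⟩, rfl⟩ := hV.surj hy
        have h1 := hg1 (extAut α x) (hW.mem x.2)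
        simp only [Function.comp_apply, extAut_inv_apply, e₁] at h1
        show extAut α (f (extAut α⁻¹ (extAut α (φ x)))) = _
        rw [h1, extAut_inv_apply, ← hf ⟨φ x, x, rfl⟩, he x] }
  obtain ⟨φ, hφ, e⟩ := hf
  refine (hφ.2.2 G fun Q a hQ ha => ⟨⟨hQ.1, (autGroup_carrier (hQ.1.trans hR.1)).1 (h.le hQ ha),
    fun _ hG => hG Q a hQ ha⟩, fun f' hf' V' hV' => ?_⟩).2 f e V hV
  have hQαF := hαF.mono hQ.1
  obtain ⟨e', he', hee⟩ := exists_isoIn hQαF le_rfl hV'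
  obtain ⟨k, hk, -, hke⟩ := mor_gen h (hQ.of_isConj hR he'.isConj) (h.equiv hQ he' ha)
  refine hk.congr fun y hy => ?_
  obtain ⟨x, hx, rfl⟩ := hV'.surj hy
  show extAut α (f' (extAut α⁻¹ (extAut α x))) = _
  rw [extAut_inv_apply, ← hf' ⟨x, hx⟩]
  refine Eq.trans ?_ (hke ⟨_, hV'.mem hx⟩).symm
  rw [show (⟨extAut α x, hV'.mem hx⟩ : V') = e' ⟨x, hx⟩ from Subtype.ext (hee ⟨x, hx⟩).symm,
    congr_apply_apply, hee]
  rfl

/-- A map is a map of the generated system followed by an automorphism of `R`. -/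
def Spl (F : FusionSystem S) (A : ∀ P : Subgroup Ω, Subgroup (MulAut P)) {R : Subgroup Ω}
    (hR : F.StronglyClosed R) (U : Subgroup Ω) (f : Ω → Ω) : Prop :=
  ∃ α ∈ F.autGroup R, ∃ d, Mor (genSystem F A hR) U d ∧ ∀ x ∈ U, f x = extAut α (d x)

theorem Spl.of_gen (hR : F.StronglyClosed R) {U : Subgroup Ω} {f : Ω → Ω}
    (hf : Mor (genSystem F A hR) U f) : Spl F A hR U f :=
  ⟨1, one_mem _, f, hf, fun _ _ => (extAut_one _).symm⟩

theorem Spl.mono {hR : F.StronglyClosed R} {U W : Subgroup Ω} {f : Ω → Ω} (hf : Spl F A hR U f)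
    (hWU : W ≤ U) : Spl F A hR W f := by
  obtain ⟨α, hα, d, hd, he⟩ := hf
  exact ⟨α, hα, d, hd.mono hWU, fun x hx => he x (hWU hx)⟩

theorem Spl.congr {hR : F.StronglyClosed R} {U : Subgroup Ω} {f g : Ω → Ω} (hf : Spl F A hR U f)
    (e : ∀ x ∈ U, g x = f x) : Spl F A hR U g := by
  obtain ⟨α, hα, d, hd, he⟩ := hf
  exact ⟨α, hα, d, hd, fun x hx => (e x hx).trans (he x hx)⟩

theorem Spl.comp (h : IsInvBase F p R A) {U V : Subgroup Ω} {f g : Ω → Ω}
    (hf : Spl F A h.closed U f) (hg : Spl F A h.closed V g) (hm : ∀ x ∈ U, f x ∈ V) :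
    Spl F A h.closed U (g ∘ f) := by
  obtain ⟨α, hα, d, hd, he⟩ := hf
  obtain ⟨β, hβ, e, he', hee⟩ := hg
  obtain ⟨W, hW⟩ := (mor_extAut (F := F) h.closed.1 (inv_mem hα)).exists_im he'.le_S
  have ht := mor_gen_twist h (inv_mem hα) he' hW
  refine ⟨β * α, mul_mem hβ hα, _, hd.comp ht fun x hx => ?_, fun x hx => ?_⟩
  · have h1 := hW.mem (hm x hx)
    rwa [he x hx, extAut_inv_apply] at h1
  · show g (f x) = extAut (β * α) (extAut α⁻¹ (e (extAut α⁻¹⁻¹ (d x))))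
    rw [inv_inv, extAut_mul, extAut_apply_inv, ← he x hx]
    exact hee _ (hm x hx)

theorem Spl.inverse (h : IsInvBase F p R A) {U V : Subgroup Ω} {f g : Ω → Ω}
    (hf : Spl F A h.closed U f) (hi : Im f U V) (hg : ∀ x ∈ U, g (f x) = x) :
    Spl F A h.closed V g := by
  obtain ⟨α, hα, d, hd, he⟩ := hf
  obtain ⟨W, hW⟩ := hd.exists_im (le_refl U)
  obtain ⟨di, hdi, -, hdi1, -⟩ := hd.exists_inv hW
  have hWV : Im (extAut α) W V := fun y => by
    constructor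
    · intro hy
      obtain ⟨x, hx, rfl⟩ := hi.surj hy
      exact ⟨d x, hW.mem hx, (he x hx).symm⟩
    · rintro ⟨w, hw, rfl⟩
      obtain ⟨x, hx, rfl⟩ := hW.surj hw
      rw [← he x hx]
      exact hi.mem hx
  refine ⟨α⁻¹, inv_mem hα, _, mor_gen_twist h hα hdi hWV, fun y hy => ?_⟩
  obtain ⟨x, hx, rfl⟩ := hi.surj hy
  show g (f x) = extAut α⁻¹ (extAut α (di (extAut α⁻¹ (f x))))
  rw [extAut_inv_apply, hg x hx, he x hx, extAut_inv_apply, hdi1 x hx]

/-! ### Extensions inside a good member -/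

variable [Fact p.Prime] (hS : IsPGroup p S)

theorem Good.transport (h : IsInvBase F p R A) {Q Q' : Subgroup Ω} (hQ : Good F p R A Q)
    {f : Ω → Ω} (hf : Mor F (normalizerIn R Q) f) (hi : Im f Q Q') : Good F p R A Q' := by
  have hQN : Q ≤ normalizerIn R Q := le_normalizerIn hQ.1.1
  obtain ⟨e, he, hee⟩ := exists_isoIn hf hQN hi
  have hQ' := hQ.1.of_isConj h.closed he.isConj
  have key : ∀ β ∈ autInducedBy R Q, MulAut.congr e β ∈ autInducedBy R Q' := by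
    intro β hβ
    obtain ⟨r, hr, hrb⟩ := mem_autInducedBy.1 hβ
    have hrN : r ∈ normalizerIn R Q := ⟨hr, mem_normalizer_of_aut hrb⟩
    exact mem_autInducedBy.2 ⟨f r, mor_mem_R h.closed hf hrN hr,
      congr_conj_apply hf hQN hee hrN hrb⟩
  refine ⟨hQ', fun B hB h1 h2 b hb => ?_⟩
  rw [← congr_congr_symm e b]
  refine key _ (hQ.2 (B.map (MulAut.congr e.symm).toMonoidHom) (hB.map _) (fun a ha => ?_) ?_
    ⟨b, hb, rfl⟩)
  · exact ⟨MulAut.congr e a, h1 (key a ha), congr_symm_congr e a⟩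
  · rintro _ ⟨a, ha, rfl⟩
    exact h.equiv hQ' he.symm (h2 ha)

/-- A map between good members defined on the normalizer carries normalizer onto normalizer. -/
theorem Good.im_normalizer (h : IsInvBase F p R A) {Q Q' : Subgroup Ω} (hQ : Good F p R A Q)
    (hQ' : Good F p R A Q') {f : Ω → Ω} (hf : Mor F (normalizerIn R Q) f) (hi : Im f Q Q')
    (hS : IsPGroup p S) : Im f (normalizerIn R Q) (normalizerIn R Q') := by
  have hQN : Q ≤ normalizerIn R Q := le_normalizerIn hQ.1.1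
  obtain ⟨e, he, hee⟩ := exists_isoIn hf hQN hi
  have hmem : ∀ x ∈ normalizerIn R Q, f x ∈ normalizerIn R Q' := fun x hx =>
    mor_normalizerIn h.closed hf hQN hi hx hx
  intro y
  refine ⟨fun hy => ?_, fun ⟨x, hx, e⟩ => e ▸ hmem x hx⟩
  have hB : MulAut.congr e.symm (conjAut R Q' ⟨y, hy⟩) ∈ autInducedBy R Q := by
    refine hQ.2 ((autInducedBy R Q').map (MulAut.congr e.symm).toMonoidHom)
      ((isPGroup_autInducedBy (isPGroup_of_le hS h.closed.1) Q').map _) (fun a ha => ?_) ?_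
      ⟨_, mem_autInducedBy.2 ⟨y, hy.1, fun _ => rfl⟩, rfl⟩
    · obtain ⟨r, hr, hra⟩ := mem_autInducedBy.1 ha
      have hrN : r ∈ normalizerIn R Q := ⟨hr, mem_normalizer_of_aut hra⟩
      exact ⟨MulAut.congr e a, mem_autInducedBy.2 ⟨f r, (hmem r hrN).1,
        congr_conj_apply hf hQN hee hrN hra⟩, congr_symm_congr e a⟩
    · rintro _ ⟨a, ha, rfl⟩
      exact h.equiv hQ'.1 he.symm (h.inn hQ'.1 ha)
  obtain ⟨n, hn, hne⟩ := mem_autInducedBy.1 hB
  have hnN : n ∈ normalizerIn R Q := ⟨hn, mem_normalizer_of_aut hne⟩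
  have h1 : (f n)⁻¹ * y ∈ centralizerIn R Q' := by
    refine ⟨mul_mem (R.inv_mem (hmem n hnN).1) hy.1, diff_mem_centralizer fun z hz => ?_⟩
    have h2 := congr_conj_apply hf hQN hee hnN hne ⟨z, hz⟩
    rw [congr_congr_symm] at h2
    exact h2
  obtain ⟨q, hq, hqe⟩ := hi.surj (centralizer_le_of_sc hQ'.1 (hQ'.1.1.trans h.closed.1) h1)
  exact ⟨n * q, mul_mem hnN (hQN hq), by rw [hf.map_mul hnN (hQN hq), hqe, mul_inv_cancel_left]⟩

open Classical in
include hS in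
/-- An element of the family carrying the automorphisms induced by `W` into those induced by `R`
extends to `W` in the generated system. -/
theorem exists_gen_ext (h : IsInvMap F p R A) {Q : Subgroup Ω} (hQ : Good F p R A Q)
    {a : MulAut Q} (ha : a ∈ A Q) {W : Subgroup Ω} (hQW : Q ≤ W) (hW : W ≤ normalizerIn R Q)
    (hconj : ∀ β ∈ autInducedBy W Q, a * β * a⁻¹ ∈ autInducedBy R Q) :
    ∃ g, Mor (genSystem F A h.closed) W g ∧ ∀ x : Q, g x = ((a x : Q) : Ω) := by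
  have hR := h.closed
  let D := genSystem F A hR
  have hQR : Q ≤ R := hQ.1.1
  have hQS : Q ≤ S := hQR.trans hR.1
  haveI : Finite Q := finite_of_le hQS
  haveI : Finite (MulAut Q) := finite_mulAut
  let X := A Q
  let κ : ↥(normalizerIn R Q) →* X := (conjAut R Q).codRestrict X fun g =>
    h.inn hQ.1 (mem_autInducedBy.2 ⟨g, g.2.1, fun _ => rfl⟩)
  have hκ : ∀ (g : ↥(normalizerIn R Q)) (q : Q),
      ((((κ g : X) : MulAut Q) q : Q) : Ω) = g * q * (g : Ω)⁻¹ := fun _ _ => rfl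
  have hRp : IsPGroup p R := isPGroup_of_le hS hR.1
  obtain ⟨SX, hSX⟩ : ∃ T : Sylow p X, (T : Subgroup X) = κ.range := by
    have hp : IsPGroup p κ.range := (hRp.to_le (normalizerIn_le_S Q)).of_surjective _
      κ.rangeRestrict_surjective
    obtain ⟨T, hT⟩ := hp.exists_le_sylow
    refine ⟨T, le_antisymm (fun t ht => ?_) hT⟩
    have h1 : (T : Subgroup X).map X.subtype ≤ autInducedBy R Q := by
      refine hQ.2 _ (T.2.map _) (fun b hb => ?_) (Subgroup.map_subtype_le _)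
      obtain ⟨r, hr, hrb⟩ := mem_autInducedBy.1 hb
      refine ⟨κ ⟨r, hr, mem_normalizer_of_aut hrb⟩, hT ⟨_, rfl⟩, ?_⟩
      exact MulEquiv.ext fun q => Subtype.ext (hrb q).symm
    obtain ⟨r, hr, hrb⟩ := mem_autInducedBy.1 (h1 ⟨t, ht, rfl⟩)
    exact ⟨⟨r, hr, mem_normalizer_of_aut hrb⟩,
      Subtype.ext (MulEquiv.ext fun q => Subtype.ext (hrb q).symm)⟩
  let In : Subgroup X := (Q.subgroupOf (normalizerIn R Q)).map κ
  have hIn : ∀ (x : X) (i : X), i ∈ In → x * i * x⁻¹ ∈ In := by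
    rintro x _ ⟨u, hu, rfl⟩
    refine ⟨⟨(((x : MulAut Q) ⟨u, hu⟩ : Q) : Ω), le_normalizerIn hQR ((x : MulAut Q) ⟨u, hu⟩).2⟩,
      ((x : MulAut Q) ⟨u, hu⟩).2, ?_⟩
    refine Subtype.ext (MulEquiv.ext fun q => ?_)
    show _ = (x : MulAut Q) (((κ u : X) : MulAut Q) ((x : MulAut Q)⁻¹ q))
    rw [show ((κ u : X) : MulAut Q) ((x : MulAut Q)⁻¹ q) =
      ⟨u, hu⟩ * ((x : MulAut Q)⁻¹ q) * ⟨u, hu⟩⁻¹ from rfl, map_mul, map_mul, map_inv,
      MulAut.apply_inv_self]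
    rfl
  let Wof : Subgroup X → Subgroup Ω := fun B =>
    ((B ⊔ In).comap κ).map (normalizerIn R Q).subtype
  have hWofN : ∀ B, Wof B ≤ normalizerIn R Q := fun B => Subgroup.map_subtype_le _
  have hQWof : ∀ B, Q ≤ Wof B := fun B q hq =>
    ⟨⟨q, le_normalizerIn hQR hq⟩, Subgroup.mem_sup_right ⟨_, hq, rfl⟩, rfl⟩
  have hWmem : ∀ {B : Subgroup X} {w : Ω} (hw : w ∈ normalizerIn R Q),
      w ∈ Wof B ↔ κ ⟨w, hw⟩ ∈ B ⊔ In := fun {B w} hw => by
    constructor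
    · rintro ⟨v, hv, rfl⟩
      exact hv
    · exact fun hv => ⟨⟨w, hw⟩, hv, rfl⟩
  have hsub : ∀ {B : Subgroup X}, B ≤ κ.range → B ⊔ In ≤ κ.range := fun hB =>
    sup_le hB (Subgroup.map_le_range _ _)
  let Rel : Subgroup X → X → (Ω → Ω) → Prop := fun B x g =>
    Mor D (Wof B) g ∧ ∀ q : Q, g q = (((x : MulAut Q) q : Q) : Ω)
  have hRelQ : ∀ {B x g}, Rel B x g → Im g Q Q := fun {B x g} hg =>
    im_self (mor_genF hR hg.1) (hQWof B) fun q hq => by
      rw [hg.2 ⟨q, hq⟩]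
      exact SetLike.coe_mem _
  have hκg : ∀ {B x g}, Rel B x g → ∀ (w : Ω) (hw : w ∈ Wof B),
      ∃ hgw : g w ∈ normalizerIn R Q, κ ⟨g w, hgw⟩ = x * κ ⟨w, hWofN B hw⟩ * x⁻¹ := by
    intro B x g hg w hw
    have hgw : g w ∈ normalizerIn R Q :=
      mor_normalizerIn hR (mor_genF hR hg.1) (hQWof B) (hRelQ hg) hw (hWofN B hw)
    refine ⟨hgw, Subtype.ext (MulEquiv.ext fun q => Subtype.ext ?_)⟩
    obtain ⟨q', rfl⟩ := (x : MulAut Q).surjective q
    show g w * (((x : MulAut Q) q' : Q) : Ω) * (g w)⁻¹ =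
      (((x : MulAut Q) (((κ ⟨w, hWofN B hw⟩ : X) : MulAut Q)
        ((x : MulAut Q)⁻¹ ((x : MulAut Q) q'))) : Q) : Ω)
    rw [MulAut.inv_apply_self, ← hg.2, ← hg.2, hκ, ← hg.1.map_conj hw (hQWof B q'.2)]
  have hImW : ∀ {B B' x g}, Rel B x g → B ≤ κ.range →
      B.map (MulAut.conj x).toMonoidHom = B' → Im g (Wof B) (Wof B') := by
    intro B B' x g hg hB hBB'
    have hmapIn : In.map (MulAut.conj x).toMonoidHom = In := le_antisymm
      (by rintro _ ⟨i, hi, rfl⟩; exact hIn x i hi)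
      fun i hi => ⟨x⁻¹ * i * x, by simpa using hIn x⁻¹ i hi, by
        show x * (x⁻¹ * i * x) * x⁻¹ = i
        group⟩
    have hconj : ∀ i, i ∈ B' ⊔ In ↔ ∃ j ∈ B ⊔ In, x * j * x⁻¹ = i := fun i => by
      rw [← hBB', ← hmapIn, ← Subgroup.map_sup, hmapIn]
      exact Subgroup.mem_map
    intro y
    constructor
    · intro hy
      have hyN := hWofN B' hy
      obtain ⟨j, hj, hje⟩ := (hconj _).1 ((hWmem hyN).1 hy)
      obtain ⟨n, rfl⟩ := hsub hB hj
      have hn : (n : Ω) ∈ Wof B := (hWmem n.2).2 hj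
      obtain ⟨hgn, hge⟩ := hκg hg n hn
      have h1 : (g n)⁻¹ * y ∈ centralizerIn R Q := by
        refine ⟨mul_mem (R.inv_mem hgn.1) hyN.1, diff_mem_centralizer fun z hz => ?_⟩
        have h2 : κ ⟨y, hyN⟩ = κ ⟨g n, hgn⟩ := by rw [hge]; exact hje.symm
        exact congrArg (fun c : X => (((c : MulAut Q) ⟨z, hz⟩ : Q) : Ω)) h2
      obtain ⟨q, hq, hqe⟩ := (hRelQ hg).surj (centralizer_le_of_sc hQ.1 hQS h1)
      exact ⟨n * q, mul_mem hn (hQWof B hq), by
        rw [hg.1.map_mul hn (hQWof B hq), hqe, mul_inv_cancel_left]⟩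
    · rintro ⟨w, hw, rfl⟩
      obtain ⟨hgw, hge⟩ := hκg hg w hw
      refine (hWmem hgw).2 ((hconj _).2 ⟨_, (hWmem (hWofN B hw)).1 hw, ?_⟩)
      exact hge.symm
  let E : FusionSystem (SX : Subgroup X) :=
    { Hom := fun B => {φ | φ ∈ (groupFusionSystem (SX : Subgroup X)).Hom B ∧
        ∃ x : X, (∀ b : B, φ b = x * b * x⁻¹) ∧ ∃ g, Rel B x g}
      le_of_mem := fun h => (groupFusionSystem (SX : Subgroup X)).le_of_mem h.1
      injective_of_mem := fun h => (groupFusionSystem (SX : Subgroup X)).injective_of_mem h.1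
      conj_mem := fun {B s} hB hs => by
        refine ⟨(groupFusionSystem (SX : Subgroup X)).conj_mem hB hs, s, fun b => rfl, ?_⟩
        obtain ⟨r, rfl⟩ := hSX.le hs
        exact ⟨fun y => (r : Ω) * y * (r : Ω)⁻¹,
          Mor.conj_mor ((hWofN B).trans (normalizerIn_le_S Q)) r.2.1, fun q => rfl⟩
      comp_mem := fun {B B' φ ψ} hφ hψ hm => by
        obtain ⟨hφ', x, hx, g, hg⟩ := hφ
        obtain ⟨hψ', y, hy, k, hk⟩ := hψ
        refine ⟨(groupFusionSystem (SX : Subgroup X)).comp_mem hφ' hψ' hm, y * x, fun b => ?_,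
          k ∘ g, hg.1.comp hk.1 ?_, fun q => ?_⟩
        · show ψ ⟨φ b, hm b⟩ = _
          rw [hy]
          show y * φ b * y⁻¹ = _
          rw [hx]
          group
        · intro w hw
          have h1 := (hImW hg ((le_of_mem_hom hφ').trans hSX.le) rfl).mem hw
          refine Subgroup.map_mono (Subgroup.comap_mono (sup_le_sup_right ?_ In)) h1
          rintro _ ⟨b, hb, rfl⟩
          show x * b * x⁻¹ ∈ B'
          rw [← hx ⟨b, hb⟩]
          exact hm _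
        · show k (g q) = _
          rw [hg.2, hk.2]
          rfl
      inv_mem := fun {B φ} hφ => by
        obtain ⟨hφ', x, hx, g, hg⟩ := hφ
        obtain ⟨ψ, hψ, he⟩ := (groupFusionSystem (SX : Subgroup X)).inv_mem hφ'
        have hr : B.map (MulAut.conj x).toMonoidHom = φ.range := by
          ext i
          constructor
          · rintro ⟨b, hb, rfl⟩
            exact ⟨⟨b, hb⟩, hx _⟩
          · rintro ⟨b, rfl⟩
            exact ⟨b, b.2, (hx b).symm⟩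
        obtain ⟨gi, hgi, -, hgi1, -⟩ :=
          hg.1.exists_inv (hImW hg ((le_of_mem_hom hφ').trans hSX.le) hr)
        refine ⟨ψ, ⟨hψ, x⁻¹, ?_, gi, hgi, fun q => ?_⟩, he⟩
        · rintro ⟨_, b, rfl⟩
          rw [he b]
          show (b : X) = x⁻¹ * φ b * x⁻¹⁻¹
          rw [hx]
          group
        · have h1 := hgi1 ((((x : MulAut Q)⁻¹ q : Q)) : Ω) (hQWof B (SetLike.coe_mem _))
          rw [hg.2, MulAut.apply_inv_self] at h1
          exact h1 }
  have hle : groupFusionSystem (SX : Subgroup X) ≤ E := by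
    refine alperin_saturated p SX.2 (groupFusion_saturated SX) E fun B hB α hα => ?_
    have hBS : B ≤ (SX : Subgroup X) := hB.elim (fun e => e.le) fun hB => hB.1.1
    obtain ⟨-, -, x, hx⟩ := (autGroup_carrier hBS).1 hα
    refine (autGroup_carrier hBS).2 ⟨(autGroup_carrier hBS).1 hα, x, hx, ?_⟩
    have hnorm : ∀ j ∈ B ⊔ In, x * j * x⁻¹ ∈ B ⊔ In := by
      have h1 : (B ⊔ In).map (MulAut.conj x).toMonoidHom ≤ B ⊔ In := by
        rw [Subgroup.map_sup]
        refine sup_le ?_ ?_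
        · rintro _ ⟨b, hb, rfl⟩
          refine Subgroup.mem_sup_left ?_
          show x * b * x⁻¹ ∈ B
          rw [← hx ⟨b, hb⟩]
          exact SetLike.coe_mem _
        · rintro _ ⟨i, hi, rfl⟩
          exact Subgroup.mem_sup_right (hIn x i hi)
      exact fun j hj => h1 ⟨j, hj, rfl⟩
    obtain ⟨γ, hγ, hγx⟩ := h.ext (hQWof B) hQ.1 (hWofN B) x.2 fun β hβ => by
      obtain ⟨w, hw, hwb⟩ := mem_autInducedBy.1 hβ
      have hb : β = ((κ ⟨w, hWofN B hw⟩ : X) : MulAut Q) :=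
        MulEquiv.ext fun q => Subtype.ext (hwb q)
      have h1 := hnorm _ ((hWmem (hWofN B hw)).1 hw)
      obtain ⟨v, hv⟩ := hsub (hBS.trans hSX.le) h1
      refine mem_autInducedBy.2 ⟨v, (hWmem v.2).2 (hv.symm ▸ h1), fun q => ?_⟩
      rw [hb, ← hκ v q, hv]
      rfl
    obtain ⟨g, hg, -, hge⟩ := mor_gen h.toIsInvBase
      (hQ.1.mono (hQWof B) ((hWofN B).trans (normalizerIn_le_S Q))) hγ
    exact ⟨g, hg, fun q => (hge (Subgroup.inclusion (hQWof B) q)).trans (hγx q)⟩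
  let B : Subgroup X := (autInducedBy W Q).subgroupOf X
  have hBS : B ≤ (SX : Subgroup X) := fun b hb => by
    obtain ⟨w, hw, hwb⟩ := mem_autInducedBy.1 (Subgroup.mem_subgroupOf.1 hb)
    refine hSX.ge ⟨⟨w, hW hw⟩, Subtype.ext (MulEquiv.ext fun q => Subtype.ext (hwb q).symm)⟩
  have hmem : ∀ b : B, (⟨a, ha⟩ : X) * b * (⟨a, ha⟩ : X)⁻¹ ∈ (SX : Subgroup X) := fun b => by
    obtain ⟨r, hr, hrb⟩ := mem_autInducedBy.1 (hconj _ (Subgroup.mem_subgroupOf.1 b.2))
    exact hSX.ge ⟨⟨r, hr, mem_normalizer_of_aut hrb⟩,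
      Subtype.ext (MulEquiv.ext fun q => Subtype.ext (hrb q).symm)⟩
  obtain ⟨-, x, hx, g, hg⟩ := hle B (conjHom_mem_groupFusion hBS (g := (⟨a, ha⟩ : X))
    fun b hb => hmem ⟨b, hb⟩)
  have hc : ∀ β ∈ autInducedBy W Q,
      ((x : MulAut Q)⁻¹ * a) * β * ((x : MulAut Q)⁻¹ * a)⁻¹ = β := by
    intro β hβ
    have hβX : β ∈ X := h.inn hQ.1 (autInducedBy_mono (hW.trans (normalizerIn_le_S Q)) Q hβ)
    have h1 : a * β * a⁻¹ = (x : MulAut Q) * β * (x : MulAut Q)⁻¹ :=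
      congrArg Subtype.val (hx ⟨⟨β, hβX⟩, hβ⟩)
    calc ((x : MulAut Q)⁻¹ * a) * β * ((x : MulAut Q)⁻¹ * a)⁻¹
        = (x : MulAut Q)⁻¹ * (a * β * a⁻¹) * x := by group
      _ = β := by rw [h1]; group
  obtain ⟨γ, hγ, hγe⟩ := h.ext hQW hQ.1 hW (mul_mem (inv_mem x.2) ha) fun β hβ => by
    rw [hc β hβ]; exact hβ
  obtain ⟨k, hk, hki, hke⟩ := mor_gen h.toIsInvBase
    (hQ.1.mono hQW (hW.trans (normalizerIn_le_S Q))) hγ
  refine ⟨g ∘ k, hk.comp hg.1 fun w hw => ?_, fun q => ?_⟩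
  · have hw' := hki.mem hw
    refine (hWmem (hW hw')).2 (Subgroup.mem_sup_left ?_)
    exact mem_autInducedBy.2 ⟨k w, hw', fun q => rfl⟩
  · show g (k ((Subgroup.inclusion hQW q : W) : Ω)) = _
    rw [hke, hγe, hg.2, MulAut.mul_apply, MulAut.apply_inv_self]

end CfsgLib.Meet
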