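import Cfsg.Agent.Fusion.Meet.Util
import Cfsg.Agent.Fusion.PrimeCharacter

/-!
Invariant families of automorphism groups on the subgroups of a strongly closed subgroup `R` that
contain their centralizers in `R`.
-/

set_option autoImplicit false
set_option linter.style.haveILetI false
set_option linter.unusedSectionVars false

open Cfsg Cfsg.FusionSystem CfsgLib.Fusion CfsgLib.FocCent CfsgLib.NormCent CfsgLib.NormExt

namespace CfsgLib.Meet

variable {Ω : Type*} [Group Ω] {S R : Subgroup Ω} {F : FusionSystem S} {p : ℕ}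
  {A : ∀ P : Subgroup Ω, Subgroup (MulAut P)}

theorem centralizer_le_of_sc {P : Subgroup Ω} (hP : SelfCentralizingIn F R P) (hPS : P ≤ S) :
    centralizerIn R P ≤ P :=
  hP.2 P (isConj_refl hPS)

theorem sc_of_fullyCentralized [Finite S] [Fact p.Prime] (hS : IsPGroup p S)
    (hF : F.IsSaturated p) (hT : F.StronglyClosed R) {Q : Subgroup Ω} (hQR : Q ≤ R)
    (hQ : F.IsFullyCentralized Q) (hC : centralizerIn R Q ≤ Q) : SelfCentralizingIn F R Q := by
  refine ⟨hQR, fun Q' hQ' c hc => ?_⟩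
  obtain ⟨φ, hφ, hr⟩ := isConj_symm hQ'
  obtain ⟨ψ, hψ, he⟩ := receptive_extend (receptive_of_fullyCentralized p hS hF hQ) hφ hr
    (N := Q' ⊔ centralizerIn S Q') (sup_le (le_extender hφ) (centralizerIn_le_extender Q' φ))
  have hcS : c ∈ centralizerIn S Q' := ⟨hT.1 hc.1, hc.2⟩
  have hcN : c ∈ Q' ⊔ centralizerIn S Q' := Subgroup.mem_sup_right hcS
  have h1 := map_mem_centralizerIn hψ (P := Q') le_sup_left hcS hcN
  rw [map_eq_range_of_eq le_sup_left he, hr] at h1
  have h2 : ψ ⟨c, hcN⟩ ∈ Q := hC ⟨map_mem_of_stronglyClosed hT hψ (x := ⟨c, hcN⟩) hc.1, h1.2⟩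
  rw [← hr] at h2
  obtain ⟨x, hx⟩ := h2
  have h3 := F.injective_of_mem hψ ((he x x.2 (Subgroup.mem_sup_left x.2)).trans hx)
  exact Set.mem_of_eq_of_mem (congrArg Subtype.val h3).symm x.2

/-- Between a fully centralized member of the family and its normalizer everything is fully
centralized. -/
theorem fullyCentralized_mid [Finite S] [Fact p.Prime] (hS : IsPGroup p S) (hF : F.IsSaturated p)
    (hT : F.StronglyClosed R) {P W : Subgroup Ω} (hP : SelfCentralizingIn F R P)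
    (hPc : F.IsFullyCentralized P) (hPW : P ≤ W) (hW : W ≤ normalizerIn R P) :
    F.IsFullyCentralized W := by
  have hWR : W ≤ R := hW.trans (normalizerIn_le_S P)
  have hWS : W ≤ S := hWR.trans hT.1
  refine ⟨hWS, fun W' hW' => ?_⟩
  obtain ⟨f, hf, hfi⟩ := isConj_iff_mor.1 hW'
  obtain ⟨P', hP'⟩ := hf.exists_im hPW
  obtain ⟨g, hg, hgi, hg1, hg2⟩ := (hf.mono hPW).exists_inv hP'
  obtain ⟨f', hf', hf'i, hf'1, hf'2⟩ := hf.exists_inv hfi
  have hP'W' : P' ≤ W' := fun y hy => by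
    obtain ⟨x, hx, rfl⟩ := hP'.surj hy
    exact hfi.mem (hPW hx)
  obtain ⟨μ, hμ, hμe⟩ := receptive_mor (N := W' ⊔ centralizerIn S W')
    (receptive_of_fullyCentralized p hS hF hPc) hg hgi fun u hu => by
      have hC : centralizerIn S W' ≤ centralizerIn S P' := centralizerIn_anti hP'W'
      obtain ⟨w, hw, c, hc, rfl⟩ := exists_mul_sup hu
      have hwP : w ∈ normalizerIn S P' := by
        obtain ⟨x, hx, rfl⟩ := hfi.surj hw
        exact hf.mem_normalizerIn hPW hP' hx (hW hx).2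
      refine ⟨S.mul_mem hwP.1 hc.1,
        mul_mem hwP.2 (centralizer_le_normalizer' P' (hC hc).2), f' w, hf'.mem_S hw,
        fun x hx => ?_⟩
      have e1 : w * c * x * (w * c)⁻¹ = w * x * w⁻¹ := by
        rw [show w * c * x * (w * c)⁻¹ = w * (c * x * c⁻¹) * w⁻¹ by group,
          conj_eq_of_mem_centralizerIn (hC hc) hx]
      have e2 : ∀ y ∈ P', g y = f' y := fun y hy => by
        obtain ⟨z, hz, rfl⟩ := hP'.surj hy
        rw [hg1 z hz, hf'1 z (hPW hz)]
      rw [e1, e2 x hx, e2 _ ((Subgroup.mem_normalizer_iff.1 hwP.2 x).1 hx),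
        hf'.map_conj hw (hP'W' hx)]
  have hμP : Im μ P' P := hgi.congr hμe
  have hμW : ∀ y ∈ W', μ y ∈ W := by
    intro y hy
    obtain ⟨x, hx, rfl⟩ := hfi.surj hy
    have hyU : f x ∈ W' ⊔ centralizerIn S W' ⊔ P' := Subgroup.mem_sup_left (Subgroup.mem_sup_left hy)
    have hR : μ (f x) ∈ R := by
      obtain ⟨φ, hφ, hφe⟩ := hμ
      rw [← hφe ⟨f x, hyU⟩]
      refine map_mem_of_stronglyClosed hT hφ ?_
      obtain ⟨ψ, hψ, hψe⟩ := hf
      exact Set.mem_of_eq_of_mem (hψe ⟨x, hx⟩).symm (map_mem_of_stronglyClosed hT hψ (hWR hx))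
    have h1 : x⁻¹ * μ (f x) ∈ centralizerIn R P := by
      refine ⟨mul_mem (R.inv_mem (hWR hx)) hR, diff_mem_centralizer fun z hz => ?_⟩
      obtain ⟨v, hv, rfl⟩ := hμP.surj hz
      rw [← hμ.map_conj hyU (Subgroup.mem_sup_right hv)]
      obtain ⟨q, hq, rfl⟩ := hP'.surj hv
      rw [← hf.map_conj hx (hPW hq)]
      have h2 : x * q * x⁻¹ ∈ P := (Subgroup.mem_normalizer_iff.1 (hW hx).2 q).1 hq
      rw [hμe _ (hP'.mem h2), hμe _ (hP'.mem hq), hg1 _ h2, hg1 _ hq]
    have h3 := W.mul_mem hx (hPW (centralizer_le_of_sc hP (hPW.trans hWS) h1))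
    rwa [mul_inv_cancel_left] at h3
  obtain ⟨V, hV⟩ := hμ.exists_im (W := W') ((le_sup_left.trans le_sup_left))
  have hVW : V = W := by
    refine eq_of_le_of_card_le hWS (fun y hy => ?_) ?_
    · obtain ⟨x, hx, rfl⟩ := hV.surj hy
      exact hμW x hx
    · rw [hμ.card_im (le_sup_left.trans le_sup_left) hV, hf.card_im le_rfl hfi]
  subst hVW
  obtain ⟨φ, hφ, hφe⟩ := hμ
  refine (card_le_card_map (centralizerIn_le_S V) (F.injective_of_mem hφ)
    (le_sup_right.trans le_sup_left) fun c hc => ?_).1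
  have hm : (W'.subgroupOf (W' ⊔ centralizerIn S W' ⊔ P')).map φ = V := by
    ext y
    rw [mem_map_subgroupOf]
    constructor
    · rintro ⟨x, hx, hxW, rfl⟩
      rw [hφe ⟨x, hx⟩]
      exact hV.mem hxW
    · intro hy
      obtain ⟨x, hx, rfl⟩ := hV.surj hy
      exact ⟨x, Subgroup.mem_sup_left (Subgroup.mem_sup_left hx), hx, hφe _⟩
  have h1 := map_mem_centralizerIn hφ (P := W') (le_sup_left.trans le_sup_left) hc
    (Subgroup.mem_sup_left (Subgroup.mem_sup_right hc))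
  rwa [hm] at h1

/-- The properties of an invariant family not involving restriction and extension. -/
structure IsInvBase (F : FusionSystem S) (p : ℕ) (R : Subgroup Ω)
    (A : ∀ P : Subgroup Ω, Subgroup (MulAut P)) : Prop where
  closed : F.StronglyClosed R
  le : ∀ {P : Subgroup Ω}, SelfCentralizingIn F R P → A P ≤ F.autGroup P
  equiv : ∀ {P Q : Subgroup Ω} {e : P ≃* Q}, SelfCentralizingIn F R P → IsoIn F e →
    ∀ {a : MulAut P}, a ∈ A P → MulAut.congr e a ∈ A Q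
  inn : ∀ {P : Subgroup Ω}, SelfCentralizingIn F R P → autInducedBy R P ≤ A P
  sylow : ∀ {P : Subgroup Ω}, SelfCentralizingIn F R P → F.IsFullyNormalized P →
    ∀ {B : Subgroup (MulAut P)}, IsPGroup p B → autInducedBy R P ≤ B → B ≤ A P →
      B ≤ autInducedBy R P

/-- An invariant family. -/
structure IsInvMap (F : FusionSystem S) (p : ℕ) (R : Subgroup Ω)
    (A : ∀ P : Subgroup Ω, Subgroup (MulAut P)) : Prop extends IsInvBase F p R A where
  restr : ∀ {P U : Subgroup Ω} (h : P ≤ U), SelfCentralizingIn F R P → U ≤ R →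
    ∀ {γ : MulAut U}, γ ∈ A U → ∀ {a : MulAut P}, Agree h γ a → a ∈ A P
  ext : ∀ {P W : Subgroup Ω} (h : P ≤ W), SelfCentralizingIn F R P → W ≤ normalizerIn R P →
    ∀ {a : MulAut P}, a ∈ A P →
      (∀ β ∈ autInducedBy W P, a * β * a⁻¹ ∈ autInducedBy W P) → ∃ γ ∈ A W, Agree h γ a

/-- A member of the family in which the automorphisms induced by `R` are Sylow in `A`. -/
def Good (F : FusionSystem S) (p : ℕ) (R : Subgroup Ω)
    (A : ∀ P : Subgroup Ω, Subgroup (MulAut P)) (Q : Subgroup Ω) : Prop :=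
  SelfCentralizingIn F R Q ∧ ∀ B : Subgroup (MulAut Q), IsPGroup p B → autInducedBy R Q ≤ B →
    B ≤ A Q → B ≤ autInducedBy R Q

variable [Finite S] [Fact p.Prime] (hS : IsPGroup p S) (hF : F.IsSaturated p)

theorem IsInvBase.good (h : IsInvBase F p R A) {P : Subgroup Ω}
    (hP : SelfCentralizingIn F R P) (hn : F.IsFullyNormalized P) : Good F p R A P :=
  ⟨hP, fun _ h1 h2 h3 => h.sylow hP hn h1 h2 h3⟩

include hS in
/-- Conjugation of a `p`-subgroup into the group induced by `R`. -/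
theorem Good.exists_conj_le (h : IsInvBase F p R A) {Q : Subgroup Ω} (hQ : Good F p R A Q)
    {B : Subgroup (MulAut Q)} (hB : IsPGroup p B) (hBA : B ≤ A Q) :
    ∃ g ∈ A Q, ∀ b ∈ B, g * b * g⁻¹ ∈ autInducedBy R Q := by
  have hQS : Q ≤ S := hQ.1.1.trans h.closed.1
  haveI : Finite Q := finite_of_le hQS
  haveI : Finite (MulAut Q) := finite_mulAut
  have hRp : IsPGroup p (autInducedBy R Q) :=
    isPGroup_autInducedBy (isPGroup_of_le hS h.closed.1) Q
  obtain ⟨T, hT⟩ :=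
    (hRp.comap_of_injective (A Q).subtype Subtype.val_injective).exists_le_sylow
  have hTR : (T : Subgroup (A Q)).map (A Q).subtype ≤ autInducedBy R Q := by
    refine hQ.2 _ (T.2.map _) (fun a ha => ⟨⟨a, h.inn hQ.1 ha⟩, hT ha, rfl⟩) ?_
    exact Subgroup.map_subtype_le _
  obtain ⟨T', hT'⟩ := (hB.comap_of_injective (A Q).subtype Subtype.val_injective).exists_le_sylow
  obtain ⟨c, hc⟩ := MulAction.exists_smul_eq (A Q) T' T
  refine ⟨c, c.2, fun b hb => hTR ⟨c * ⟨b, hBA hb⟩ * c⁻¹, ?_, rfl⟩⟩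
  rw [← hc, Sylow.coe_subgroup_smul]
  exact ⟨_, hT' hb, rfl⟩

include hS in
/-- A `p`-element of the family is a transported conjugation by an element of `R`. -/
theorem IsInvBase.exists_transport (h : IsInvBase F p R A) {U : Subgroup Ω}
    (hU : SelfCentralizingIn F R U) {γ : MulAut U} (hγ : γ ∈ A U)
    (hp : ∃ k : ℕ, γ ^ p ^ k = 1) :
    ∃ (U' : Subgroup Ω) (e : U' ≃* U) (r : Ω) (c : MulAut U'), IsoIn F e ∧
      r ∈ normalizerIn R U' ∧ (∀ x : U', ((c x : U') : Ω) = r * x * r⁻¹) ∧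
      MulAut.congr e c = γ := by
  have hUS : U ≤ S := hU.1.trans h.closed.1
  obtain ⟨U', hUU', hn⟩ := exists_fullyNormalized F hUS
  obtain ⟨f, hf, hfi⟩ := isConj_iff_mor.1 hUU'
  obtain ⟨e, he, -⟩ := exists_isoIn hf le_rfl hfi
  have hU' : SelfCentralizingIn F R U' := hU.of_isConj h.closed hUU'
  have hγ' := h.equiv hU he hγ
  obtain ⟨k, hk⟩ := hp
  have hk' : MulAut.congr e γ ^ p ^ k = 1 := by rw [← map_pow, hk, map_one]
  obtain ⟨g, hg, hgb⟩ := (h.good hU' hn).exists_conj_le hS h (isPGroup_zpowers hk')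
    (Subgroup.zpowers_le.2 hγ')
  obtain ⟨r, hr, hrc⟩ := mem_autInducedBy.1 (hgb _ (Subgroup.mem_zpowers _))
  have hgF : IsoIn F g := isoIn_of_aut (hU'.1.trans h.closed.1) (h.le hU' hg)
  refine ⟨U', g.symm.trans e.symm, r, g * MulAut.congr e γ * g⁻¹, hgF.symm.trans he.symm,
    ⟨hr, mem_normalizer_of_aut hrc⟩, hrc, ?_⟩
  rw [congr_congr, ← congr_eq_conj, congr_symm_congr, congr_symm_congr]

include hS in
/-- An element of the family fixing a smaller member pointwise is conjugation by a central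
element of that member. -/
theorem IsInvBase.uniq (h : IsInvBase F p R A) {P W : Subgroup Ω}
    (hP : SelfCentralizingIn F R P) (hPW : P ≤ W) (hW : W ≤ normalizerIn R P) {γ : MulAut W}
    (hγ : γ ∈ A W) (hfix : ∀ w : W, (w : Ω) ∈ P → γ w = w) :
    ∃ z ∈ P, (∀ x ∈ P, z * x = x * z) ∧ ∀ w : W, ((γ w : W) : Ω) = z * w * z⁻¹ := by
  have hWR : W ≤ R := hW.trans (normalizerIn_le_S P)
  have hWS : W ≤ S := hWR.trans h.closed.1
  have hWsc : SelfCentralizingIn F R W := hP.mono hPW hWR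
  have hdisp : ∀ w : W, (w : Ω)⁻¹ * ((γ w : W) : Ω) ∈ P := by
    intro w
    refine centralizer_le_of_sc hP (hPW.trans hWS)
      ⟨mul_mem (R.inv_mem (hWR w.2)) (hWR (γ w).2), diff_mem_centralizer fun x hx => ?_⟩
    have hwx : (w : Ω) * x * (w : Ω)⁻¹ ∈ P :=
      (Subgroup.mem_normalizer_iff.1 (hW w.2).2 x).1 hx
    have h1 := hfix ⟨_, hPW hwx⟩ hwx
    rw [show (⟨(w : Ω) * x * (w : Ω)⁻¹, hPW hwx⟩ : W) = w * ⟨x, hPW hx⟩ * w⁻¹ from rfl,
      map_mul, map_mul, map_inv, hfix ⟨x, hPW hx⟩ hx] at h1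
    exact congrArg Subtype.val h1
  obtain ⟨U', e, r, c, he, hr, hc, hce⟩ := h.exists_transport hS hWsc hγ
    (exists_pow_eq_one_of_fix hS hPW hWS hfix hdisp)
  obtain ⟨f, hf, hfi, hfe⟩ := he.symm.exists_mor
  obtain ⟨P', hP'⟩ := hf.exists_im hPW
  have hP'sc : SelfCentralizingIn F R P' := hP.of_isConj h.closed (hf.isConj hPW hP')
  have hrC : r ∈ centralizerIn R P' := by
    refine ⟨hr.1, fun y hy => ?_⟩
    obtain ⟨x, hx, rfl⟩ := hP'.surj hy
    have h2 : c (e.symm ⟨x, hPW hx⟩) = e.symm ⟨x, hPW hx⟩ := by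
      apply e.injective
      rw [← congr_apply_apply e c, hce, e.apply_symm_apply, hfix _ hx]
    have h3 := congrArg Subtype.val h2
    rw [hc] at h3
    rw [hfe ⟨x, hPW hx⟩]
    calc _ = r * ((e.symm ⟨x, hPW hx⟩ : U') : Ω) * r⁻¹ * r := by rw [h3]
      _ = r * ((e.symm ⟨x, hPW hx⟩ : U') : Ω) := by group
  obtain ⟨z, hz, hzr⟩ := hP'.surj (centralizer_le_of_sc hP'sc (hP'sc.1.trans h.closed.1) hrC)
  have hgam : ∀ w : W, ((γ w : W) : Ω) = z * w * z⁻¹ := by
    intro w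
    have h4 : f ((γ w : W) : Ω) = f (z * w * z⁻¹) := by
      rw [hfe, ← hce, hf.map_conj (hPW hz) w.2, hzr, hfe w, ← hc]
      congr 1
      apply e.injective
      rw [e.apply_symm_apply, ← congr_apply_apply e c, e.apply_symm_apply]
    exact hf.inj (γ w).2 (mul_mem (mul_mem (hPW hz) w.2) (W.inv_mem (hPW hz))) h4
  refine ⟨z, hz, fun x hx => ?_, hgam⟩
  have h5 := hgam ⟨x, hPW hx⟩
  rw [hfix _ hx] at h5
  calc z * x = z * x * z⁻¹ * z := by group
    _ = x * z := by rw [← h5]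

end CfsgLib.Meet
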