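import Cfsg.Agent.Fusion.Meet.Util
import Cfsg.Agent.Fusion.InnerCriterion
import Cfsg.Agent.Fusion.PrimeValuation
import Cfsg.Agent.Fusion.ModelGroup
import Cfsg.Agent.Fusion.ModelUnique

/-!
A finite group attached to a fully normalized subgroup `P`, mapping onto `Aut_F(P)`, with `N_S(P)`
as a Sylow subgroup and acting on `P C_S(P)`.
-/

set_option autoImplicit false
set_option linter.style.haveILetI false
set_option linter.unusedSectionVars false

open Cfsg Cfsg.FusionSystem CfsgLib.Fusion CfsgLib.FocCent CfsgLib.NormCent CfsgLib.NormExt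

namespace CfsgLib.Meet

universe u

variable {Ω : Type u} [Group Ω] {S : Subgroup Ω} {F : FusionSystem S} {p : ℕ}

theorem sup_cent_le_normalizerIn {P : Subgroup Ω} (hP : P ≤ S) :
    P ⊔ centralizerIn S P ≤ normalizerIn S P :=
  sup_le (le_normalizerIn hP) fun _ hc => ⟨hc.1, centralizer_le_normalizer' P hc.2⟩

theorem agree_unique {P V : Subgroup Ω} {h : P ≤ V} {A : MulAut V} {a b : MulAut P}
    (ha : Agree h A a) (hb : Agree h A b) : a = b :=
  MulEquiv.ext fun x => Subtype.ext ((ha x).symm.trans (hb x))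

/-- The data of a local group at `P`. -/
structure LocalGroup (F : FusionSystem S) (p : ℕ) (P : Subgroup Ω) (hP : P ≤ S) where
  /-- The group. -/
  G : Type u
  /-- The group structure. -/
  [inst : Group G]
  finG : Finite G
  /-- The embedding of the normalizer. -/
  ι : ↥(normalizerIn S P) →* G
  inj : Function.Injective ι
  syl : ∃ T : Sylow p G, (T : Subgroup G) = ι.range
  /-- The action on `P C_S(P)`. -/
  ρ : G →* MulAut ↥(P ⊔ centralizerIn S P)
  /-- The action on `P`. -/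
  res : G →* MulAut P
  agree : ∀ g, Agree le_sup_left (ρ g) (res g)
  mem : ∀ g, ρ g ∈ F.autGroup (P ⊔ centralizerIn S P)
  act : ∀ (g : G) (v : ↥(P ⊔ centralizerIn S P)),
    ι ⟨((ρ g v : ↥(P ⊔ centralizerIn S P)) : Ω), sup_cent_le_normalizerIn hP (ρ g v).2⟩ =
      g * ι ⟨v, sup_cent_le_normalizerIn hP v.2⟩ * g⁻¹
  onto : ∀ β ∈ F.autGroup (P ⊔ centralizerIn S P), ∀ a : MulAut P,
    Agree le_sup_left β a → ∃ g, ρ g = β ∧ res g = a
  hom : ∀ (U : Subgroup Ω) (hU : U ≤ normalizerIn S P) (g : G),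
    (∀ x : U, g * ι ⟨x, hU x.2⟩ * g⁻¹ ∈ ι.range) →
      ∃ (φ : U →* Ω) (h : ∀ x : U, φ x ∈ normalizerIn S P), φ ∈ F.Hom U ∧
        ∀ x : U, ι ⟨φ x, h x⟩ = g * ι ⟨x, hU x.2⟩ * g⁻¹
  cent : Subgroup.centralizer (img ι (P ⊔ centralizerIn S P) : Set G) ≤
    img ι (P ⊔ centralizerIn S P)

attribute [instance] LocalGroup.inst LocalGroup.finG

theorem exists_localGroup [Finite S] [Fact p.Prime] (hS : IsPGroup p S) (hF : F.IsSaturated p)
    {P : Subgroup Ω} (hn : F.IsFullyNormalized P) : Nonempty (LocalGroup F p P hn.1) := by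
  have hPS := hn.1
  have hc := fullyCentralized_of_fullyNormalized p hS hF hn
  let S₁ := normalizerIn S P
  let V := P ⊔ centralizerIn S P
  have hVS₁ : V ≤ S₁ := sup_cent_le_normalizerIn hPS
  haveI : Finite S₁ := finite_of_le (normalizerIn_le_S P)
  have hS₁ : IsPGroup p S₁ := isPGroup_of_le hS (normalizerIn_le_S P)
  let N := normSystem F P hPS
  have hNs : N.IsSaturated p := normalizerSystem_saturated p hS hF hn (normSystem_spec F P hPS)
  have hVn : S₁ ≤ Subgroup.normalizer (V : Set Ω) := fun x hx => by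
    refine mem_normalizer_sup hPS (centralizerIn_le_S P) hx.2
      (mem_normalizer_of_conj_mem (centralizerIn_le_S P) fun c hcC => ?_)
    refine ⟨mul_mem (mul_mem hx.1 hcC.1) (S.inv_mem hx.1), fun z hz => ?_⟩
    have hz' : x⁻¹ * z * x ∈ P := (Subgroup.mem_normalizer_iff''.1 hx.2 z).1 hz
    calc z * (x * c * x⁻¹) = x * ((x⁻¹ * z * x) * c) * x⁻¹ := by group
      _ = x * (c * (x⁻¹ * z * x)) * x⁻¹ := by rw [hcC.2 _ hz']
      _ = x * c * x⁻¹ * z := by group
  obtain ⟨E, hE, hEs, -, hEn, hEN, hEc⟩ :=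
    exists_normSystem_eq (F := N) p hS₁ hNs (fun {_} _ => True) hVS₁ hVn fun _ _ => trivial
  have hcen : centralizerIn S₁ V ≤ V := fun x hx =>
    Subgroup.mem_sup_right ⟨hx.1.1, fun y hy => hx.2 y (Subgroup.mem_sup_left hy)⟩
  obtain ⟨G, instG, ι, hmod⟩ := exists_model p hS₁ hEs hEn (hEc hcen)
  have hEF : ∀ (U : Subgroup Ω) (φ : U →* Ω), φ ∈ E.Hom U → φ ∈ F.Hom U :=
    fun U φ hφ => (hEN U hφ).1
  have himg := normal_img_of_isNormal p hmod hEn
  have hmc := centralizer_img_le p hS₁ hmod hEn (hEc hcen)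
  obtain ⟨hfin, hr, hsyl, -⟩ := hmod
  let ev := imgEquiv hr.1 hVS₁
  let ρ : G →* MulAut V := (MulAut.congr ev.symm).toMonoidHom.comp MulAut.conjNormal
  have hρ : ∀ (g : G) (v : V), ι ⟨((ρ g v : V) : Ω), hVS₁ (ρ g v).2⟩ =
      g * ι ⟨v, hVS₁ v.2⟩ * g⁻¹ := by
    intro g v
    have h1 := coe_imgEquiv hr.1 hVS₁ (ρ g v)
    have h2 : ev (ρ g v) = MulAut.conjNormal g (ev v) := by
      show ev (ev.symm (MulAut.conjNormal g (ev v))) = _
      rw [MulEquiv.apply_symm_apply]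
    rw [← h1, h2, MulAut.conjNormal_apply, coe_imgEquiv]
  have hρE : ∀ g, V.subtype.comp (ρ g).toMonoidHom ∈ E.Hom V := fun g =>
    (hr.2 V hVS₁ _ fun x => hVS₁ (ρ g x).2).2 ⟨g, hρ g⟩
  have hPV : P ≤ V := le_sup_left
  have hstab : ∀ (g : G) (x : V), (x : Ω) ∈ P → ((ρ g x : V) : Ω) ∈ P := by
    intro g x hx
    obtain ⟨-, -, -, ψ, -, hψe, hψP⟩ := hEN V (hρE g)
    have h1 : ψ (Subgroup.inclusion le_sup_left x) ∈ P :=
      hψP.le (Subgroup.mem_map_of_mem ψ (Subgroup.mem_subgroupOf.2 hx))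
    rw [hψe] at h1
    exact h1
  haveI : Finite P := finite_of_le hPS
  let res : G →* MulAut P := MonoidHom.mk'
    (fun g => (exists_agree hPV (ρ g) (hstab g)).choose) fun g h => by
      have hg := (exists_agree hPV (ρ g) (hstab g)).choose_spec
      have hh := (exists_agree hPV (ρ h) (hstab h)).choose_spec
      refine agree_unique (exists_agree hPV (ρ (g * h)) (hstab (g * h))).choose_spec ?_
      rw [map_mul]
      exact hg.mul hh
  have hag : ∀ g, Agree hPV (ρ g) (res g) := fun g =>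
    (exists_agree hPV (ρ g) (hstab g)).choose_spec
  have hVS : V ≤ S := hVS₁.trans (normalizerIn_le_S P)
  refine ⟨⟨G, hfin, ι, hr.1, hsyl, ρ, res, hag,
    fun g => (autGroup_carrier hVS).2 (hEF _ _ (hρE g)), hρ, fun β hβ a ha => ?_,
    fun U hU g hg => ?_, hmc⟩⟩
  · have hβF := (autGroup_carrier hVS).1 hβ
    have hVP : V ⊔ P ≤ V := sup_le le_rfl hPV
    have hVV : V ⊔ V ≤ V := sup_le le_rfl le_rfl
    have hN : V.subtype.comp β.toMonoidHom ∈ N.Hom V := by
      refine ⟨hβF, hVS₁, fun x => hVS₁ (β x).2, _, restrict_mem hβF hVP, fun _ => rfl, ?_⟩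
      ext y
      rw [mem_map_subgroupOf]
      constructor
      · rintro ⟨x, hx, hxP, rfl⟩
        exact Set.mem_of_eq_of_mem (ha ⟨x, hxP⟩) (a ⟨x, hxP⟩).2
      · intro hy
        refine ⟨a⁻¹ ⟨y, hy⟩, Subgroup.mem_sup_right (a⁻¹ ⟨y, hy⟩).2, (a⁻¹ ⟨y, hy⟩).2, ?_⟩
        exact (ha _).trans (congrArg Subtype.val (MulAut.apply_inv_self _ a ⟨y, hy⟩))
    have hEβ : V.subtype.comp β.toMonoidHom ∈ E.Hom V := by
      rw [hE]
      refine ⟨hN, fun x hx => ⟨hVS₁ hx, hVn (hVS₁ hx)⟩,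
        fun x => ⟨hVS₁ (β x).2, hVn (hVS₁ (β x).2)⟩, _, restrict_mem hN hVV, fun _ => rfl, ?_⟩
      ext y
      rw [mem_map_subgroupOf]
      constructor
      · rintro ⟨x, hx, -, rfl⟩
        exact (β _).2
      · intro hy
        refine ⟨β⁻¹ ⟨y, hy⟩, Subgroup.mem_sup_right (β⁻¹ ⟨y, hy⟩).2, (β⁻¹ ⟨y, hy⟩).2, ?_⟩
        exact congrArg Subtype.val (MulAut.apply_inv_self _ β ⟨y, hy⟩)
    obtain ⟨g, hg⟩ := (hr.2 V hVS₁ _ fun x => hVS₁ (β x).2).1 hEβ
    have hgβ : ρ g = β := MulEquiv.ext fun v => Subtype.ext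
      (congrArg (fun z : S₁ => (z : Ω)) (hr.1 ((hρ g v).trans (hg v).symm)))
    exact ⟨g, hgβ, agree_unique (hgβ ▸ hag g) ha⟩
  · obtain ⟨φ, hφ, hφe⟩ := exists_realized_hom hr hU hg
    exact ⟨φ, apply_mem_S hφ, hEF _ _ hφ, hφe⟩

end CfsgLib.Meet
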