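import Cfsg.Agent.Fusion.Meet.Ext
import Cfsg.Agent.Fusion.Meet.Constricted

/-!
Two weakly normal subsystems contain a common weakly normal subsystem over the intersection of
their supports.
-/

set_option autoImplicit false
set_option linter.style.haveILetI false
set_option linter.unusedSectionVars false

open Cfsg Cfsg.FusionSystem CfsgLib.Fusion CfsgLib.FocCent CfsgLib.NormCent CfsgLib.NormExt

namespace CfsgLib.Meet

universe u

variable {Ω : Type u} [Group Ω] {S T₁ T₂ : Subgroup Ω} {F : FusionSystem S}
  {M : FusionSystem T₁} {N : FusionSystem T₂} {p : ℕ}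

variable [Finite S] [Fact p.Prime] (hS : IsPGroup p S) (hF : F.IsSaturated p)
  (hM : M.IsWeaklyNormalIn F p) (hN : N.IsWeaklyNormalIn F p)

include hS hF hM hN in
theorem fam_invMap : IsInvMap F p (T₁ ⊓ T₂) (fun P => fam F M N p P) where
  toIsInvBase := fam_base hS hF hM hN
  restr h hP hU _ hγ _ hag := fam_restr hS hF hM hN h hP hU hγ hag
  ext h hP hW _ ha hn := fam_ext hS hF hM hN h hP hW ha hn

include hS hF hM hN in
/-- **The meet**: a weakly normal subsystem over `T₁ ⊓ T₂` contained in both. -/
theorem exists_weaklyNormal_meet : ∃ D : FusionSystem (T₁ ⊓ T₂),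
    D.IsWeaklyNormalIn F p ∧ D.IsSubsystemOf M ∧ D.IsSubsystemOf N := by
  have hA := fam_invMap hS hF hM hN
  refine ⟨genSystem F (fun P => fam F M N p P) hA.closed, genSystem_weaklyNormal hS hF hA, ?_, ?_⟩
  · exact genSystem_le hA.closed M inf_le_left
      (fun Q a hQ ha => fam_le_left hM.2.2 hQ.1 ha) hA.le
  · exact genSystem_le hA.closed N inf_le_right
      (fun Q a hQ ha => fam_le_right hN.2.2 hQ.1 ha) hA.le

end CfsgLib.Meet
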