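import Cfsg.Agent.Fusion.Meet.Main
import Cfsg.Agent.Fusion.Meet.FixExt
import Cfsg.Agent.Fusion.PPrime.Meet
import Cfsg.Agent.Fusion.ComponentExists
import Cfsg.Agent.Fusion.SolvIndex.SameLimit

/-!
The largest normal subsystem over the intersection of the supports of two normal subsystems that is
normal in both.
-/

set_option autoImplicit false
set_option linter.style.haveILetI false
set_option linter.unusedSectionVars false

open Cfsg Cfsg.FusionSystem CfsgLib.Fusion CfsgLib.FocCent CfsgLib.NormCent CfsgLib.NormExt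
open CfsgLib.SolvIndex (weaklyNormal_of_between)

namespace CfsgLib.Meet

universe u

variable {Ω : Type u} [Group Ω] {S U T : Subgroup Ω} {F : FusionSystem S} {E : FusionSystem U}
  {p : ℕ} [Fact p.Prime] [Finite S] (hS : IsPGroup p S)

include hS in
/-- Extending automorphisms of a strongly closed subgroup in an invariant subsystem is invariant. -/
theorem modAut_conj_sub (hF : F.IsSaturated p) (hE : E.IsInvariantIn F) (hT : F.StronglyClosed T)
    (hTU : T ≤ U) {a g : MulAut T} (ha : a ∈ modAut E hTU) (hg : g ∈ F.autGroup T) :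
    g * a * g⁻¹ ∈ modAut E hTU := by
  have hUS : U ≤ S := hE.2.1.1
  haveI : Finite U := finite_of_le hUS
  have hTc : F.IsFullyCentralized T := ⟨hT.1, fun Q ⟨φ, hφ, e⟩ => by
    rw [← e, (weaklyClosed_of_stronglyClosed hT).2 φ hφ]⟩
  have hgh := (autGroup_carrier hT.1).1 hg
  obtain ⟨ψ, hψ, he⟩ := saturated_extend p hS hF hgh (by rw [range_subtype_comp]; exact hTc)
    (sup_le (le_extender hgh) (centralizerIn_le_extender T (T.subtype.comp g.toMonoidHom)) :
      T ⊔ centralizerIn S T ≤ extender S T (T.subtype.comp g.toMonoidHom))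
  obtain ⟨f, hf, hfe⟩ := Mor.of_mem hψ
  have hV : T ⊔ centralizerIn U T ≤ T ⊔ centralizerIn S T :=
    sup_le_sup_left (fun _ h => ⟨hUS h.1, h.2⟩) T
  have hfg : ∀ x : T, f x = ((g x : T) : Ω) := fun x =>
    (hfe ⟨x, Subgroup.mem_sup_left x.2⟩).trans (he x x.2 _)
  have hfc : ∀ c ∈ centralizerIn U T, f c ∈ centralizerIn U T := fun c hc => by
    refine ⟨mor_apply_mem hE.2.1 hf (hV (Subgroup.mem_sup_right hc)) hc.1, fun y hy => ?_⟩
    obtain ⟨x, hx⟩ := g.surjective ⟨y, hy⟩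
    rw [show y = f x by rw [hfg, hx], ← hf.map_mul (Subgroup.mem_sup_left x.2)
      (hV (Subgroup.mem_sup_right hc)), ← hf.map_mul (hV (Subgroup.mem_sup_right hc))
      (Subgroup.mem_sup_left x.2), hc.2 x x.2]
  obtain ⟨γ, hγ, hγe⟩ := exists_aut_of_self (hf.mono hV) le_rfl fun x hx =>
    mor_sup_mem (hf.mono hV) le_sup_left le_sup_right
      (fun y hy => Subgroup.mem_sup_left (Set.mem_of_eq_of_mem (hfg ⟨y, hy⟩) (g ⟨y, hy⟩).2))
      (fun c hc => Subgroup.mem_sup_right (hfc c hc)) hx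
  have hG : Agree le_sup_left γ g := fun x => (hγe _).trans (hfg x)
  obtain ⟨A, hA, hAa, hAm⟩ := ha
  have hVU : T ⊔ centralizerIn U T ≤ U := sup_le hTU (centralizerIn_le_S T)
  have hAF : γ * A * γ⁻¹ ∈ E.autGroup (T ⊔ centralizerIn U T) := by
    rw [← congr_eq_conj]
    exact autGroup_equiv hE hVU (isoIn_of_aut (hV.trans (sup_le hT.1 (centralizerIn_le_S T))) hγ) hA
  refine ⟨γ * A * γ⁻¹, hAF, (hG.mul hAa).mul hG.inv, fun c hc => ?_⟩
  obtain ⟨d, rfl⟩ := γ.surjective c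
  have hd : (d : Ω) ∈ centralizerIn U T := by
    have := map_cent hG.inv hVU hc
    rwa [MulAut.inv_apply_self] at this
  have h1 := hG.map_mem (x := d⁻¹ * A d) (hAm d hd)
  rw [map_mul, map_inv, Subgroup.coe_mul, InvMemClass.coe_inv] at h1
  simpa [MulAut.mul_apply] using h1

/-- Inner automorphisms extend. -/
theorem inn_le_modAut [Finite U] (hTU : T ≤ U) {a : MulAut T} (ha : a ∈ autInducedBy T T) :
    a ∈ modAut E hTU := by
  obtain ⟨t, ht, hte⟩ := mem_autInducedBy.1 ha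
  have hV : T ⊔ centralizerIn U T ≤ U := sup_le hTU (centralizerIn_le_S T)
  obtain ⟨A, hA, hAe⟩ := exists_aut_of_self (A := T ⊔ centralizerIn U T)
    (Mor.conj_mor (F := E) hV (hTU ht)) le_rfl fun x hx =>
    Subgroup.mul_mem _ (Subgroup.mul_mem _ (Subgroup.mem_sup_left ht) hx)
      (Subgroup.inv_mem _ (Subgroup.mem_sup_left ht))
  refine ⟨A, hA, fun x => (hAe _).trans (hte x).symm, fun c hc => ?_⟩
  rw [hAe]
  show (c : Ω)⁻¹ * (t * (c : Ω) * t⁻¹) ∈ T
  rw [hc.2 t ht, mul_inv_cancel_right, inv_mul_cancel]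
  exact one_mem _

/-- The extension condition gives membership. -/
theorem mem_modAut_of_normal {D : FusionSystem T} (hD : D.IsNormalIn E p) {a : MulAut T}
    (ha : a ∈ D.autGroup T) : a ∈ modAut E hD.1.2.2.2.1.1 := by
  obtain ⟨β, hβ, hβa, hβc⟩ := hD.2 a ha
  exact ⟨β, hβ, hβa, fun c hc => (hβc c hc).1⟩

/-- Membership gives the extension condition. -/
theorem ext_of_modAut (hTU : T ≤ U) {a : MulAut T} (ha : a ∈ modAut E hTU) :
    ∃ β ∈ E.autGroup (T ⊔ centralizerIn U T),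
      (∀ x : T, ((β (Subgroup.inclusion le_sup_left x) : ↥(T ⊔ centralizerIn U T)) : Ω) =
        ((a x : T) : Ω)) ∧
      ∀ c : ↥(T ⊔ centralizerIn U T), (c : Ω) ∈ centralizerIn U T →
        (c : Ω)⁻¹ * ((β c : ↥(T ⊔ centralizerIn U T)) : Ω) ∈
          T ⊓ Subgroup.centralizer (T : Set Ω) := by
  obtain ⟨β, hβ, hβa, hβc⟩ := ha
  exact ⟨β, hβ, hβa, fun c hc => ⟨hβc c hc, Subgroup.mul_mem _ (Subgroup.inv_mem _ hc.2)
    (map_cent hβa (sup_le hTU (centralizerIn_le_S T)) hc).2⟩⟩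

variable {T₁ T₂ : Subgroup Ω} {M : FusionSystem T₁} {N : FusionSystem T₂}

include hS in
/-- **The largest common normal subsystem over the intersection.** -/
theorem exists_normal_meet (h₁ : M.IsNormalIn F p) (h₂ : N.IsNormalIn F p) :
    ∃ D : FusionSystem (T₁ ⊓ T₂),
      (D.IsNormalIn F p ∧ D.IsNormalIn M p ∧ D.IsNormalIn N p) ∧
      ∀ D' : FusionSystem (T₁ ⊓ T₂), D'.IsNormalIn F p → D'.IsNormalIn M p →
        D'.IsNormalIn N p → D'.IsSubsystemOf D := by
  classical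
  have hF := h₁.1.2.1
  have hT₁ := h₁.1.2.2.2.1
  have hT₂ := h₂.1.2.2.2.1
  let T := T₁ ⊓ T₂
  have hA := fam_invMap hS hF h₁.1 h₂.1
  have hT : F.StronglyClosed T := hA.closed
  have hT₁' : T ≤ T₁ := inf_le_left
  have hT₂' : T ≤ T₂ := inf_le_right
  haveI : Finite T₁ := finite_of_le hT₁.1
  haveI : Finite T₂ := finite_of_le hT₂.1
  haveI : Finite T := finite_of_le hT.1
  haveI : Finite (MulAut T) := finite_mulAut
  have hp₁ := isPGroup_of_le hS hT₁.1
  have hp₂ := isPGroup_of_le hS hT₂.1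
  have hTp := isPGroup_of_le hS hT.1
  let K := genSystem F (fun P => fam F M N p P) hA.closed
  have hK : K.IsWeaklyNormalIn F p := genSystem_weaklyNormal hS hF hA
  have hKM : K.IsSubsystemOf M := genSystem_le hA.closed M inf_le_left
    (fun Q a hQ ha => fam_le_left h₁.1.2.2 hQ.1 ha) hA.le
  have hKN : K.IsSubsystemOf N := genSystem_le hA.closed N inf_le_right
    (fun Q a hQ ha => fam_le_right h₂.1.2.2 hQ.1 ha) hA.le
  have hKT : K.autGroup T = fam F M N p T :=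
    genSystem_autGroup hS hF hA (selfCentralizingIn_self hT)
  have hTc : F.IsFullyCentralized T := ⟨hT.1, fun Q ⟨φ, hφ, e⟩ => by
    rw [← e, (weaklyClosed_of_stronglyClosed hT).2 φ hφ]⟩
  -- the automorphisms of the support
  let B : Subgroup (MulAut T) := modAut F hT.1 ⊓ (modAut M hT₁' ⊓ modAut N hT₂')
  let H : Subgroup (MulAut T) := Subgroup.closure {a | a ∈ autInducedBy T T ∨
    (orderOf a).Coprime p ∧ a ∈ M.autGroup T ∧ a ∈ N.autGroup T ∧ a ∈ B}
  have hFF := (CompExists.isWeaklyNormal_self (S := S) hF).2.2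
  have hHB : H ≤ B := (Subgroup.closure_le _).2 fun a ha => ha.elim
    (fun h => ⟨inn_le_modAut _ h, inn_le_modAut _ h, inn_le_modAut _ h⟩) fun h => h.2.2.2
  have hHK : H ≤ K.autGroup T := by
    rw [hKT]
    refine (Subgroup.closure_le _).2 fun a ha => ha.elim (fun h => inn_le_fam hT.1 h) fun h => ?_
    exact cop_mem_fam ⟨h.1, h.2.1, h.2.2.1, (mem_modP_self hS hF hTc).2 h.2.2.2.1⟩
  have hHn : ∀ g ∈ F.autGroup T, ∀ a ∈ H, g * a * g⁻¹ ∈ H := by
    intro g hg a ha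
    suffices h : H ≤ H.comap (MulAut.conj g).toMonoidHom from h ha
    refine (Subgroup.closure_le _).2 ?_
    rintro b (hb | ⟨hco, hbM, hbN, hbF, hbM', hbN'⟩)
    · obtain ⟨t, ht, hte⟩ := mem_autInducedBy.1 hb
      refine Subgroup.subset_closure (Or.inl (mem_autInducedBy.2 ⟨(g ⟨t, ht⟩ : T), (g _).2, ?_⟩))
      intro x
      show ((g (b (g⁻¹ x)) : T) : Ω) = _
      have e : b (g⁻¹ x) = ⟨t, ht⟩ * g⁻¹ x * ⟨t, ht⟩⁻¹ := Subtype.ext (hte _)
      rw [e, map_mul, map_mul, map_inv, MulAut.apply_inv_self]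
      rfl
    · refine Subgroup.subset_closure (Or.inr ⟨?_, ?_, ?_, modAut_conj_sub hS hF hFF hT hT.1 hbF hg,
        modAut_conj_sub hS hF h₁.1.2.2 hT hT₁' hbM' hg,
        modAut_conj_sub hS hF h₂.1.2.2 hT hT₂' hbN' hg⟩)
      · exact (MulEquiv.orderOf_eq (MulAut.conj g) b).symm ▸ hco
      · have h := autGroup_equiv h₁.1.2.2 hT₁' (isoIn_of_aut hT.1 hg) hbM
        rwa [congr_eq_conj] at h
      · have h := autGroup_equiv h₂.1.2.2 hT₂' (isoIn_of_aut hT.1 hg) hbN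
        rwa [congr_eq_conj] at h
  have hin : ∀ D' : FusionSystem T, D'.IsNormalIn F p → D'.IsNormalIn M p → D'.IsNormalIn N p →
      D'.autGroup T ≤ H := by
    intro D' hF' hM' hN' a ha
    obtain ⟨⟨-, Sy, hSy⟩, -⟩ :=
      good_of_fullyNormalized p hTp hF'.1.1 (isFullyNormalized_S (S := T))
    suffices h : (⊤ : Subgroup (D'.autGroup T)) ≤ H.subgroupOf (D'.autGroup T) from
      Subgroup.mem_subgroupOf.1 (h (Subgroup.mem_top ⟨a, ha⟩))
    refine le_of_sylow_coprime p Sy le_top (fun c hc => ?_) fun c _ hco => ?_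
    · rw [hSy] at hc
      exact Subgroup.mem_subgroupOf.2 (Subgroup.subset_closure (Or.inl hc))
    · exact Subgroup.mem_subgroupOf.2 (Subgroup.subset_closure (Or.inr
        ⟨by rwa [Subgroup.orderOf_coe], autGroup_mono' hM'.1.2.2.1 T c.2,
          autGroup_mono' hN'.1.2.2.1 T c.2, mem_modAut_of_normal hF' c.2,
          mem_modAut_of_normal hM' c.2, mem_modAut_of_normal hN' c.2⟩))
  obtain ⟨E₀, hE₀⟩ := exists_pPrimeResidual p hTp hK.1
  have hE₀F := pPrimeResidual_normal hS hK hE₀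
  have hE₀M := pPrimeResidual_normal hp₁ (weaklyNormal_of_between hp₁ h₁.1.1 h₁.1.2.2.1 hKM hK) hE₀
  have hE₀N := pPrimeResidual_normal hp₂ (weaklyNormal_of_between hp₂ h₂.1.1 h₂.1.2.2.1 hKN hK) hE₀
  have hE₀K := pPrimeResidual_normal hTp (CompExists.isWeaklyNormal_self hK.1) hE₀
  have hE₀H : E₀.autGroup T ≤ H := hin E₀ hE₀F hE₀M hE₀N
  -- the subsystem with these automorphisms
  obtain ⟨D, hDs, hDK, hED, hDH⟩ : ∃ D : FusionSystem T, D.IsSaturated p ∧ D.IsSubsystemOf K ∧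
      E₀.IsSubsystemOf D ∧ D.autGroup T = H := by
    by_cases heq : H = K.autGroup T
    · exact ⟨K, hK.1, fun _ => subset_rfl, hE₀.2.1.1, heq.symm⟩
    let N' : Subgroup (K.autGroup T) := H.subgroupOf (K.autGroup T)
    haveI : N'.Normal := ⟨fun c hc g => Subgroup.mem_subgroupOf.2
      (hHn g (autGroup_mono' hK.2.2.1 T g.2) c (Subgroup.mem_subgroupOf.1 hc))⟩
    have hne : N' ≠ ⊤ := fun h => heq (le_antisymm hHK (Subgroup.subgroupOf_eq_top.1 h))
    haveI : Nontrivial (↥(K.autGroup T) ⧸ N') := QuotientGroup.nontrivial_iff.2 hne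
    obtain ⟨⟨-, Sy, hSy⟩, -⟩ :=
      good_of_fullyNormalized p hTp hK.1 (isFullyNormalized_S (S := T))
    have hSN : (Sy : Subgroup (K.autGroup T)) ≤ N' := fun c hc => by
      rw [hSy] at hc
      exact Subgroup.mem_subgroupOf.2 (Subgroup.subset_closure (Or.inl hc))
    have hco : (Nat.card (↥(K.autGroup T) ⧸ N')).Coprime p := by
      rw [← Subgroup.index_eq_card]
      exact ((Fact.out : p.Prime).coprime_iff_not_dvd.2 fun h =>
        Sy.not_dvd_index (h.trans (Subgroup.index_dvd_of_le hSN))).symm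
    obtain ⟨F₀, hF₀, -, hEF₀, haut, -⟩ := exists_character_subsystem (χ := QuotientGroup.mk' N') p
      hTp hK.1 hE₀K le_rfl (QuotientGroup.mk'_surjective _) hco (fun c hc => by
        rw [QuotientGroup.ker_mk']
        exact Subgroup.mem_subgroupOf.2 (hE₀H (Subgroup.mem_subgroupOf.1 hc)))
    refine ⟨F₀, hF₀.1.1, hF₀.1.2.2.1, hEF₀, Subgroup.ext fun a => ?_⟩
    rw [haut a]
    constructor
    · rintro ⟨-, β, hβ, hβe⟩
      have h1 : (β : MulAut T) = a := MulEquiv.ext fun t => Subtype.ext (hβe t)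
      rw [← h1]
      exact Subgroup.mem_subgroupOf.1 ((QuotientGroup.eq_one_iff β).1 hβ)
    · intro ha
      exact ⟨hHK ha, ⟨a, hHK ha⟩,
        (QuotientGroup.eq_one_iff _).2 (Subgroup.mem_subgroupOf.2 ha), fun _ => rfl⟩
  have hDF : D.IsSubsystemOf F := fun P φ hφ => hK.2.2.1 P (hDK P hφ)
  have hE₀D := weaklyNormal_of_between hTp hDs hDF hED hE₀F.1
  have hDw : D.IsWeaklyNormalIn F p := by
    refine ⟨hDs, hF, hDF, hT, fun P hP φ hφ α hα => ?_, fun P hP φ hφ => ?_⟩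
    · obtain ⟨γ, hγ, e, he, hfe⟩ := hE₀D.2.2.2.2.2 P hP φ hφ
      rw [hDH] at hγ
      obtain ⟨χ, hχ, hv⟩ := hE₀F.1.2.2.2.2.1 P hP e he α hα
      have hγ' : α * γ * α⁻¹ ∈ D.autGroup T := hDH ▸ hHn α hα γ hγ
      refine ⟨(T.subtype.comp (α * γ * α⁻¹).toMonoidHom).comp
        (χ.codRestrict T (fun y => apply_mem_S hχ y)),
        D.comp_mem (hED _ hχ) ((autGroup_carrier le_rfl).1 hγ') (fun y => apply_mem_S hχ y),
        fun x hφx hαx => ?_⟩
      show (((α * γ * α⁻¹) ⟨χ ⟨_, hαx⟩, _⟩ : T) : Ω) = _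
      have h1 := hv x (apply_mem_S he x) hαx
      rw [show (⟨χ ⟨((α ⟨x, hP x.2⟩ : T) : Ω), hαx⟩, apply_mem_S hχ _⟩ : T) =
        α ⟨e x, apply_mem_S he x⟩ from Subtype.ext h1, MulAut.mul_apply, MulAut.mul_apply,
        MulAut.inv_apply_self]
      exact congrArg (fun z : T => ((α z : T) : Ω)) (Subtype.ext (hfe x _).symm)
    · obtain ⟨α, hα, e, he, hfe⟩ := hE₀F.1.2.2.2.2.2 P hP φ hφ
      exact ⟨α, hα, e, hED P he, hfe⟩
  have hDM : D.IsSubsystemOf M := fun P φ hφ => hKM P (hDK P hφ)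
  have hDN : D.IsSubsystemOf N := fun P φ hφ => hKN P (hDK P hφ)
  refine ⟨D, ⟨⟨hDw, fun a ha => ext_of_modAut hT.1 (hHB (hDH.le ha)).1⟩,
    ⟨weaklyNormal_of_between hp₁ h₁.1.1 h₁.1.2.2.1 hDM hDw,
      fun a ha => ext_of_modAut hT₁' (hHB (hDH.le ha)).2.1⟩,
    weaklyNormal_of_between hp₂ h₂.1.1 h₂.1.2.2.1 hDN hDw,
      fun a ha => ext_of_modAut hT₂' (hHB (hDH.le ha)).2.2⟩, fun D' hF' hM' hN' P φ hφ => ?_⟩
  have hsub := pPrimeResidual_le_weaklyNormal hS hK hF'.1 hE₀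
  have hE₀D' := weaklyNormal_of_between hTp hF'.1.1 hF'.1.2.2.1 hsub hE₀F.1
  obtain ⟨γ, hγ, e, he, hfe⟩ := hE₀D'.2.2.2.2.2 P (le_of_mem_hom hφ) φ hφ
  exact comp_mem_of_eq (hED P he)
    ((autGroup_carrier le_rfl).1 (hDH.ge (hin D' hF' hM' hN' hγ)))
    (fun x => apply_mem_S he x) fun x => hfe x _

end CfsgLib.Meet
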