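import Cfsg.Agent.Fusion.Meet.CProdMain
import Cfsg.Agent.Fusion.Meet.GenFit
import Cfsg.Agent.Fusion.Quasisimple

/-!
Normal subsystems of a factor of a central product, and the product of two commuting normal
subsystems.
-/

set_option autoImplicit false
set_option linter.style.haveILetI false
set_option linter.unusedSectionVars false

open Cfsg Cfsg.FusionSystem CfsgLib.Fusion CfsgLib.FocCent CfsgLib.NormCent CfsgLib.NormExt

namespace CfsgLib.Meet

universe u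

variable {Ω : Type u} [Group Ω] {S T₁ T₂ T R : Subgroup Ω} {F : FusionSystem S}
  {E₁ : FusionSystem T₁} {E₂ : FusionSystem T₂} {D : FusionSystem T} {G : FusionSystem R} {p : ℕ}
  [Fact p.Prime]

/-- A saturated system is normal in itself. -/
theorem isNormalIn_self [Finite S] (hF : F.IsSaturated p) : F.IsNormalIn F p := by
  refine ⟨CompExists.isWeaklyNormal_self hF, fun α hα => ?_⟩
  obtain ⟨f, hf, hfi, hfe⟩ := exists_mor_of_aut le_rfl hα
  have hV : S ⊔ centralizerIn S S ≤ S := sup_le le_rfl (centralizerIn_le_S S)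
  obtain ⟨β, hβ, hβe⟩ := exists_aut_of_self (hf.mono hV) le_rfl fun x hx =>
    Subgroup.mem_sup_left (hfi.mem (hV hx))
  refine ⟨β, hβ, fun x => (hβe _).trans (hfe x), fun c hc => ?_⟩
  rw [hβe]
  refine ⟨S.mul_mem (S.inv_mem (hV c.2)) (hfi.mem (hV c.2)), ?_⟩
  refine Subgroup.mul_mem _ (Subgroup.inv_mem _ hc.2) fun y hy => ?_
  obtain ⟨x, hx, rfl⟩ := hfi.surj hy
  rw [← hf.map_mul hx (hV c.2), ← hf.map_mul (hV c.2) hx, hc.2 x hx]

/-- Automorphisms in the product of a subgroup of the first factor are automorphisms in it. -/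
theorem CPData.aut_left (h : CPData E₁ E₂ D) {P : Subgroup Ω} (hP : P ≤ T₁) {α : MulAut P}
    (hα : α ∈ D.autGroup P) : α ∈ E₁.autGroup P := by
  obtain ⟨f, hf, -, hfe⟩ := exists_mor_of_aut (hP.trans h.left_le) hα
  obtain ⟨φ, hφ, e⟩ := h.map_left hf hP
  exact (autGroup_carrier hP).2 (restrict_mem_of_eq hφ le_rfl fun x =>
    ((e x).trans (hfe x)).symm)

/-- A weakly normal subsystem of a factor is weakly normal in the product. -/
theorem CPData.weaklyNormal_of_factor (h : CPData E₁ E₂ D) (hD : D.IsSaturated p)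
    (hG : G.IsWeaklyNormalIn E₁ p) : G.IsWeaklyNormalIn D p := by
  obtain ⟨hGs, -, hsub, hR, hinv, hfr⟩ := hG
  have hRT := hR.1
  have hto : ∀ {P : Subgroup Ω} {φ : P →* Ω}, P ≤ R → φ ∈ D.Hom P → φ ∈ E₁.Hom P := by
    intro P φ hP hφ
    obtain ⟨f, hf, e⟩ := Mor.of_mem hφ
    obtain ⟨χ, hχ, eχ⟩ := h.map_left hf (hP.trans hRT)
    exact restrict_mem_of_eq hχ le_rfl fun x => ((eχ x).trans (e x)).symm
  refine ⟨hGs, hD, fun P φ hφ => h.sub_left P (hsub P hφ),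
    ⟨hRT.trans h.left_le, fun P hP φ hφ x => hR.2 P hP φ (hto hP hφ) x⟩,
    fun P hP φ hφ α hα => hinv P hP φ hφ α (h.aut_left hRT hα), fun P hP φ hφ => ?_⟩
  obtain ⟨α, hα, φ₀, hφ₀, he⟩ := hfr P hP φ (hto hP hφ)
  exact ⟨α, autGroup_mono' h.sub_left _ hα, φ₀, hφ₀, he⟩

/-- A normal subsystem of a factor is normal in the product. -/
theorem CPData.normal_of_factor [Finite T] (h : CPData E₁ E₂ D) (hD : D.IsSaturated p)
    (hG : G.IsNormalIn E₁ p) : G.IsNormalIn D p := by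
  refine ⟨h.weaklyNormal_of_factor hD hG.1, fun α hα => ?_⟩
  have hR : R ≤ T₁ := hG.1.2.2.2.1.1
  have hRT : R ≤ T := hR.trans h.left_le
  obtain ⟨β, hβ, hβa, hβc⟩ := hG.2 α hα
  have hV₁ : R ⊔ centralizerIn T₁ R ≤ T₁ := sup_le hR (centralizerIn_le_S R)
  obtain ⟨f₁, hf₁, hf₁i, hf₁e⟩ := exists_mor_of_aut hV₁ hβ
  obtain ⟨g, hg, hge'⟩ := h.mkMor hf₁ (Mor.id_mor (F := E₂) (U := T₂) le_rfl)
  have hge : ∀ a ∈ R ⊔ centralizerIn T₁ R, ∀ b ∈ T₂, g (a * b) = f₁ a * b := hge'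
  have hsplit : ∀ c ∈ centralizerIn T R, ∃ a ∈ centralizerIn T₁ R, ∃ b ∈ T₂, c = a * b := by
    intro c hc
    obtain ⟨a, ha, b, hb, rfl⟩ := h.exists_ab hc.1
    refine ⟨a, ⟨ha, fun x hx => ?_⟩, b, hb, rfl⟩
    have h1 : x * (a * b) = a * b * x := hc.2 x hx
    rw [mul_assoc a b x, ← h.comm x (hR hx) b hb, ← mul_assoc, ← mul_assoc] at h1
    exact mul_right_cancel h1
  have hV : R ⊔ centralizerIn T R ≤ (R ⊔ centralizerIn T₁ R) ⊔ T₂ := by
    refine sup_le (le_sup_left.trans le_sup_left) fun c hc => ?_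
    obtain ⟨a, ha, b, hb, rfl⟩ := hsplit c hc
    exact Subgroup.mul_mem _ (Subgroup.mem_sup_left (Subgroup.mem_sup_right ha))
      (Subgroup.mem_sup_right hb)
  have hga : ∀ x : R, g x = ((α x : R) : Ω) := fun x => by
    have h1 := hge x (Subgroup.mem_sup_left x.2) 1 (one_mem _)
    rw [mul_one, mul_one] at h1
    rw [h1, ← hβa x]
    exact hf₁e (Subgroup.inclusion le_sup_left x)
  have hgc : ∀ c ∈ centralizerIn T R, c⁻¹ * g c ∈ R ⊓ Subgroup.centralizer (R : Set Ω) := by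
    intro c hc
    obtain ⟨a, ha, b, hb, rfl⟩ := hsplit c hc
    rw [hge a (Subgroup.mem_sup_right ha) b hb]
    have h1 := hβc ⟨a, Subgroup.mem_sup_right ha⟩ ha
    rw [← hf₁e] at h1
    have h2 : (a * b)⁻¹ * (f₁ a * b) = a⁻¹ * f₁ a := by
      rw [mul_inv_rev, mul_assoc, ← mul_assoc a⁻¹, h.comm _ (hR h1.1) b hb, inv_mul_cancel_left]
    rw [h2]
    exact h1
  obtain ⟨γ, hγ, hγe⟩ := exists_aut_of_self (hg.mono hV) le_rfl fun x hx =>
    mor_sup_mem (hg.mono hV) le_sup_left le_sup_right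
      (fun y hy => Subgroup.mem_sup_left (Set.mem_of_eq_of_mem (hga ⟨y, hy⟩) (α ⟨y, hy⟩).2))
      (fun c hc => by
        have h1 := Subgroup.mul_mem _ (Subgroup.mem_sup_right hc : c ∈ R ⊔ centralizerIn T R)
          (Subgroup.mem_sup_left (hgc c hc).1)
        rwa [mul_inv_cancel_left] at h1) hx
  exact ⟨γ, hγ, fun x => (hγe _).trans (hga x), fun c hc => by rw [hγe]; exact hgc c hc⟩

section ambient

variable [Finite S] (hS : IsPGroup p S)

include hS in
/-- A weakly normal subsystem contains a normal one over the same group in which a centralized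
normal subgroup of the system meets the support centrally. -/
theorem exists_central_normal {E : FusionSystem T} (hE : E.IsWeaklyNormalIn F p) {W : Subgroup Ω}
    (hW : F.IsNormal W) (hTW : T ≤ centralizerIn S W) :
    ∃ K : FusionSystem T, K.IsNormalIn F p ∧ K.IsSubsystemOf E ∧ T ⊓ W ≤ K.center := by
  have hF := hE.2.1
  have hTS : T ≤ S := hE.2.2.2.1.1
  haveI : Finite T := finite_of_le hTS
  have hTp := isPGroup_of_le hS hTS
  obtain ⟨K, hK, hKE, hKC⟩ := exists_weaklyNormal_meet hS hF hE (CoreComp.centSystem_normal p hS hF hW).1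
  have heq : T ⊓ centralizerIn S W = T := inf_eq_left.2 hTW
  revert K hK hKE hKC
  rw [heq]
  intro K hK hKE hKC
  obtain ⟨K₀, hK₀⟩ := exists_pPrimeResidual p hTp hK.1
  have hN := pPrimeResidual_normal hS hK hK₀
  refine ⟨K₀, hN, fun P φ hφ => hKE P (hK₀.2.1.1 P hφ), le_center ?_⟩
  refine isCentral_of_fixed p hTp hK₀.1 inf_le_left fun x hx y hy => ?_
  obtain ⟨φ, hφ, hφy⟩ := hy
  obtain ⟨-, -, -, ψ, -, he, hf⟩ := hKC _ (hK₀.2.1.1 _ hφ)
  rw [← hφy, ← he ⟨x, Subgroup.mem_zpowers x⟩]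
  exact (apply_congr ψ rfl).trans (hf ⟨x, hx.2⟩)

include hS in
/-- **The product of two commuting normal subsystems.** -/
theorem exists_normal_product (h₁ : E₁.IsNormalIn F p) (h₂ : E₂.IsNormalIn F p)
    (hcomm : ∀ a ∈ T₁, ∀ b ∈ T₂, a * b = b * a) :
    ∃ (K₁ : FusionSystem T₁) (K₂ : FusionSystem T₂) (K : FusionSystem (T₁ ⊔ T₂)),
      K₁.IsNormalIn F p ∧ K₂.IsNormalIn F p ∧ K₁.IsSubsystemOf E₁ ∧ K₂.IsSubsystemOf E₂ ∧
        CPData K₁ K₂ K ∧ K.IsNormalIn F p := by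
  have hF := h₁.1.2.1
  have hT₁ := h₁.1.2.2.2.1
  have hT₂ := h₂.1.2.2.2.1
  haveI : Finite T₁ := finite_of_le hT₁.1
  haveI : Finite T₂ := finite_of_le hT₂.1
  have hW : F.IsNormal (T₁ ⊓ T₂) := isNormal_of_abelian p hS hF (stronglyClosed_meet hT₁ hT₂)
    ⟨⟨fun a b => Subtype.ext (hcomm a a.2.1 b b.2.2)⟩⟩
  obtain ⟨K₁, hK₁, hKE₁, hc₁⟩ := exists_central_normal hS h₁.1 hW fun a ha =>
    ⟨hT₁.1 ha, fun b hb => (hcomm a ha b hb.2).symm⟩
  obtain ⟨K₂, hK₂, hKE₂, hc₂⟩ := exists_central_normal hS h₂.1 hW fun b hb =>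
    ⟨hT₂.1 hb, fun a ha => hcomm a ha.1 b hb⟩
  obtain ⟨K, hK⟩ := exists_isCentralProductOf hcomm ((le_inf inf_le_left le_rfl).trans hc₁)
    ((le_inf inf_le_right le_rfl).trans hc₂)
  have hcp := CPData.of_isCentralProductOf hK
  exact ⟨K₁, K₂, K, hK₁, hK₂, hKE₁, hKE₂, hcp, cprod_normal hS hK₁ hK₂ hcp
    (saturated_of_centralProduct (isPGroup_of_le hS hT₁.1) (isPGroup_of_le hS hT₂.1) hK₁.1.1
      hK₂.1.1 hK)⟩

end ambient

/-- A subgroup generated by subgroups all centralizing a subgroup of it commutes on it. -/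
theorem commute_of_le_sup {ι : Type*} {X : Subgroup Ω} {A : ι → Subgroup Ω} (hX : X ≤ ⨆ i, A i)
    (h : ∀ i, X ≤ Subgroup.centralizer (A i : Set Ω)) : IsMulCommutative X :=
  ⟨⟨fun a b => Subtype.ext (by
    have hle : (⨆ i, A i) ≤ Subgroup.centralizer ({(a : Ω)} : Set Ω) :=
      iSup_le fun i y hy => Subgroup.mem_centralizer_iff.2 fun g hg => by
        rw [Set.mem_singleton_iff.1 hg]
        exact ((h i a.2) y hy).symm
    exact Subgroup.mem_centralizer_iff.1 (hle (hX b.2)) a rfl)⟩⟩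

end CfsgLib.Meet
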