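import Cfsg.Agent.Fusion.Meet.Sylow

/-!
The family of the meet of two weakly normal subsystems is stable under restriction.
-/

set_option autoImplicit false
set_option linter.style.haveILetI false
set_option linter.unusedSectionVars false

open Cfsg Cfsg.FusionSystem CfsgLib.Fusion CfsgLib.FocCent CfsgLib.NormCent CfsgLib.NormExt

namespace CfsgLib.Meet

universe u

variable {Ω : Type u} [Group Ω] {S T₁ T₂ : Subgroup Ω} {F : FusionSystem S}
  {M : FusionSystem T₁} {N : FusionSystem T₂} {p : ℕ}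

variable [Finite S] [Fact p.Prime] (hS : IsPGroup p S) (hF : F.IsSaturated p)
  (hM : M.IsWeaklyNormalIn F p) (hN : N.IsWeaklyNormalIn F p)

include hS hF hM hN in
theorem fam_base : IsInvBase F p (T₁ ⊓ T₂) (fun P => fam F M N p P) where
  closed := stronglyClosed_meet hM.2.2.2.1 hN.2.2.2.1
  le hP := fam_le_F hM.2.2 hP.1
  equiv hP he _ ha := fam_equiv hM.2.2 hN.2.2 hP.1 he ha
  inn hP := inn_le_fam (hP.1.trans (stronglyClosed_meet hM.2.2.2.1 hN.2.2.2.1).1)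
  sylow hP hn _ hB h1 h2 := fam_sylow hS hF hn hM hN hP hB h1 h2

/-- Conjugation of an element of the subgroup by an element normalizing it. -/
theorem exists_conj_aut_of_mem {U : Subgroup Ω} (hU : U ≤ S) {g : Ω} (hg : g ∈ normalizerIn S U) :
    ∃ c ∈ F.autGroup U, ∀ x : U, ((c x : U) : Ω) = g * x * g⁻¹ :=
  ⟨conjAut S U ⟨g, hg⟩,
    autInducedBy_le_autGroup hU (mem_autInducedBy.2 ⟨g, hg.1, fun _ => rfl⟩), fun _ => rfl⟩

variable {P U : Subgroup Ω}

include hS hF hM hN in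
/-- The normal case at a fully normalized member: an element of order prime to `p` restricts into
`modP`. -/
theorem modP_restr_normal (hP : SelfCentralizingIn F (T₁ ⊓ T₂) P) (hn : F.IsFullyNormalized P)
    (hPU : P ≤ U) (hU : U ≤ normalizerIn (T₁ ⊓ T₂) P) {γ : MulAut U}
    (hγ : γ ∈ fam F M N p U) {a : MulAut P} (hag : Agree hPU γ a) (hco : (orderOf a).Coprime p) :
    a ∈ modP F P := by
  classical
  have hb := fam_base hS hF hM hN
  have hR := hb.closed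
  have hRn := stronglyClosed_normal_in_S hR
  have hPS : P ≤ S := hn.1
  have hUR : U ≤ T₁ ⊓ T₂ := hU.trans (normalizerIn_le_S P)
  have hUS : U ≤ S := hUR.trans hR.1
  have hUsc := hP.mono hPU hUR
  have hc := fullyCentralized_of_fullyNormalized p hS hF hn
  have hUc := fullyCentralized_mid hS hF hR hP hc hPU hU
  let V₀ := U ⊔ centralizerIn S U
  have hV₀S : V₀ ≤ S := sup_le hUS (centralizerIn_le_S U)
  have hUV₀ : U ≤ V₀ := le_sup_left
  obtain ⟨B, hB, hBa, hBm⟩ :=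
    (mem_modP_self hS hF hUc).1 (fam_le_modP hS hF hM.2.2 hN.2.2 hUsc hγ)
  have hBst : B ∈ modStab U V₀ := fun v => by
    obtain ⟨u, hu, c, hc', hv⟩ := exists_mul_sup v.2
    have hve : v = Subgroup.inclusion le_sup_left (⟨u, hu⟩ : U) *
        Subgroup.inclusion le_sup_right (⟨c, hc'⟩ : centralizerIn S U) := Subtype.ext hv
    rw [hve, map_mul, Subgroup.coe_mul, Subgroup.coe_mul, hBa]
    show (u * c)⁻¹ * (((γ ⟨u, hu⟩ : U) : Ω) * _) ∈ U
    rw [show (u * c)⁻¹ * (((γ ⟨u, hu⟩ : U) : Ω) *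
      ((B (Subgroup.inclusion le_sup_right (⟨c, hc'⟩ : centralizerIn S U)) : ↥V₀) : Ω)) =
      c⁻¹ * (u⁻¹ * ((γ ⟨u, hu⟩ : U) : Ω)) *
      ((B (Subgroup.inclusion le_sup_right (⟨c, hc'⟩ : centralizerIn S U)) : ↥V₀) : Ω) by group]
    have hx : u⁻¹ * ((γ ⟨u, hu⟩ : U) : Ω) ∈ U := mul_mem (U.inv_mem hu) (γ ⟨u, hu⟩).2
    rw [← ((centralizerIn S U).inv_mem hc').2 _ hx, mul_assoc]
    exact mul_mem hx (hBm (Subgroup.inclusion le_sup_right ⟨c, hc'⟩) hc')
  have hUnorm : ∀ x ∈ centralizerIn S P, x ∈ normalizerIn S U := by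
    intro x hx
    refine ⟨hx.1, mem_normalizer_of_conj_mem hUS fun u hu => ?_⟩
    have huR : x * u * x⁻¹ ∈ T₁ ⊓ T₂ :=
      (Subgroup.mem_normalizer_iff.1 (hRn hx.1) u).1 (hUR hu)
    have hd : u⁻¹ * (x * u * x⁻¹) ∈ centralizerIn (T₁ ⊓ T₂) P := by
      refine ⟨mul_mem ((T₁ ⊓ T₂).inv_mem (hUR hu)) huR, diff_mem_centralizer fun z hz => ?_⟩
      have h1 : x⁻¹ * z * x = z := by
        rw [mul_assoc, hx.2 z hz, ← mul_assoc, inv_mul_cancel, one_mul]
      have h2 : u * z * u⁻¹ ∈ P := (Subgroup.mem_normalizer_iff.1 (hU hu).2 z).1 hz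
      rw [show x * u * x⁻¹ * z * (x * u * x⁻¹)⁻¹ = x * (u * (x⁻¹ * z * x) * u⁻¹) * x⁻¹ by group,
        h1, conj_eq_of_mem_centralizerIn hx h2]
    have h3 := mul_mem hu (hPU (centralizer_le_of_sc hP hPS hd))
    rwa [mul_inv_cancel_left] at h3
  have hV₀norm : ∀ x ∈ normalizerIn S U, x ∈ normalizerIn S V₀ := by
    intro x hx
    refine ⟨hx.1, mem_normalizer_sup hUS (centralizerIn_le_S U) hx.2
      (mem_normalizer_of_conj_mem (centralizerIn_le_S U) fun c hc' => ?_)⟩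
    refine ⟨mul_mem (mul_mem hx.1 hc'.1) (S.inv_mem hx.1), fun z hz => ?_⟩
    have hz' : x⁻¹ * z * x ∈ U := (Subgroup.mem_normalizer_iff''.1 hx.2 z).1 hz
    calc z * (x * c * x⁻¹) = x * ((x⁻¹ * z * x) * c) * x⁻¹ := by group
      _ = x * (c * (x⁻¹ * z * x)) * x⁻¹ := by rw [hc'.2 _ hz']
      _ = x * c * x⁻¹ * z := by group
  haveI : Finite U := finite_of_le hUS
  haveI : Finite V₀ := finite_of_le hV₀S
  haveI : Finite (MulAut U) := finite_mulAut
  haveI : Finite (MulAut V₀) := finite_mulAut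
  -- the partner of an element centralizing `P`
  have hpartner : ∀ (x : Ω) (hx : x ∈ centralizerIn S P), ∃ v ∈ V₀, ∀ y : V₀,
      B ⟨x * y * x⁻¹, (Subgroup.mem_normalizer_iff.1 (hV₀norm x (hUnorm x hx)).2 _).1 y.2⟩ =
        (v * x) * ((B y : V₀) : Ω) * (v * x)⁻¹ := by
    intro x hx
    obtain ⟨χ, hχ, hχe⟩ := exists_conj_aut_of_mem (F := F) hUS (hUnorm x hx)
    obtain ⟨X, hX, hXe⟩ := exists_conj_aut_of_mem (F := F) hV₀S (hV₀norm x (hUnorm x hx))
    have hfix : ∀ w : U, (w : Ω) ∈ P → χ w = w := fun w hw =>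
      Subtype.ext (by rw [hχe, conj_eq_of_mem_centralizerIn hx hw])
    have hfix' : ∀ w : U, (w : Ω) ∈ P → χ⁻¹ w = w := fun w hw => by
      conv_lhs => rw [← hfix w hw]
      exact MulAut.inv_apply_self _ χ w
    have hδ₀ : γ * (χ * γ⁻¹ * χ⁻¹) ∈ fam F M N p U := by
      refine mul_mem hγ ?_
      rw [← congr_eq_conj]
      exact fam_equiv hM.2.2 hN.2.2 hUR (isoIn_of_aut hUS hχ) (inv_mem hγ)
    obtain ⟨z, hz, hzc, hze⟩ := hb.uniq hS hP hPU hU hδ₀ fun w hw => by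
      show γ (χ (γ⁻¹ (χ⁻¹ w))) = w
      rw [hfix' w hw, hfix _ (hag.inv.map_mem hw), MulAut.apply_inv_self]
    obtain ⟨Z, hZ, hZe⟩ := exists_conj_aut_of_mem (F := F) hV₀S
      (hV₀norm z ⟨hPS hz, Subgroup.le_normalizer (hPU hz)⟩)
    have hZst : Z ∈ modStab U V₀ := fun v => by
      rw [hZe]
      obtain ⟨u, hu, c, hc', hv⟩ := exists_mul_sup v.2
      rw [hv, show (u * c)⁻¹ * (z * (u * c) * z⁻¹) = c⁻¹ * (u⁻¹ * z * u) * (c * z⁻¹) by group,
        ← ((centralizerIn S U).inv_mem hc').2 _ (mul_mem (mul_mem (U.inv_mem hu) (hPU hz)) hu),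
        show u⁻¹ * z * u * c⁻¹ * (c * z⁻¹) = u⁻¹ * z * u * z⁻¹ by group]
      exact mul_mem (mul_mem (mul_mem (U.inv_mem hu) (hPU hz)) hu) (U.inv_mem (hPU hz))
    let δ : MulAut V₀ := B * X * B⁻¹ * X⁻¹ * Z⁻¹
    have hXU : ∀ v : V₀, (v : Ω) ∈ U → ((X v : V₀) : Ω) ∈ U := fun v hv => by
      rw [hXe]
      exact (Subgroup.mem_normalizer_iff.1 (hUnorm x hx).2 _).1 hv
    have hδst : δ ∈ modStab U V₀ := by
      rw [show δ = B * (X * B⁻¹ * X⁻¹) * Z⁻¹ by simp only [δ, mul_assoc]]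
      exact mul_mem (mul_mem hBst (modStab_conj hXU (inv_mem hBst))) (inv_mem hZst)
    have hδF : δ ∈ F.autGroup V₀ :=
      mul_mem (mul_mem (mul_mem (mul_mem hB hX) (inv_mem hB)) (inv_mem hX)) (inv_mem hZ)
    have hχX : Agree hUV₀ X χ := fun w => by rw [hXe, hχe]; rfl
    obtain ⟨ζ, hζ, hζe⟩ := exists_conj_aut_of_mem (F := F) hUS
      (g := z) ⟨hPS hz, Subgroup.le_normalizer (hPU hz)⟩
    have hζZ : Agree hUV₀ Z ζ := fun w => by rw [hZe, hζe]; rfl
    have hζeq : γ * χ * γ⁻¹ * χ⁻¹ = ζ := by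
      rw [show γ * χ * γ⁻¹ * χ⁻¹ = γ * (χ * γ⁻¹ * χ⁻¹) by simp only [mul_assoc]]
      exact MulEquiv.ext fun w => Subtype.ext ((hze w).trans (hζe w).symm)
    have hδ1 : Agree le_sup_left δ (1 : MulAut U) := by
      have h1 := ((((hBa.mul hχX).mul hBa.inv).mul hχX.inv).mul hζZ.inv)
      rwa [hζeq, mul_inv_cancel] at h1
    obtain ⟨k, hk⟩ := exists_pow_eq_one_of_fix hS hUV₀ hV₀S
      (fun w hw => Subtype.ext (hδ1 ⟨w, hw⟩)) hδst
    obtain ⟨w, hw, hwe⟩ := fix_mem_induced p hS hF hUc hδF hδ1 hk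
    refine ⟨w * z, mul_mem (Subgroup.mem_sup_right hw) (hUV₀ (hPU hz)), fun y => ?_⟩
    have h2 : δ (Z (X (B y))) = B (X y) := by simp [δ, MulAut.mul_apply]
    have h3 : (B (X y) : Ω) = w * (z * (x * ((B y : V₀) : Ω) * x⁻¹) * z⁻¹) * w⁻¹ := by
      rw [← h2, hwe, hZe, hXe]
    rw [show (⟨x * y * x⁻¹, _⟩ : V₀) = X y from Subtype.ext (hXe y).symm, h3]
    group
  -- extension to `V₀ C_S(P)`
  have hV₀F := (autGroup_carrier hV₀S).1 hB
  let Y := V₀ ⊔ centralizerIn S P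
  have hYS : Y ≤ S := sup_le hV₀S (centralizerIn_le_S P)
  have hV₀c : F.IsFullyCentralized V₀ :=
    isFullyCentralized_of_centric (isCentric_sup_centralizer hUc)
  obtain ⟨ψ, hψ, hψe⟩ := saturated_extend p hS hF hV₀F (by rw [range_subtype_comp]; exact hV₀c)
    (N := Y) (sup_le (le_extender hV₀F) fun x hx => by
      obtain ⟨v, hv, hve⟩ := hpartner x hx
      exact mem_extender_of (hV₀norm x (hUnorm x hx)) (h := v * x)
        (mul_mem (hV₀S hv) hx.1) fun y _ => hve y)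
  have hPY : P ≤ Y := (hPU.trans hUV₀).trans le_sup_left
  have hmP : (P.subgroupOf Y).map ψ = P := by
    ext y
    rw [mem_map_subgroupOf]
    constructor
    · rintro ⟨x, hx, hxP, rfl⟩
      rw [hψe x (hUV₀ (hPU hxP)) hx]
      have h1 := hBa ⟨x, hPU hxP⟩
      exact Set.mem_of_eq_of_mem h1 (hag.map_mem (x := ⟨x, hPU hxP⟩) hxP)
    · intro hy
      let q : P := a⁻¹ ⟨y, hy⟩
      refine ⟨q, hPY q.2, q.2, ?_⟩
      rw [hψe (q : Ω) (hUV₀ (hPU q.2)) _]
      refine (hBa ⟨q, hPU q.2⟩).trans ((hag q).trans ?_)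
      exact congrArg Subtype.val (MulAut.apply_inv_self _ a ⟨y, hy⟩)
  have hψr : ψ.range = Y := by
    refine eq_of_le_of_card_le hYS ?_ (card_range hψ).ge
    rintro _ ⟨⟨y, hy⟩, rfl⟩
    have hle : Y ≤ (Y.comap ψ).map Y.subtype := by
      refine sup_le (fun x hx => ⟨⟨x, Subgroup.mem_sup_left hx⟩, ?_, rfl⟩)
        fun x hx => ⟨⟨x, Subgroup.mem_sup_right hx⟩, ?_, rfl⟩
      · show ψ _ ∈ Y
        rw [hψe x hx _]
        exact Subgroup.mem_sup_left (B ⟨x, hx⟩).2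
      · have h1 := map_mem_centralizerIn hψ (P := P) hPY hx (Subgroup.mem_sup_right hx)
        rw [hmP] at h1
        exact Subgroup.mem_sup_right h1
    obtain ⟨w, hw, hwe⟩ := hle hy
    rwa [show w = ⟨y, hy⟩ from Subtype.ext hwe] at hw
  let β := autOfRange ψ (F.injective_of_mem hψ) hψr
  have hβ : β ∈ F.autGroup Y := autOfRange_mem hψ hψr
  have hβB : Agree (le_sup_left : V₀ ≤ Y) β B := fun v => hψe v v.2 _
  have hβP : Agree hPY β a := fun x =>
    (hβB ⟨x, hUV₀ (hPU x.2)⟩).trans ((hBa ⟨x, hPU x.2⟩).trans (hag x))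
  have hβC : ∀ x : Y, (x : Ω) ∈ centralizerIn S P → (x : Ω)⁻¹ * ((β x : Y) : Ω) ∈ V₀ := by
    intro x hx
    obtain ⟨v, hv, hve⟩ := hpartner x hx
    have h1 : (v * x)⁻¹ * ((β x : Y) : Ω) ∈ centralizerIn S V₀ := by
      refine ⟨mul_mem (S.inv_mem (mul_mem (hV₀S hv) hx.1)) (hYS (β x).2),
        diff_mem_centralizer fun z hz => ?_⟩
      obtain ⟨y, hy⟩ := B.surjective ⟨z, hz⟩
      have hc1 : ((β x : Y) : Ω) * ((B y : V₀) : Ω) * ((β x : Y) : Ω)⁻¹ =
          (β (x * Subgroup.inclusion le_sup_left y * x⁻¹) : Y) := by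
        rw [map_mul, map_mul, map_inv, Subgroup.coe_mul, Subgroup.coe_mul, InvMemClass.coe_inv,
          hβB]
      rw [show z = ((B y : V₀) : Ω) from (congrArg Subtype.val hy).symm, hc1]
      exact (hβB ⟨(x : Ω) * (y : Ω) * (x : Ω)⁻¹,
        (Subgroup.mem_normalizer_iff.1 (hV₀norm _ (hUnorm _ hx)).2 _).1 y.2⟩).trans (hve y)
    have h2 : (v * x)⁻¹ * ((β x : Y) : Ω) ∈ V₀ :=
      Subgroup.mem_sup_right ⟨h1.1, fun u hu => h1.2 u (hUV₀ hu)⟩
    have h3 : (x : Ω)⁻¹ * v * x ∈ V₀ :=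
      (Subgroup.mem_normalizer_iff''.1 (hV₀norm _ (hUnorm _ hx)).2 v).1 hv
    have h4 := mul_mem h3 h2
    rwa [show (x : Ω)⁻¹ * v * x * ((v * x)⁻¹ * ((β x : Y) : Ω)) =
      (x : Ω)⁻¹ * ((β x : Y) : Ω) by group] at h4
  -- the part of order prime to `p`
  haveI : Finite Y := finite_of_le hYS
  haveI : Finite (MulAut Y) := finite_mulAut
  obtain ⟨e, he1, he2⟩ := ConstrainedNormal.exists_pow_coprime p β
  have hae : a ^ e = a :=
    he2 a hco (orderOf_dvd_of_pow_eq_one ((hβP.pow _).eq_one (pow_orderOf_eq_one β)))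
  let b := β ^ e
  have hbP : Agree hPY b a := by
    have h := hβP.pow e
    rwa [hae] at h
  have hbV : Agree (le_sup_left : V₀ ≤ Y) b (B ^ e) := hβB.pow e
  have hbC : ∀ n : ℕ, ∀ x : Y, (x : Ω) ∈ centralizerIn S P →
      (x : Ω)⁻¹ * (((β ^ n) x : Y) : Ω) ∈ V₀ := by
    intro n
    induction n with
    | zero => intro x _; simp
    | succ n ih =>
      intro x hx
      have := mul_mem (hβC x hx) (ih (β x) (map_cent hβP hYS hx))
      simpa [pow_succ, mul_assoc] using this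
  have hbR : ∀ x : Y, (x : Ω) ∈ centralizerIn S P →
      (x : Ω)⁻¹ * ((b x : Y) : Ω) ∈ P := by
    intro x hx
    let d : Y := x⁻¹ * b x
    have hdV : (d : Ω) ∈ V₀ := hbC e x hx
    have hstep : ∀ n : ℕ, ((b ^ n) x : Y) ∈ {y : Y | (((x * d ^ n)⁻¹ * y : Y) : Ω) ∈ T₁ ⊓ T₂} := by
      intro n
      induction n with
      | zero => simp
      | succ n ih =>
        simp only [Set.mem_setOf_eq] at ih ⊢
        let r : Y := (x * d ^ n)⁻¹ * (b ^ n) x
        have hbd : (((d ^ n)⁻¹ * b (d ^ n) : Y) : Ω) ∈ T₁ ⊓ T₂ := by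
          have hdn : ((d ^ n : Y) : Ω) ∈ V₀ := by simpa using pow_mem hdV n
          refine hUR ?_
          have h1 := (pow_mem hBst e) ⟨_, hdn⟩
          rw [← hbV ⟨_, hdn⟩] at h1
          exact h1
        have hbr : ((b r : Y) : Ω) ∈ T₁ ⊓ T₂ :=
          map_mem_of_stronglyClosed hR ((autGroup_carrier hYS).1 (pow_mem hβ e)) (x := r) ih
        have e1 : (x * d ^ (n + 1))⁻¹ * (b ^ (n + 1)) x =
            ((d ^ n)⁻¹ * b (d ^ n)) * b r := by
          rw [show (b ^ (n + 1)) x = b ((x * d ^ n) * r) by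
            simp only [r, mul_inv_cancel_left]; rw [pow_succ', MulAut.mul_apply],
            map_mul, map_mul, show b x = x * d by simp [d]]
          group
        rw [e1, Subgroup.coe_mul]
        exact mul_mem hbd hbr
    have hfin := hstep (orderOf b)
    simp only [Set.mem_setOf_eq, pow_orderOf_eq_one, MulAut.one_apply, mul_inv_rev,
      inv_mul_cancel_right] at hfin
    have hm : ((d : Ω) ^ orderOf b) ∈ T₁ ⊓ T₂ := by
      have := inv_mem hfin
      simpa using this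
    have hdR : (d : Ω) ∈ T₁ ⊓ T₂ := by
      obtain ⟨k, hk⟩ := (isPGroup_of_le hS hYS) d
      have hk' : (d : Ω) ^ p ^ k = 1 := congrArg Subtype.val hk
      have h1 : (d : Ω) ^ Nat.gcd (orderOf b) (p ^ k) ∈ T₁ ⊓ T₂ := by
        rw [← zpow_natCast, Nat.gcd_eq_gcd_ab, zpow_add, zpow_mul, zpow_mul, zpow_natCast,
          zpow_natCast, hk', one_zpow, mul_one]
        exact zpow_mem hm _
      rwa [(he1.pow_right k).gcd_eq_one, pow_one] at h1
    refine centralizer_le_of_sc hP hPS ⟨hdR, ?_⟩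
    exact (mul_mem (inv_mem hx) (map_cent hbP hYS hx)).2
  rw [mem_modP_self hS hF hc]
  have hPC : P ⊔ centralizerIn S P ≤ Y := sup_le hPY le_sup_right
  haveI : Finite ↥(P ⊔ centralizerIn S P) := finite_of_le (hPC.trans hYS)
  obtain ⟨A, hA⟩ := exists_agree hPC b fun x hx => by
    obtain ⟨u, hu, c, hc', hv⟩ := exists_mul_sup hx
    have hxe : x = Subgroup.inclusion hPY (⟨u, hu⟩ : P) *
        (⟨c, Subgroup.mem_sup_right hc'⟩ : Y) := Subtype.ext hv
    rw [hxe, map_mul, Subgroup.coe_mul, hbP]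
    exact mul_mem (Subgroup.mem_sup_left (a ⟨u, hu⟩).2)
      (Subgroup.mem_sup_right (map_cent hbP hYS (x := ⟨c, Subgroup.mem_sup_right hc'⟩) hc'))
  refine ⟨A, hA.mem hYS (pow_mem hβ e), fun x => (hA _).symm.trans (hbP x), fun c hc' => ?_⟩
  rw [← hA c]
  exact hbR (Subgroup.inclusion hPC c) hc'

include hS hF hM hN in
/-- The normal case: an element of order prime to `p` restricts into `modP`. -/
theorem modP_restr (hP : SelfCentralizingIn F (T₁ ⊓ T₂) P) (hPU : P ≤ U)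
    (hU : U ≤ normalizerIn (T₁ ⊓ T₂) P) {γ : MulAut U} (hγ : γ ∈ fam F M N p U) {a : MulAut P}
    (hag : Agree hPU γ a) (hco : (orderOf a).Coprime p) : a ∈ modP F P := by
  have hb := fam_base hS hF hM hN
  have hR := hb.closed
  have hPS : P ≤ S := hP.1.trans hR.1
  have hUR : U ≤ T₁ ⊓ T₂ := hU.trans (normalizerIn_le_S P)
  obtain ⟨Q, f, hQ, hf, hfi⟩ := exists_mor_normalizer hS hF hPS
  have hUN : U ≤ normalizerIn S P := fun x hx => ⟨hR.1 (hUR hx), (hU hx).2⟩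
  obtain ⟨U', hU'⟩ := hf.exists_im hUN
  obtain ⟨e, he, hee⟩ := exists_isoIn hf (le_normalizerIn hPS) hfi
  obtain ⟨E, hE, hEe⟩ := exists_isoIn hf hUN hU'
  have hQU : Q ≤ U' := fun y hy => by
    obtain ⟨x, hx, rfl⟩ := hfi.surj hy
    exact hU'.mem (hPU hx)
  have hU'N : U' ≤ normalizerIn (T₁ ⊓ T₂) Q := fun y hy => by
    obtain ⟨x, hx, rfl⟩ := hU'.surj hy
    exact ⟨mor_apply_mem hR hf (hUN hx) (hUR hx),
      (hf.mem_normalizerIn (le_normalizerIn hPS) hfi (hUN hx) (hUN hx).2).2⟩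
  have h1 := modP_restr_normal hS hF hM hN (hP.of_isConj hR he.isConj) hQ hQU hU'N
    (fam_equiv hM.2.2 hN.2.2 hUR hE hγ) (a := MulAut.congr e a)
    (agree_congr hQU (fun x => (hEe _).trans (hee x).symm) hag)
    (by rw [MulEquiv.orderOf_eq]; exact hco)
  have h2 := modP_equiv he.symm h1
  rwa [congr_symm_congr] at h2

include hS hF hM hN in
/-- The normal case. -/
theorem fam_restr_normal (hP : SelfCentralizingIn F (T₁ ⊓ T₂) P) (hPU : P ≤ U)
    (hU : U ≤ normalizerIn (T₁ ⊓ T₂) P) {γ : MulAut U} (hγ : γ ∈ fam F M N p U) {a : MulAut P}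
    (hag : Agree hPU γ a) : a ∈ fam F M N p P := by
  have hb := fam_base hS hF hM hN
  have hR := hb.closed
  have hUR : U ≤ T₁ ⊓ T₂ := hU.trans (normalizerIn_le_S P)
  have hUS : U ≤ S := hUR.trans hR.1
  haveI : Finite U := finite_of_le hUS
  haveI : Finite (MulAut U) := finite_mulAut
  obtain ⟨i, j, hi, ⟨k, hk⟩, hij⟩ := exists_parts p γ
  have haij : a ^ j * a ^ i = a := by
    have h := (hag.pow j).mul (hag.pow i)
    rw [hij] at h
    exact agree_unique h hag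
  rw [← haij]
  refine mul_mem ?_ (cop_mem_fam ⟨?_, ?_, ?_, ?_⟩)
  · obtain ⟨U', e, r, c, he, hr, hc, hce⟩ :=
      hb.exists_transport hS (hP.mono hPU hUR) (pow_mem hγ j) ⟨k, hk⟩
    obtain ⟨f, hf, hfi, hfe⟩ := he.symm.exists_mor
    obtain ⟨P', hP'⟩ := hf.exists_im hPU
    obtain ⟨e₀, he₀, he₀e⟩ := exists_isoIn hf hPU hP'
    have key : ∀ x : P, ((MulAut.congr e₀ (a ^ j) (e₀ x) : P') : Ω) =
        r * ((e₀ x : P') : Ω) * r⁻¹ := by
      intro x
      have hx : Subgroup.inclusion hPU ((a ^ j) x) = (γ ^ j) (Subgroup.inclusion hPU x) :=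
        Subtype.ext ((hag.pow j) x).symm
      rw [congr_apply_apply, he₀e, he₀e]
      have h1 := hfe (Subgroup.inclusion hPU ((a ^ j) x))
      refine h1.trans ?_
      rw [hx, ← hce]
      refine (congrArg Subtype.val (show e.symm (MulAut.congr e c (Subgroup.inclusion hPU x)) =
        c (e.symm (Subgroup.inclusion hPU x)) by simp)).trans ?_
      rw [hc]
      exact congrArg (fun y => r * y * r⁻¹) (hfe (Subgroup.inclusion hPU x)).symm
    have key' : ∀ y : P', ((MulAut.congr e₀ (a ^ j) y : P') : Ω) = r * (y : Ω) * r⁻¹ := fun y => by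
      obtain ⟨x, rfl⟩ := e₀.surjective y
      exact key x
    exact trans_mem_fam ⟨P', e₀.symm, r, MulAut.congr e₀ (a ^ j), he₀.symm,
      ⟨hr.1, mem_normalizer_of_aut key'⟩, key', congr_symm_congr _ _⟩
  · exact Nat.Coprime.coprime_dvd_left
      (orderOf_dvd_of_pow_eq_one (((hag.pow i).pow _).eq_one (pow_orderOf_eq_one _))) hi
  · exact (hag.pow i).mem (hUR.trans inf_le_left)
      (pow_mem (fam_le_left hM.2.2 hUR hγ) i)
  · exact (hag.pow i).mem (hUR.trans inf_le_right)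
      (pow_mem (fam_le_right hN.2.2 hUR hγ) i)
  · exact modP_restr hS hF hM hN hP hPU hU (pow_mem hγ i) (hag.pow i)
      (Nat.Coprime.coprime_dvd_left
        (orderOf_dvd_of_pow_eq_one (((hag.pow i).pow _).eq_one (pow_orderOf_eq_one _))) hi)

include hS hF hM hN in
/-- **The family is stable under restriction.** -/
theorem fam_restr : ∀ {P U : Subgroup Ω} (h : P ≤ U), SelfCentralizingIn F (T₁ ⊓ T₂) P →
    U ≤ T₁ ⊓ T₂ → ∀ {γ : MulAut U}, γ ∈ fam F M N p U → ∀ {a : MulAut P}, Agree h γ a →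
      a ∈ fam F M N p P := by
  classical
  have hR := (fam_base hS hF hM hN).closed
  suffices key : ∀ (d : ℕ) (P U : Subgroup Ω) (h : P ≤ U), SelfCentralizingIn F (T₁ ⊓ T₂) P →
      U ≤ T₁ ⊓ T₂ → Nat.card U - Nat.card P = d → ∀ γ : MulAut U, γ ∈ fam F M N p U →
      ∀ a : MulAut P, Agree h γ a → a ∈ fam F M N p P from
    fun {P U} h hP hU {γ} hγ {a} hag => key _ P U h hP hU rfl γ hγ a hag
  intro d
  induction d using Nat.strong_induction_on with
  | _ d IH =>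
  intro P U h hP hU hd γ hγ a hag
  have hUS : U ≤ S := hU.trans hR.1
  by_cases hn : U ≤ normalizerIn (T₁ ⊓ T₂) P
  · exact fam_restr_normal hS hF hM hN hP h hn hγ hag
  have hlt : P < U := lt_of_le_of_ne h fun e => hn (e ▸ le_normalizerIn hP.1)
  let U₁ := normalizerIn U P
  have hP₁ : P < U₁ := lt_normalizerIn p hS hUS hlt
  have hU₁ : U₁ ≤ U := normalizerIn_le_S P
  haveI : Finite U := finite_of_le hUS
  haveI : Finite U₁ := finite_of_le (hU₁.trans hUS)
  have hstab : ∀ x : U, (x : Ω) ∈ U₁ → ((γ x : U) : Ω) ∈ U₁ := by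
    intro x hx
    refine ⟨(γ x).2, mem_normalizer_of_conj_mem (h.trans hUS) fun y hy => ?_⟩
    obtain ⟨q, hq⟩ := a.surjective ⟨y, hy⟩
    have h1 : (x : Ω) * (q : Ω) * (x : Ω)⁻¹ ∈ P :=
      (Subgroup.mem_normalizer_iff.1 hx.2 _).1 q.2
    have h2 := hag.map_mem (x := x * Subgroup.inclusion h q * x⁻¹) h1
    rw [map_mul, map_mul, map_inv, Subgroup.coe_mul, Subgroup.coe_mul, InvMemClass.coe_inv,
      hag q, hq] at h2
    exact h2
  obtain ⟨a₁, ha₁⟩ := exists_agree hU₁ γ hstab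
  have hlt' : Nat.card P < Nat.card U₁ := card_lt_of_lt (hU₁.trans hUS) hP₁
  have hle : Nat.card U₁ ≤ Nat.card U := card_le_of_le hUS hU₁
  have hd1 : Nat.card U - Nat.card U₁ < d := by omega
  have ha₁fam := IH _ hd1 U₁ U hU₁ (hP.mono hP₁.le (hU₁.trans hU)) hU rfl γ hγ a₁ ha₁
  refine fam_restr_normal hS hF hM hN hP hP₁.le (fun x hx => ⟨hU (hU₁ hx), hx.2⟩) ha₁fam
    fun x => ?_
  exact (ha₁ _).symm.trans (hag x)

end CfsgLib.Meet
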