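import Cfsg.Agent.Fusion.Meet.LocalGroup
import Cfsg.Agent.Fusion.Meet.Candidate
import Cfsg.Agent.Fusion.ConstrainedNormal

/-!
In the family of the meet of two weakly normal subsystems, the automorphisms induced by the
intersection of the supports are Sylow at fully normalized members.
-/

set_option autoImplicit false
set_option linter.style.haveILetI false
set_option linter.unusedSectionVars false

open Cfsg Cfsg.FusionSystem CfsgLib.Fusion CfsgLib.FocCent CfsgLib.NormCent CfsgLib.NormExt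
open scoped commutatorElement

namespace CfsgLib.Meet

universe u

variable {Ω : Type u} [Group Ω] {S : Subgroup Ω} {F : FusionSystem S} {p : ℕ} {P : Subgroup Ω}
  {hP : P ≤ S} (L : LocalGroup F p P hP)

theorem LocalGroup.ρ_ι (s : ↥(normalizerIn S P)) (v : ↥(P ⊔ centralizerIn S P)) :
    ((L.ρ (L.ι s) v : ↥(P ⊔ centralizerIn S P)) : Ω) = (s : Ω) * v * (s : Ω)⁻¹ := by
  have h := L.act (L.ι s) v
  rw [← map_inv, ← map_mul, ← map_mul] at h
  exact congrArg Subtype.val (L.inj h)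

theorem LocalGroup.res_ι (s : ↥(normalizerIn S P)) (x : P) :
    ((L.res (L.ι s) x : P) : Ω) = (s : Ω) * x * (s : Ω)⁻¹ := by
  rw [← L.agree (L.ι s) x, L.ρ_ι]
  rfl

theorem LocalGroup.res_mem (g : L.G) : L.res g ∈ F.autGroup P :=
  (L.agree g).mem (sup_le hP (centralizerIn_le_S P)) (L.mem g)

variable [Finite S] [Fact p.Prime] (hS : IsPGroup p S) (hF : F.IsSaturated p)
  (hn : F.IsFullyNormalized P) {T : Subgroup Ω} {E : FusionSystem T}

include hS hF hn in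
/-- The normal subgroup of the local group cut out by one weakly normal subsystem. -/
theorem exists_side (hE : E.IsWeaklyNormalIn F p) (hPT : P ≤ T) :
    ∃ K : Subgroup L.G, K.Normal ∧ (∀ s : ↥(normalizerIn S P), (s : Ω) ∈ T → L.ι s ∈ K) ∧
      (∀ g : L.G, (orderOf g).Coprime p → L.res g ∈ E.autGroup P →
        L.ρ g ∈ modStab T (P ⊔ centralizerIn S P) → g ∈ K) ∧
      ∀ s : ↥(normalizerIn S P), L.ι s ∈ K → (s : Ω) ∈ T := by
  classical
  obtain ⟨hEs, -, hinv⟩ := hE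
  have hT := hinv.2.1
  have hTn := stronglyClosed_normal_in_S hT
  haveI : Finite T := finite_of_le hT.1
  have hSt : ∀ g : L.G, ∀ v : ↥(P ⊔ centralizerIn S P), (v : Ω) ∈ T →
      ((L.ρ g v : ↥(P ⊔ centralizerIn S P)) : Ω) ∈ T := fun g v hv =>
    map_mem_of_stronglyClosed hT
      ((autGroup_carrier (sup_le hP (centralizerIn_le_S P))).1 (L.mem g)) (x := v) hv
  let X : Subgroup L.G :=
    (modStab T (P ⊔ centralizerIn S P)).comap L.ρ ⊓ (E.autGroup P).comap L.res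
  have hXn : X.Normal := ⟨fun x hx g => by
    constructor
    · show L.ρ (g * x * g⁻¹) ∈ modStab T (P ⊔ centralizerIn S P)
      rw [map_mul, map_mul, map_inv]
      exact modStab_conj (hSt g) hx.1
    · show L.res (g * x * g⁻¹) ∈ E.autGroup P
      rw [map_mul, map_mul, map_inv, ← congr_eq_conj]
      exact autGroup_equiv hinv hPT (isoIn_of_aut hP (L.res_mem g)) hx.2⟩
  haveI := hXn
  obtain ⟨Syl, hSyl⟩ := L.syl
  obtain ⟨PX, hPX⟩ := exists_sylow_inf X Syl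
  rw [hSyl] at hPX
  have hTX : ∀ s : ↥(normalizerIn S P), (s : Ω) ∈ T → L.ι s ∈ X := by
    intro s hs
    refine ⟨fun v => ?_, ?_⟩
    · rw [L.ρ_ι]
      have h1 : (v : Ω)⁻¹ * s * v ∈ T := by
        have hv : (v : Ω) ∈ S := sup_le hP (centralizerIn_le_S P) v.2
        exact (Subgroup.mem_normalizer_iff''.1 (hTn hv) _).1 hs
      simpa [mul_assoc] using T.mul_mem h1 (T.inv_mem hs)
    · exact autInducedBy_le_autGroup hPT (mem_autInducedBy.2 ⟨s, hs, L.res_ι s⟩)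
  have conjT : ∀ (s : ↥(normalizerIn S P)), (s : Ω) ∈ T → ∀ g : L.G,
      g * L.ι s * g⁻¹ ∈ L.ι.range → ∃ s' : ↥(normalizerIn S P), (s' : Ω) ∈ T ∧
        L.ι s' = g * L.ι s * g⁻¹ := by
    intro s hs g hg
    obtain ⟨φ, h, hφ, hφe⟩ := L.hom (Subgroup.zpowers (s : Ω)) (Subgroup.zpowers_le.2 s.2) g
      fun x => by
        obtain ⟨i, hi⟩ := Subgroup.mem_zpowers_iff.1 x.2
        rw [show (⟨(x : Ω), Subgroup.zpowers_le.2 s.2 x.2⟩ : ↥(normalizerIn S P)) = s ^ i from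
          Subtype.ext (by simp [hi]), map_zpow, ← conj_zpow]
        exact zpow_mem hg i
    exact ⟨_, map_mem_of_stronglyClosed hT hφ (x := ⟨s, Subgroup.mem_zpowers _⟩) hs,
      hφe ⟨s, Subgroup.mem_zpowers _⟩⟩
  -- `T` inside the Sylow subgroup of `X`
  let T₀ : Subgroup X := (img L.ι T).subgroupOf X
  have hT₀P : T₀ ≤ PX := by
    rw [hPX]
    exact fun x hx => Subgroup.mem_subgroupOf.2 (img_le_range T hx)
  have hfoc : Subgroup.focalSubgroup (PX : Subgroup X) ≤ T₀ := by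
    refine (Subgroup.closure_le _).2 ?_
    rintro _ ⟨hgP, x, hxP, g, rfl⟩
    rw [hPX, Subgroup.mem_subgroupOf] at hgP hxP
    obtain ⟨s, hs⟩ := hxP
    have hsE : L.res (L.ι s) ∈ E.autGroup P := by
      rw [hs]
      exact x.2.2
    obtain ⟨t, ht, hte⟩ := mem_autInducedBy.1 (ConstrainedNormal.mem_inducedBy p hS hT.1 hEs
      (fullyNormalized_sub p hS hF hT hinv.1 hPT hn) hsE
      (mem_autInducedBy.2 ⟨s, s.2.1, L.res_ι s⟩))
    have htN : t ∈ normalizerIn S P := ⟨hT.1 ht, mem_normalizer_of_aut hte⟩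
    have hcC : t⁻¹ * (s : Ω) ∈ centralizerIn S P :=
      ⟨mul_mem (S.inv_mem (hT.1 ht)) s.2.1, diff_mem_centralizer fun z hz =>
        (L.res_ι s ⟨z, hz⟩).symm.trans (hte ⟨z, hz⟩)⟩
    let c : ↥(P ⊔ centralizerIn S P) := ⟨t⁻¹ * s, Subgroup.mem_sup_right hcC⟩
    have hc := (show L.ρ (g : L.G) ∈ modStab T (P ⊔ centralizerIn S P) from g.2.1) c
    let d : ↥(normalizerIn S P) := ⟨_, sup_cent_le_normalizerIn hP (L.ρ (g : L.G) c).2⟩
    have hd : L.ι d = (g : L.G) * L.ι ⟨c, sup_cent_le_normalizerIn hP c.2⟩ * (g : L.G)⁻¹ :=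
      L.act g c
    have hse : s = ⟨t, htN⟩ * ⟨c, sup_cent_le_normalizerIn hP c.2⟩ := by
      refine Subtype.ext ?_
      show (s : Ω) = t * (t⁻¹ * s)
      rw [mul_inv_cancel_left]
    have hgx : (g : L.G) * L.ι s * (g : L.G)⁻¹ ∈ L.ι.range := by
      have h1 : (g : L.G) * L.ι s * (g : L.G)⁻¹ =
          ((x : L.G)⁻¹ * (⁅x, g⁆ : X))⁻¹ := by
        rw [hs]
        simp [commutatorElement_def, mul_assoc]
      rw [h1]
      exact inv_mem (mul_mem (inv_mem ⟨s, hs⟩) hgP)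
    obtain ⟨t', ht', ht'e⟩ := conjT ⟨t, htN⟩ ht (g : L.G) (by
      rw [show (g : L.G) * L.ι ⟨t, htN⟩ * (g : L.G)⁻¹ =
        ((g : L.G) * L.ι s * (g : L.G)⁻¹) * (L.ι d)⁻¹ by
          rw [hd, hse, map_mul]; group]
      exact mul_mem hgx (inv_mem ⟨d, rfl⟩))
    refine Subgroup.mem_subgroupOf.2 ⟨s * (t' * d)⁻¹, ?_, ?_⟩
    · rw [SetLike.mem_coe, Subgroup.mem_subgroupOf]
      show (s : Ω) * ((t' : Ω) * (d : Ω))⁻¹ ∈ T
      have hcd : (c : Ω) * (d : Ω)⁻¹ ∈ T := by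
        have h1 := (Subgroup.mem_normalizer_iff.1 (hTn hcC.1) _).1 (T.inv_mem hc)
        have e : (c : Ω) * ((c : Ω)⁻¹ * (d : Ω))⁻¹ * (c : Ω)⁻¹ = (c : Ω) * (d : Ω)⁻¹ := by group
        exact e ▸ h1
      have e : (s : Ω) * ((t' : Ω) * (d : Ω))⁻¹ = t * ((c : Ω) * (d : Ω)⁻¹) * (t' : Ω)⁻¹ := by
        show (s : Ω) * _ = t * (t⁻¹ * s * _) * _
        group
      rw [e]
      exact mul_mem (mul_mem ht hcd) (T.inv_mem ht')
    · rw [map_mul, map_inv, map_mul, ht'e, hd]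
      show L.ι s * _ = (x : L.G) * (g : L.G) * (x : L.G)⁻¹ * (g : L.G)⁻¹
      rw [← hs, hse, map_mul]
      group
  obtain ⟨K, hKn, hTK, hKP, hKco⟩ := ConstrainedNormal.exists_kernel PX T₀ hT₀P hfoc
  haveI := hKn
  -- conjugates of `T` lie in the kernel
  have hconj : ∀ t : ↥(normalizerIn S P), (t : Ω) ∈ T → ∀ g : L.G,
      ∃ k : X, k ∈ K ∧ (k : L.G) = g * L.ι t * g⁻¹ := by
    intro t ht g
    refine ⟨⟨_, hXn.conj_mem _ (hTX t ht) g⟩, ?_, rfl⟩
    have hp : IsPGroup p (Subgroup.zpowers (⟨_, hXn.conj_mem _ (hTX t ht) g⟩ : X)) := by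
      obtain ⟨k, hk⟩ := (isPGroup_of_le hS (normalizerIn_le_S P)) t
      refine isPGroup_zpowers (k := k) (Subtype.ext ?_)
      show (g * L.ι t * g⁻¹) ^ p ^ k = 1
      rw [conj_pow, ← map_pow, hk, map_one, mul_one, mul_inv_cancel]
    obtain ⟨Q, hQ⟩ := hp.exists_le_sylow
    obtain ⟨y, hy⟩ := MulAction.exists_smul_eq X Q PX
    have hyP : y * ⟨_, hXn.conj_mem _ (hTX t ht) g⟩ * y⁻¹ ∈ (PX : Subgroup X) := by
      rw [← hy, Sylow.coe_subgroup_smul]
      exact ⟨_, hQ (Subgroup.mem_zpowers _), rfl⟩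
    have hyK : y * ⟨_, hXn.conj_mem _ (hTX t ht) g⟩ * y⁻¹ ∈ K := by
      refine hTK ?_
      rw [hPX, Subgroup.mem_subgroupOf] at hyP
      have e : ((y * ⟨_, hXn.conj_mem _ (hTX t ht) g⟩ * y⁻¹ : X) : L.G) =
          ((y : L.G) * g) * L.ι t * ((y : L.G) * g)⁻¹ := by simp [mul_assoc]
      obtain ⟨t', ht', ht'e⟩ := conjT t ht ((y : L.G) * g) (e ▸ hyP)
      refine Subgroup.mem_subgroupOf.2 ?_
      rw [e, ← ht'e]
      exact apply_mem_img ht'
    have := hKn.conj_mem _ hyK y⁻¹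
    simpa [mul_assoc] using this
  let gens : Set L.G := {g | (∃ t : ↥(normalizerIn S P), (t : Ω) ∈ T ∧ L.ι t = g) ∨
    ((orderOf g).Coprime p ∧ g ∈ X)}
  have hle : Subgroup.normalClosure gens ≤ K.map X.subtype := by
    refine (Subgroup.closure_le _).2 fun k hk => ?_
    obtain ⟨a, ha, hak⟩ := Group.mem_conjugatesOfSet_iff.1 hk
    obtain ⟨g, hg⟩ := isConj_iff.1 hak
    subst hg
    rcases ha with ⟨t, ht, rfl⟩ | ⟨hco, haX⟩
    · obtain ⟨k, hk, hke⟩ := hconj t ht g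
      exact ⟨k, hk, hke⟩
    · refine ⟨⟨_, hXn.conj_mem _ haX g⟩, hKco _ ?_, rfl⟩
      rw [← Subgroup.orderOf_coe]
      show (orderOf (MulAut.conj g a)).Coprime p
      rw [MulEquiv.orderOf_eq]
      exact hco
  refine ⟨Subgroup.normalClosure gens, inferInstance,
    fun s hs => Subgroup.subset_normalClosure (Or.inl ⟨s, hs, rfl⟩),
    fun g hco h1 h2 => Subgroup.subset_normalClosure (Or.inr ⟨hco, h2, h1⟩), fun s hs => ?_⟩
  obtain ⟨k, hk, hke⟩ := hle hs
  have h1 : k ∈ T₀ := hKP k hk (by rw [hPX, Subgroup.mem_subgroupOf]; exact ⟨s, hke.symm⟩)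
  rw [Subgroup.mem_subgroupOf] at h1
  exact (mem_img L.inj).1 (hke ▸ h1)

variable {T₁ T₂ : Subgroup Ω} {M : FusionSystem T₁} {N : FusionSystem T₂}

include hS hF hn in
/-- The automorphisms induced by `T₁ ⊓ T₂` are Sylow in the family at a fully normalized member. -/
theorem fam_sylow (hM : M.IsWeaklyNormalIn F p) (hN : N.IsWeaklyNormalIn F p)
    (hsc : SelfCentralizingIn F (T₁ ⊓ T₂) P) {B : Subgroup (MulAut P)} (hB : IsPGroup p B)
    (h1 : autInducedBy (T₁ ⊓ T₂) P ≤ B) (h2 : B ≤ fam F M N p P) :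
    B ≤ autInducedBy (T₁ ⊓ T₂) P := by
  classical
  have hR : F.StronglyClosed (T₁ ⊓ T₂) := stronglyClosed_meet hM.2.2.2.1 hN.2.2.2.1
  have hPS : P ≤ S := hn.1
  obtain ⟨L⟩ := exists_localGroup hS hF hn
  obtain ⟨KM, hKMn, hMT, hMco, hMT'⟩ := exists_side L hS hF hn hM (hsc.1.trans inf_le_left)
  obtain ⟨KN, hKNn, hNT, hNco, hNT'⟩ := exists_side L hS hF hn hN (hsc.1.trans inf_le_right)
  let KK := KM ⊓ KN
  haveI hKKn : KK.Normal := Subgroup.normal_inf_normal KM KN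
  have hc := fullyCentralized_of_fullyNormalized p hS hF hn
  have hVS : P ⊔ centralizerIn S P ≤ S := sup_le hPS (centralizerIn_le_S P)
  haveI : Finite P := finite_of_le hPS
  haveI : Finite (MulAut P) := finite_mulAut
  have hfam : fam F M N p P ≤ KK.map L.res := by
    refine (Subgroup.closure_le _).2 ?_
    rintro a (⟨hco, haM, haN, ham⟩ | ⟨P', e, r, c, he, hr, hcr, rfl⟩)
    · obtain ⟨β, hβ, hβa, hβm⟩ := (mem_modP_self hS hF hc).1 ham
      obtain ⟨g, hgρ, hgres⟩ := L.onto β hβ a hβa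
      obtain ⟨k, hk1, hk2⟩ := ConstrainedNormal.exists_pow_coprime p g
      have hres : L.res (g ^ k) = a := by
        rw [map_pow, hgres]
        exact hk2 a hco (hgres ▸ orderOf_map_dvd L.res g)
      have hst : β ∈ modStab P (P ⊔ centralizerIn S P) := fun v => by
        obtain ⟨u, hu, w, hw, hv⟩ := exists_mul_sup v.2
        have hve : v = Subgroup.inclusion le_sup_left (⟨u, hu⟩ : P) *
            Subgroup.inclusion le_sup_right (⟨w, hw⟩ : centralizerIn S P) := Subtype.ext hv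
        rw [hve, map_mul, Subgroup.coe_mul, Subgroup.coe_mul, hβa]
        show (u * w)⁻¹ * ((a ⟨u, hu⟩ : P) * _) ∈ P
        have hx : u⁻¹ * ((a ⟨u, hu⟩ : P) : Ω) ∈ P := mul_mem (P.inv_mem hu) (a ⟨u, hu⟩).2
        have e : w⁻¹ * (u⁻¹ * ((a ⟨u, hu⟩ : P) : Ω)) = u⁻¹ * ((a ⟨u, hu⟩ : P) : Ω) * w⁻¹ :=
          ((centralizerIn S P).inv_mem hw).2 _ hx |>.symm
        rw [show (u * w)⁻¹ * (((a ⟨u, hu⟩ : P) : Ω) *
          ((β (Subgroup.inclusion le_sup_right (⟨w, hw⟩ : centralizerIn S P)) :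
            ↥(P ⊔ centralizerIn S P)) : Ω)) = w⁻¹ * (u⁻¹ * ((a ⟨u, hu⟩ : P) : Ω)) *
          ((β (Subgroup.inclusion le_sup_right (⟨w, hw⟩ : centralizerIn S P)) :
            ↥(P ⊔ centralizerIn S P)) : Ω) by group, e, mul_assoc]
        exact mul_mem hx (hβm (Subgroup.inclusion le_sup_right ⟨w, hw⟩) hw)
      have hstk : L.ρ (g ^ k) ∈ modStab P (P ⊔ centralizerIn S P) := by
        rw [map_pow, hgρ]
        exact pow_mem hst k
      exact ⟨g ^ k, ⟨hMco _ hk1 (hres.symm ▸ haM) fun v => (hsc.1 (hstk v)).1,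
        hNco _ hk1 (hres.symm ▸ haN) fun v => (hsc.1 (hstk v)).2⟩, hres⟩
    · obtain ⟨hfa, hrec⟩ := good_of_fullyNormalized p hS hF hn
      obtain ⟨φ, hφ, hφN, hφP⟩ := exists_map_normalizer p hS hfa hrec he.isConj
      obtain ⟨f, hf, hfe⟩ := Mor.of_mem hφ
      have hP'S := he.le_left
      have hfi : Im f P' P := fun y => by
        constructor
        · intro hy
          obtain ⟨x, hx, hxP, hxe⟩ := mem_map_subgroupOf.1 (hφP.ge hy)
          exact ⟨x, hxP, (hfe ⟨x, hx⟩).trans hxe⟩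
        · rintro ⟨x, hx, rfl⟩
          rw [hfe ⟨x, le_normalizerIn hP'S hx⟩, ← hφP]
          exact mem_map_subgroupOf.2 ⟨x, _, hx, rfl⟩
      obtain ⟨e', he', hee'⟩ := exists_isoIn hf (le_normalizerIn hP'S) hfi
      let θ : MulAut P := e'.symm.trans e
      have hrN : r ∈ normalizerIn S P' := ⟨hR.1 hr.1, hr.2⟩
      let r' : ↥(normalizerIn S P) :=
        ⟨f r, Set.mem_of_eq_of_mem (hfe ⟨r, hrN⟩) (hφN _)⟩
      have hr'R : (r' : Ω) ∈ T₁ ⊓ T₂ := mor_apply_mem hR hf hrN hr.1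
      have hθ : θ ∈ F.autGroup P := mem_aut_of_isoIn (he'.symm.trans he)
      obtain ⟨β, hβ, hβe⟩ := saturated_extend p hS hF ((autGroup_carrier hPS).1 hθ)
        (by rw [range_subtype_comp]; exact hc) (N := P ⊔ centralizerIn S P)
        (sup_le (le_extender ((autGroup_carrier hPS).1 hθ)) (centralizerIn_le_extender P _))
      have hβr : β.range = P ⊔ centralizerIn S P := by
        refine eq_of_le_of_card_le hVS ?_ (card_range hβ).ge
        have hmP : (P.subgroupOf (P ⊔ centralizerIn S P)).map β = P :=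
          (map_eq_range_of_eq le_sup_left hβe).trans (range_subtype_comp θ)
        rw [range_eq_sup, hmP]
        refine sup_le_sup_left (fun y hy => ?_) P
        obtain ⟨x, hx, hxC, rfl⟩ := mem_map_subgroupOf.1 hy
        have h1 := map_mem_centralizerIn hβ (P := P) le_sup_left hxC hx
        rwa [hmP] at h1
      let B' := autOfRange β (F.injective_of_mem hβ) hβr
      obtain ⟨g, -, hgres⟩ := L.onto B' (autOfRange_mem hβ hβr) θ fun x => hβe x x.2 _
      refine ⟨g * L.ι r' * g⁻¹, hKKn.conj_mem _ ⟨hMT r' hr'R.1, hNT r' hr'R.2⟩ g, ?_⟩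
      rw [map_mul, map_mul, map_inv, hgres, ← congr_eq_conj]
      have h3 : L.res (L.ι r') = MulAut.congr e' c := MulEquiv.ext fun x => Subtype.ext
        ((L.res_ι r' x).trans (congr_conj_apply hf (le_normalizerIn hP'S) hee' hrN hcr x).symm)
      rw [h3]
      exact MulEquiv.ext fun x => by simp [θ]
  -- the Sylow subgroups
  obtain ⟨Syl, hSyl⟩ := L.syl
  obtain ⟨PK, hPK⟩ := exists_sylow_inf KK Syl
  let resK : KK →* ↥(KK.map L.res) := L.res.subgroupMap KK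
  let PH := PK.mapSurjective (f := resK) (L.res.subgroupMap_surjective KK)
  have hPH : (PH : Subgroup ↥(KK.map L.res)).map (KK.map L.res).subtype ≤
      autInducedBy (T₁ ⊓ T₂) P := by
    rintro _ ⟨_, hy, rfl⟩
    rw [SetLike.mem_coe, Sylow.coe_mapSurjective] at hy
    obtain ⟨k, hk, rfl⟩ := hy
    rw [SetLike.mem_coe, hPK, Subgroup.mem_subgroupOf, hSyl] at hk
    obtain ⟨s, hs⟩ := hk
    refine mem_autInducedBy.2 ⟨s, ⟨hMT' s (hs ▸ k.2.1), hNT' s (hs ▸ k.2.2)⟩, fun x => ?_⟩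
    show ((L.res (k : L.G) x : P) : Ω) = _
    rw [← hs, L.res_ι]
  have hBH : B ≤ KK.map L.res := h2.trans hfam
  intro b hb
  have hmax : B.subgroupOf (KK.map L.res) = PH := by
    refine PH.3 (hB.comap_of_injective _ (Subgroup.subtype_injective _)) fun y hy => ?_
    exact Subgroup.mem_subgroupOf.2 (h1 (hPH ⟨y, hy, rfl⟩))
  exact hPH ⟨⟨b, hBH hb⟩, hmax.le (Subgroup.mem_subgroupOf.2 hb), rfl⟩

end CfsgLib.Meet
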